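import Cfsg.Agent.KFacts.FiTF.Frame
import Cfsg.Agent.KFacts.SheetOf

/-!
# `Frame → SheetE` (helper528)

`key`: every automorphism of `P` (the last term of the derived series of `C_K(z)`) fixing `z` is the conjugation by an
element of `C_F(z)`; `aut`: the same for automorphisms of `K`. `Frame.sheetE`.
-/

set_option autoImplicit false

namespace Cfsg.Agent.KFacts.FiTF

open Subgroup Cfsg.Agent.Co2Type.Quad Cfsg.Agent.KFacts.LargeO2 Cfsg.Agent.OddHalf
open scoped commutatorElement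

variable {F : Type*} [Group F] {K : Subgroup F} {z : F} {R E : Subgroup F} {Om : Set F}

namespace Abs

theorem large (h : Frame K z R E Om) : Large R z where
  z_mem := h.zR
  z_ne := h.z1
  z_sq := h.zz
  comm_z x hx := h.Ez x (h.RE hx)
  conj_mem := h.norm
  sq := h.sq
  comm x hx y hy := by
    rcases h.com x hx y hy with h1 | h1
    · exact Or.inl h1
    · right; rw [h1, h.Ez _ (mul_mem (h.RE hy) (h.RE hx))]
  cent x hx hc := h.ctr x hx fun s hs => (hc s hs).symm
  self g hg hc := by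
    rcases h.cent g hc with rfl | rfl
    · exact R.one_mem
    · exact h.zR

theorem exists_nontriv (h : Frame K z R E Om) : ∃ x ∈ R, x ≠ 1 ∧ x ≠ z := by
  by_contra hcon
  push Not at hcon
  have h1 : (R : Set F) ⊆ {1, z} := by
    intro x hx
    by_cases h2 : x = 1
    · exact Or.inl h2
    · exact Or.inr (hcon x hx h2)
  have h2 := Set.ncard_le_ncard h1 (Set.toFinite _)
  have h3 : (R : Set F).ncard = 8192 := h.cardR
  have h4 : ({1, z} : Set F).ncard ≤ 2 := Set.ncard_insert_le 1 {z} |>.trans (by rw [Set.ncard_singleton])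
  omega

/-- a 2-group acting on `R/⟨z⟩` has nontrivial fixed points -/
theorem exists_fix [Finite F] {Q : Subgroup F} (h : Large Q z) (hQ : ∃ x ∈ Q, x ≠ 1 ∧ x ≠ z)
    {W : Subgroup F} (hW : IsPGroup 2 W) (hWz : ∀ w ∈ W, w * z = z * w) :
    ∃ x ∈ Q, x ≠ 1 ∧ x ≠ z ∧ ∀ w ∈ W, w * x * w⁻¹ = x ∨ w * x * w⁻¹ = x * z := by
  let _ : MulAction W h.V :=
    { smul := fun w v => h.act ⟨w, Subgroup.mem_centralizer_singleton_iff.2 (hWz w w.2)⟩ v
      one_smul := fun v => by
        show h.act ⟨((1 : W) : F), _⟩ v = v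
        have : (⟨((1 : W) : F), Subgroup.mem_centralizer_singleton_iff.2 (hWz _ (1 : W).2)⟩ :
          Subgroup.centralizer ({z} : Set F)) = 1 := rfl
        rw [this, map_one]; rfl
      mul_smul := fun a b v => by
        show h.act ⟨((a * b : W) : F), _⟩ v = h.act ⟨a, _⟩ (h.act ⟨b, _⟩ v)
        have : (⟨((a * b : W) : F), Subgroup.mem_centralizer_singleton_iff.2 (hWz _ (a * b).2)⟩ :
          Subgroup.centralizer ({z} : Set F)) =
            ⟨a, Subgroup.mem_centralizer_singleton_iff.2 (hWz a a.2)⟩ *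
            ⟨b, Subgroup.mem_centralizer_singleton_iff.2 (hWz b b.2)⟩ := rfl
        rw [this, map_mul]; rfl }
  have hsm : ∀ (w : W) (v : h.V), w • v =
      h.act ⟨w, Subgroup.mem_centralizer_singleton_iff.2 (hWz w w.2)⟩ v := fun _ _ => rfl
  obtain ⟨x0, hx0, hx01, hx0z⟩ := hQ
  have hne : h.pr ⟨x0, hx0⟩ ≠ 0 := by
    intro h1
    rcases h.pr_eq_zero.1 h1 with h2 | h2
    · exact hx01 h2
    · exact hx0z h2
  have h2V : 2 ∣ Nat.card h.V := by
    have h1 : addOrderOf (h.pr ⟨x0, hx0⟩) = 2 := by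
      apply addOrderOf_eq_prime
      · rw [two_nsmul]; exact h.add_self _
      · exact hne
    rw [← h1]
    exact addOrderOf_dvd_natCard _
  have h0 : (0 : h.V) ∈ MulAction.fixedPoints W h.V := fun w => by
    rw [hsm, map_zero]
  obtain ⟨v, hv, hv0⟩ := hW.exists_fixed_point_of_prime_dvd_card_of_fixed_point h.V h2V h0
  obtain ⟨x, rfl⟩ := h.pr_surjective v
  refine ⟨x, x.2, ?_, ?_, ?_⟩
  · intro h1
    exact hv0 (h.pr_eq_zero.2 (Or.inl h1)).symm
  · intro h1
    exact hv0 (h.pr_eq_zero.2 (Or.inr h1)).symm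
  · intro w hw
    have h1 := hv ⟨w, hw⟩
    rw [hsm, h.act_pr, h.pr_eq_pr] at h1
    exact h1

/-- a 2-subgroup of `C_F(z)` normalised by `E` modulo `R` lies in `R` -/
theorem le_of_inv [Finite F] (h : Frame K z R E Om) {W : Subgroup F} (hW : IsPGroup 2 W)
    (hWz : ∀ w ∈ W, w * z = z * w)
    (hinv : ∀ u ∈ E, ∀ w ∈ W, ∃ w' ∈ W, ∃ r ∈ R, u⁻¹ * w * u = w' * r) : W ≤ R := by
  have hL := large h
  obtain ⟨x, hx, hx1, hxz, hxW⟩ := exists_fix hL (exists_nontriv h) hW hWz
  have hRz : ∀ y ∈ R, y * z = z * y := hL.comm_z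
  have h1 := h.irr (fixQ hL (W : Set F)) (fun y hy => hy.1) (by
    rintro u hu y ⟨hyR, hy⟩
    refine ⟨h.norm u (h.Ez u hu) y hyR, fun w hw => ?_⟩
    obtain ⟨w', hw', r, hr, e⟩ := hinv u hu w hw
    have e1 : w * (u * y * u⁻¹) * w⁻¹ = u * (w' * (r * y * r⁻¹) * w'⁻¹) * u⁻¹ := by
      have e2 : w = u * (w' * r) * u⁻¹ := by rw [← e]; group
      rw [e2]; group
    have hzc : ∀ t : F, t * z = z * t → t * z * t⁻¹ = z := by
      intro t ht; rw [ht, mul_inv_cancel_right]
    have hw'z := hzc w' (hWz w' hw')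
    have huz := hzc u (h.Ez u hu)
    have hry : r * y * r⁻¹ = y ∨ r * y * r⁻¹ = y * z := by
      rcases hL.comm r hr y hyR with h2 | h2
      · left; rw [h2, mul_inv_cancel_right]
      · right
        rw [h2, mul_assoc, mul_assoc]
        congr 1
        rw [← mul_assoc, hRz r hr, mul_inv_cancel_right]
    have hzz : y * z * z = y := by rw [mul_assoc, h.zz, mul_one]
    have c1 : ∀ t : F, u * (t * z) * u⁻¹ = u * t * u⁻¹ * z := by
      intro t
      calc u * (t * z) * u⁻¹ = u * t * u⁻¹ * (u * z * u⁻¹) := by group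
        _ = _ := by rw [huz]
    have c2 : ∀ t : F, w' * (t * z) * w'⁻¹ = w' * t * w'⁻¹ * z := by
      intro t
      calc w' * (t * z) * w'⁻¹ = w' * t * w'⁻¹ * (w' * z * w'⁻¹) := by group
        _ = _ := by rw [hw'z]
    rw [e1]
    rcases hry with h2 | h2 <;> rcases hy w' hw' with h3 | h3
    · left; rw [h2, h3]
    · right; rw [h2, h3, c1]
    · right; rw [h2, c2, h3, c1]
    · left; rw [h2, c2, h3, hzz])
  rcases h1 with h1 | h1
  · exfalso
    rcases h1 x ⟨hx, hxW⟩ with h2 | h2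
    · exact hx1 h2
    · exact hxz h2
  · intro w hw
    apply mem_of_triv hL (hWz w hw)
    intro y hy
    rw [← h1] at hy
    exact hy.2 w hw

/-- `z` as an element of `K` -/
def zK (h : Frame K z R E Om) : K := ⟨z, h.EK (h.RE h.zR)⟩

/-- the properties of `P` -/
structure PS (h : Frame K z R E Om) (P : Subgroup K) : Prop where
  cen : ∀ x ∈ P, x * zK h = zK h * x
  perf : ⁅P, P⁆ = P
  der : ∃ m, TR.dser m (centralizer ({zK h} : Set K)) ≤ P
  E_le : ∀ x : K, (x : F) ∈ E → x ∈ P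

theorem exists_PS [Finite F] (h : Frame K z R E Om) : ∃ P : Subgroup K, PS h P := by
  obtain ⟨n, hn⟩ := SheetOf.exists_perfect (centralizer ({zK h} : Set K))
  have h1 : TR.dser n (centralizer ({zK h} : Set K)) ≤ centralizer ({zK h} : Set K) := TR.dser_le n _
  refine ⟨TR.dser n (centralizer ({zK h} : Set K)), fun x hx => mem_centralizer_singleton_iff.1 (h1 hx), hn,
    ⟨n, le_rfl⟩, ?_⟩
  have hE : ⁅E.subgroupOf K, E.subgroupOf K⁆ = E.subgroupOf K := by
    apply Subgroup.map_injective K.subtype_injective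
    rw [Subgroup.map_commutator, Subgroup.map_subgroupOf_eq_of_le h.EK, h.perf]
  have hEC : E.subgroupOf K ≤ centralizer ({zK h} : Set K) := by
    intro x hx
    rw [mem_centralizer_singleton_iff]
    exact Subtype.ext (h.Ez x hx)
  have h2 := TR.dser_mono n hEC
  rw [TR.dser_of_perfect n hE] at h2
  intro x hx
  exact h2 hx

section

variable {h : Frame K z R E Om} {P : Subgroup K}

theorem PS.zF (hP : PS h P) {x : K} (hx : x ∈ P) : (x : F) * z = z * x := congrArg Subtype.val (hP.cen x hx)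

theorem PS.R_le (hP : PS h P) {x : K} (hx : (x : F) ∈ R) : x ∈ P := hP.E_le x (h.RE hx)

theorem PS.zP (hP : PS h P) : zK h ∈ P := hP.R_le h.zR

/-- an automorphism of `P` preserves `R` -/
theorem map_R [Finite F] (hP : PS h P) (β : MulAut P) {x : P}
    (hx : ((x : K) : F) ∈ R) : ((β x : K) : F) ∈ R := by
  let RP : Subgroup P := (R.subgroupOf K).subgroupOf P
  let W : Subgroup F := (((RP.map β.toMonoidHom).map P.subtype).map K.subtype)
  have hRP2 : IsPGroup 2 RP := by
    intro y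
    refine ⟨2, Subtype.ext (Subtype.ext (Subtype.ext ?_))⟩
    show (((y : P) : K) : F) ^ (2 ^ 2) = 1
    have hy : (((y : P) : K) : F) ∈ R := y.2
    have e : (((y : P) : K) : F) ^ (2 ^ 2) = ((((y : P) : K) : F) * (((y : P) : K) : F)) *
        ((((y : P) : K) : F) * (((y : P) : K) : F)) := by
      rw [show (2 : ℕ) ^ 2 = 4 by norm_num, pow_succ, pow_succ, pow_succ, pow_one]; group
    rw [e]
    rcases h.sq _ hy with h1 | h1
    · rw [h1, one_mul]
    · rw [h1, h.zz]
  have hW : IsPGroup 2 W := ((hRP2.map _).map _).map _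
  have hle : W ≤ R := by
    apply le_of_inv h hW
    · rintro _ ⟨_, ⟨y, _, rfl⟩, rfl⟩
      exact hP.zF y.2
    · rintro u hu _ ⟨_, ⟨_, ⟨y, hy, rfl⟩, rfl⟩, rfl⟩
      let u' : P := ⟨⟨u, h.EK hu⟩, hP.E_le _ hu⟩
      refine ⟨u⁻¹ * (((β y : P) : K) : F) * u, ?_, 1, R.one_mem, by rw [mul_one]; rfl⟩
      refine ⟨_, ⟨β ((β.symm u')⁻¹ * y * β.symm u'), ⟨_, ?_, rfl⟩, rfl⟩, ?_⟩
      · show ((((β.symm u')⁻¹ * y * β.symm u' : P) : K) : F) ∈ R
        have h1 := h.norm ((((β.symm u')⁻¹ : P) : K) : F) (hP.zF ((β.symm u')⁻¹).2) _ hy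
        have e : ((((β.symm u')⁻¹ * y * β.symm u' : P) : K) : F) =
            ((((β.symm u')⁻¹ : P) : K) : F) * ((y : K) : F) * (((((β.symm u')⁻¹ : P) : K) : F))⁻¹ := by
          simp
        rw [e]; exact h1
      · show ((((β ((β.symm u')⁻¹ * y * β.symm u')) : P) : K) : F) = _
        rw [map_mul, map_mul, map_inv, MulEquiv.apply_symm_apply]
        rfl
  exact hle ⟨_, ⟨β x, ⟨x, hx, rfl⟩, rfl⟩, rfl⟩

theorem coe_injective {x y : P} (hxy : ((x : K) : F) = y) : x = y := Subtype.ext (Subtype.ext hxy)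

/-- **every automorphism of `P` fixing `z` is induced by `C_F(z)`** -/
theorem key [Finite F] (hP : PS h P) (β : MulAut P) (hβ : β ⟨zK h, hP.zP⟩ = ⟨zK h, hP.zP⟩) :
    ∃ g : F, g * z = z * g ∧ ∀ x : P, ((β x : K) : F) = g * x * g⁻¹ := by
  classical
  have hβ' : β.symm ⟨zK h, hP.zP⟩ = ⟨zK h, hP.zP⟩ := by
    rw [MulEquiv.symm_apply_eq]; exact hβ.symm
  let inc : R → P := fun r => ⟨⟨r, h.EK (h.RE r.2)⟩, hP.R_le r.2⟩
  have hinc : ∀ r : R, (((inc r : P) : K) : F) = r := fun _ => rfl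
  let f : MulAut R :=
    { toFun := fun r => ⟨((β (inc r) : K) : F), map_R hP β r.2⟩
      invFun := fun r => ⟨((β.symm (inc r) : K) : F), map_R hP β.symm r.2⟩
      left_inv := fun r => by
        apply Subtype.ext
        show ((β.symm (inc ⟨((β (inc r) : K) : F), _⟩) : K) : F) = r
        have e : inc ⟨((β (inc r) : K) : F), map_R hP β r.2⟩ = β (inc r) := coe_injective rfl
        rw [e, MulEquiv.symm_apply_apply]
      right_inv := fun r => by
        apply Subtype.ext
        show ((β (inc ⟨((β.symm (inc r) : K) : F), _⟩) : K) : F) = r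
        have e : inc ⟨((β.symm (inc r) : K) : F), map_R hP β.symm r.2⟩ = β.symm (inc r) := coe_injective rfl
        rw [e, MulEquiv.apply_symm_apply]
      map_mul' := fun r s => by
        apply Subtype.ext
        show ((β (inc (r * s)) : K) : F) = ((β (inc r) : K) : F) * ((β (inc s) : K) : F)
        have e : inc (r * s) = inc r * inc s := rfl
        rw [e, map_mul]; rfl }
  have hfval : ∀ r : R, (f r : F) = ((β (inc r) : K) : F) := fun _ => rfl
  obtain ⟨g, hg, hgf⟩ := h.lin f (by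
    rw [hfval]
    have e : inc ⟨z, h.zR⟩ = ⟨zK h, hP.zP⟩ := rfl
    rw [e, hβ]; rfl) (by
    intro r hr
    by_contra hcon
    let ψ : F → F := fun y => if hy : y ∈ K ∧ ∀ hyK : y ∈ K, (⟨y, hyK⟩ : K) ∈ P then
      ((β ⟨⟨y, hy.1⟩, hy.2 hy.1⟩ : K) : F) else y
    have hψ : ∀ x : P, ψ ((x : K) : F) = ((β x : K) : F) := by
      intro x
      simp only [ψ]
      rw [dif_pos ⟨x.1.2, fun _ => x.2⟩]
    have h1 : {b : F | ∃ u ∈ E, u * (f r : F) * u⁻¹ = b} ⊆ ψ '' Om := by
      rintro _ ⟨u, hu, rfl⟩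
      let u' : P := ⟨⟨u, h.EK hu⟩, hP.E_le _ hu⟩
      refine ⟨(((β.symm u' * inc r * (β.symm u')⁻¹ : P) : K) : F), ?_, ?_⟩
      · have h2 := h.OmC (((β.symm u' : P) : K) : F) (hP.zF (β.symm u').2) r hr
        simpa using h2
      · rw [hψ, map_mul, map_mul, map_inv, MulEquiv.apply_symm_apply]
        rfl
    have h2 := h.OmOther (f r) (f r).2 (by
      intro h3
      have h4 : f r = f 1 := by rw [map_one]; exact Subtype.ext h3
      have h5 := f.injective h4
      have h6 : (r : F) = 1 := by rw [h5]; rfl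
      -- `1` is not in `Om`: else all the other elements... use the class of `f r = 1`
      exact absurd hcon (by
        rw [not_not, h3, ← h6]; exact hr)) (by
      intro h3
      have h4 : f r = f ⟨z, h.zR⟩ := by
        apply Subtype.ext
        rw [h3, hfval]
        have e : inc ⟨z, h.zR⟩ = ⟨zK h, hP.zP⟩ := rfl
        rw [e, hβ]; rfl
      have h5 := f.injective h4
      have h6 : (r : F) = z := by rw [h5]
      exact hcon (by rw [h3, ← h6]; exact hr)) hcon
    have h3 := Set.ncard_le_ncard h1 (Set.toFinite _)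
    have h4 := Set.ncard_image_le (f := ψ) (Set.toFinite Om)
    have h5 := h.OmCard
    omega)
  refine ⟨g, hg, ?_⟩
  have hgi : g⁻¹ * z = z * g⁻¹ := by
    rw [inv_mul_eq_iff_eq_mul, ← mul_assoc, hg, mul_assoc, mul_inv_cancel, mul_one]
  -- the difference is central
  have hdiff : ∀ x : P, ((β x : K) : F) = g * x * g⁻¹ ∨ ((β x : K) : F) = g * x * g⁻¹ * z := by
    intro x
    have h1 : ∀ s ∈ R, ((g * x * g⁻¹)⁻¹ * ((β x : K) : F)) * s = s * ((g * x * g⁻¹)⁻¹ * ((β x : K) : F)) := by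
      intro s hs
      -- `s = g r g⁻¹`
      have hr : g⁻¹ * s * g ∈ R := by
        have := h.norm g⁻¹ hgi s hs
        rwa [inv_inv] at this
      have hsr : s = ((β (inc ⟨g⁻¹ * s * g, hr⟩) : K) : F) := by
        rw [← hfval, hgf]
        show s = g * (g⁻¹ * s * g) * g⁻¹
        group
      have hxr : (x : K) * (x : K)⁻¹ = 1 := mul_inv_cancel _
      have h2 : ((x : K) : F) * (g⁻¹ * s * g) * ((x : K) : F)⁻¹ ∈ R := h.norm _ (hP.zF x.2) _ hr
      have h3 : ((β x : K) : F) * s * ((β x : K) : F)⁻¹ =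
          g * (((x : K) : F) * (g⁻¹ * s * g) * ((x : K) : F)⁻¹) * g⁻¹ := by
        have h4 := hgf ⟨_, h2⟩
        rw [hfval] at h4
        have e : inc ⟨((x : K) : F) * (g⁻¹ * s * g) * ((x : K) : F)⁻¹, h2⟩ =
            x * inc ⟨g⁻¹ * s * g, hr⟩ * x⁻¹ := coe_injective rfl
        rw [e, map_mul, map_mul, map_inv] at h4
        conv_lhs => rw [hsr]
        exact h4
      have h4 : ((β x : K) : F) * s = (g * x * g⁻¹) * s * (g * x * g⁻¹)⁻¹ * ((β x : K) : F) := by
        rw [← mul_inv_eq_iff_eq_mul, h3]; group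
      calc (g * x * g⁻¹)⁻¹ * ((β x : K) : F) * s = (g * x * g⁻¹)⁻¹ * (((β x : K) : F) * s) := by group
        _ = (g * x * g⁻¹)⁻¹ * ((g * x * g⁻¹) * s * (g * x * g⁻¹)⁻¹ * ((β x : K) : F)) := by rw [h4]
        _ = _ := by group
    rcases h.cent _ h1 with h2 | h2
    · left; rw [inv_mul_eq_one] at h2; exact h2.symm
    · right; rw [inv_mul_eq_iff_eq_mul] at h2; exact h2
  -- `P` is perfect
  let N : Subgroup K :=
    { carrier := {x | ∃ hx : x ∈ P, ((β ⟨x, hx⟩ : K) : F) = g * x * g⁻¹}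
      one_mem' := ⟨P.one_mem, by
        have e : (⟨1, P.one_mem⟩ : P) = 1 := rfl
        rw [e, map_one]; simp⟩
      mul_mem' := by
        rintro x y ⟨hx, hx'⟩ ⟨hy, hy'⟩
        refine ⟨P.mul_mem hx hy, ?_⟩
        have e : (⟨x * y, P.mul_mem hx hy⟩ : P) = ⟨x, hx⟩ * ⟨y, hy⟩ := rfl
        rw [e, map_mul, Subgroup.coe_mul, Subgroup.coe_mul, hx', hy', Subgroup.coe_mul]; group
      inv_mem' := by
        rintro x ⟨hx, hx'⟩
        refine ⟨P.inv_mem hx, ?_⟩
        have e : (⟨x⁻¹, P.inv_mem hx⟩ : P) = ⟨x, hx⟩⁻¹ := rfl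
        rw [e, map_inv, Subgroup.coe_inv, Subgroup.coe_inv, hx', Subgroup.coe_inv]; group }
  have hN : P ≤ N := by
    rw [← hP.perf, Subgroup.commutator_le]
    intro x hx y hy
    have hxy : ⁅x, y⁆ ∈ P := by
      have := Subgroup.commutator_mem_commutator hx hy
      rwa [hP.perf] at this
    refine ⟨hxy, ?_⟩
    have e : (⟨⁅x, y⁆, hxy⟩ : P) = ⁅(⟨x, hx⟩ : P), ⟨y, hy⟩⁆ := rfl
    have hzc : ∀ t : F, t * z = z * t → z * t * z = t := by
      intro t ht; rw [← ht, mul_assoc, h.zz, mul_one]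
    have hXz : (g * x * g⁻¹) * z = z * (g * x * g⁻¹) := by
      calc (g * (x : F) * g⁻¹) * z = g * (x : F) * (g⁻¹ * z) := by group
        _ = g * ((x : F) * z) * g⁻¹ := by rw [hgi]; group
        _ = (g * z) * (x : F) * g⁻¹ := by rw [hP.zF hx]; group
        _ = z * (g * x * g⁻¹) := by rw [hg]; group
    have hYz : (g * y * g⁻¹) * z = z * (g * y * g⁻¹) := by
      calc (g * (y : F) * g⁻¹) * z = g * (y : F) * (g⁻¹ * z) := by group
        _ = g * ((y : F) * z) * g⁻¹ := by rw [hgi]; group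
        _ = (g * z) * (y : F) * g⁻¹ := by rw [hP.zF hy]; group
        _ = z * (g * y * g⁻¹) := by rw [hg]; group
    rw [e, map_commutatorElement, commutatorElement_def, commutatorElement_def]
    have hz1 : z⁻¹ = z := inv_eq_of_mul_eq_one_left h.zz
    show ((β ⟨x, hx⟩ : K) : F) * ((β ⟨y, hy⟩ : K) : F) * ((β ⟨x, hx⟩ : K) : F)⁻¹ * ((β ⟨y, hy⟩ : K) : F)⁻¹ =
      g * ((x : F) * y * (x : F)⁻¹ * (y : F)⁻¹) * g⁻¹
    have hx2 := hdiff ⟨x, hx⟩
    have hy2 := hdiff ⟨y, hy⟩
    have hgoal : g * ((x : F) * y * (x : F)⁻¹ * (y : F)⁻¹) * g⁻¹ =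
        (g * x * g⁻¹) * (g * y * g⁻¹) * (g * x * g⁻¹)⁻¹ * (g * y * g⁻¹)⁻¹ := by group
    rw [hgoal]
    generalize g * (x : F) * g⁻¹ = X at hXz hx2 ⊢
    generalize g * (y : F) * g⁻¹ = Y at hYz hy2 ⊢
    have hXi : z * X⁻¹ = X⁻¹ * z := by
      rw [eq_inv_mul_iff_mul_eq, ← mul_assoc, hXz, mul_inv_cancel_right]
    have hYi : z * Y⁻¹ = Y⁻¹ * z := by
      rw [eq_inv_mul_iff_mul_eq, ← mul_assoc, hYz, mul_inv_cancel_right]
    have hx3 : ∀ B : F, ((β ⟨x, hx⟩ : K) : F) * B * ((β ⟨x, hx⟩ : K) : F)⁻¹ = X * B * X⁻¹ ∨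
        B * z ≠ z * B := by
      intro B
      by_cases hB : B * z = z * B
      · left
        rcases hx2 with h1 | h1
        · rw [h1]
        · rw [h1, mul_inv_rev, hz1]
          calc X * z * B * (z * X⁻¹) = X * (z * B) * z * X⁻¹ := by group
            _ = X * B * (z * z) * X⁻¹ := by rw [← hB]; group
            _ = X * B * X⁻¹ := by rw [h.zz, mul_one]
      · right; exact hB
    have hy3 : ((β ⟨y, hy⟩ : K) : F) * z = z * ((β ⟨y, hy⟩ : K) : F) := hP.zF (β ⟨y, hy⟩).2
    rcases hx3 ((β ⟨y, hy⟩ : K) : F) with h1 | h1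
    · rw [h1]
      rcases hy2 with h2 | h2
      · rw [h2]
      · rw [h2, mul_inv_rev, hz1]
        calc X * (Y * z) * X⁻¹ * (z * Y⁻¹) = X * Y * (z * X⁻¹) * z * Y⁻¹ := by group
          _ = X * Y * X⁻¹ * (z * z) * Y⁻¹ := by rw [hXi]; group
          _ = X * Y * X⁻¹ * Y⁻¹ := by rw [h.zz, mul_one]
    · exact absurd hy3 h1
  intro x
  obtain ⟨hx, hx'⟩ := hN x.2
  exact hx'

/-- **every automorphism of `K` fixing `z` is induced by `C_F(z)`** -/
theorem aut [Finite F] (hP : PS h P) (α : MulAut K) (hα : α (zK h) = zK h) :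
    ∃ g : F, g * z = z * g ∧ ∀ x : K, (α x : F) = g * x * g⁻¹ := by
  have := h.nK
  have hα' : α.symm (zK h) = zK h := by rw [MulEquiv.symm_apply_eq]; exact hα.symm
  let β : MulAut P :=
    { toFun := fun x => ⟨α x, D8.Sheet.map_P hP.perf hP.cen hP.der α hα x.2⟩
      invFun := fun x => ⟨α.symm x, D8.Sheet.map_P hP.perf hP.cen hP.der α.symm hα' x.2⟩
      left_inv := fun x => Subtype.ext (α.symm_apply_apply _)
      right_inv := fun x => Subtype.ext (α.apply_symm_apply _)
      map_mul' := fun a b => Subtype.ext (map_mul α _ _) }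
  obtain ⟨g, hg, hgx⟩ := key hP β (Subtype.ext hα)
  have hgx' : ∀ x : K, x ∈ P → (α x : F) = g * x * g⁻¹ := fun x hx => hgx ⟨x, hx⟩
  have hval : ∀ x : K, ((((MulAut.conjNormal (H := K) g)⁻¹ * α) x : K) : F) = g⁻¹ * (α x : F) * g := by
    intro x
    rw [MulAut.mul_apply, MulAut.conjNormal_inv_apply]
  rcases h.fix ((MulAut.conjNormal (H := K) g)⁻¹ * α) (by
    intro x hx
    apply Subtype.ext
    rw [hval, hgx' x (hP.E_le x hx)]; group) with h1 | h1
  · refine ⟨g, hg, fun x => ?_⟩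
    have h2 := hval x
    rw [h1] at h2
    have h3 : (x : F) = g⁻¹ * (α x : F) * g := h2
    calc (α x : F) = g * (g⁻¹ * (α x : F) * g) * g⁻¹ := by group
      _ = g * x * g⁻¹ := by rw [← h3]
  · refine ⟨g * z, by rw [hg, mul_assoc, hg], fun x => ?_⟩
    have h2 := hval x
    rw [h1] at h2
    have hz1 : z⁻¹ = z := inv_eq_of_mul_eq_one_left h.zz
    calc (α x : F) = g * (g⁻¹ * (α x : F) * g) * g⁻¹ := by group
      _ = g * (z * x * z) * g⁻¹ := by rw [← h2]
      _ = g * z * x * (g * z)⁻¹ := by rw [mul_inv_rev, hz1]; group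

/-- `|K : C_K(z)|` is odd -/
theorem odd_index [Finite F] (h : Frame K z R E Om) : Odd (centralizer ({zK h} : Set K)).index := by
  have := h.nK
  have e : centralizer ({zK h} : Set K) = (centralizer ({z} : Set F)).subgroupOf K := by
    ext x
    rw [mem_centralizer_singleton_iff, mem_subgroupOf, mem_centralizer_singleton_iff]
    exact ⟨fun hx => congrArg Subtype.val hx, fun hx => Subtype.ext hx⟩
  have h1 : ((centralizer ({z} : Set F)) ⊓ K).relIndex K * K.index =
      ((centralizer ({z} : Set F)) ⊓ K).index := relIndex_mul_index inf_le_right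
  have h2 : ((centralizer ({z} : Set F)) ⊓ K).relIndex (centralizer ({z} : Set F)) *
      (centralizer ({z} : Set F)).index = ((centralizer ({z} : Set F)) ⊓ K).index :=
    relIndex_mul_index inf_le_left
  rw [inf_relIndex_right, h.two] at h1
  rw [inf_relIndex_left] at h2
  have h3 : K.relIndex (centralizer ({z} : Set F)) ∣ 2 := by
    rw [← h.two]; exact relIndex_dvd_index_of_normal _ _
  have h4 := h.odd
  rw [e]
  show Odd ((centralizer ({z} : Set F)).relIndex K)
  rcases (Nat.dvd_prime Nat.prime_two).1 h3 with h5 | h5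
  · rw [h5, one_mul, ← h1] at h2
    rw [h2] at h4
    exact absurd h4 (by simp)
  · rw [h5, ← h1] at h2
    have h6 : (centralizer ({z} : Set F)).relIndex K = (centralizer ({z} : Set F)).index := by omega
    rw [h6]; exact h4

theorem R_two (h : Frame K z R E Om) : IsPGroup 2 (R.subgroupOf K) := by
  intro y
  refine ⟨2, Subtype.ext (Subtype.ext ?_)⟩
  show ((y : K) : F) ^ (2 ^ 2) = 1
  have hy : ((y : K) : F) ∈ R := y.2
  have e : ((y : K) : F) ^ (2 ^ 2) = (((y : K) : F) * ((y : K) : F)) * (((y : K) : F) * ((y : K) : F)) := by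
    rw [show (2 : ℕ) ^ 2 = 4 by norm_num, pow_succ, pow_succ, pow_succ, pow_one]; group
  rw [e]
  rcases h.sq _ hy with h1 | h1
  · rw [h1, one_mul]
  · rw [h1, h.zz]

theorem exists_sylow [Finite F] (h : Frame K z R E Om) : ∃ S : Sylow 2 K, R.subgroupOf K ≤ S ∧
    ∀ x ∈ S, x * zK h = zK h * x := by
  obtain ⟨S, hS⟩ := SheetOf.exists_sylow _ (odd_index h)
  have hSz : ∀ x ∈ S, x * zK h = zK h * x := fun x hx => mem_centralizer_singleton_iff.1 (hS hx)
  have hconj : ∀ s ∈ S, ∀ r ∈ R.subgroupOf K, s * r * s⁻¹ ∈ R.subgroupOf K := by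
    intro s hs r hr
    exact h.norm (s : F) (congrArg Subtype.val (hSz s hs)) (r : F) hr
  have hnorm : (S : Subgroup K) ≤ normalizer ((R.subgroupOf K : Subgroup K) : Set K) := by
    intro s hs
    rw [mem_normalizer_iff]
    intro r
    constructor
    · exact fun hr => hconj s hs r hr
    · intro hr
      have h1 := hconj s⁻¹ (inv_mem hs) _ hr
      have e : s⁻¹ * (s * r * s⁻¹) * s⁻¹⁻¹ = r := by group
      rwa [e] at h1
  have h2 : IsPGroup 2 ((S : Subgroup K) ⊔ R.subgroupOf K : Subgroup K) :=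
    S.isPGroup'.to_sup_of_normal_right' (R_two h) hnorm
  have h3 := S.is_maximal' h2 le_sup_left
  exact ⟨S, (le_sup_right : R.subgroupOf K ≤ (S : Subgroup K) ⊔ R.subgroupOf K).trans h3.le, hSz⟩

theorem sylow_center (h : Frame K z R E Om) {S : Sylow 2 K} (hRS : R.subgroupOf K ≤ S) {y : K}
    (hy : ∀ x ∈ S, x * y = y * x) : y = 1 ∨ y = zK h := by
  rcases h.cent (y : F) (fun r hr => (congrArg Subtype.val (hy ⟨r, h.EK (h.RE hr)⟩ (hRS hr))).symm) with h1 | h1
  · exact Or.inl (Subtype.ext h1)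
  · exact Or.inr (Subtype.ext h1)

/-- **every automorphism of `K` is induced by `F`** -/
theorem aut_all [Finite F] [K.Normal] (hP : PS h P) (α : MulAut K) : ∃ g : F, α = MulAut.conjNormal g := by
  have : Fact (Nat.Prime 2) := ⟨Nat.prime_two⟩
  obtain ⟨S, hRS, hS⟩ := exists_sylow h
  have hcard : Nat.card ((S : Subgroup K).map α.toMonoidHom) = Nat.card S :=
    (Nat.card_congr ((S : Subgroup K).equivMapOfInjective α.toMonoidHom α.injective).toEquiv).symm
  let T : Sylow 2 K := Sylow.ofCard ((S : Subgroup K).map α.toMonoidHom) (by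
    rw [hcard, ← Sylow.card_eq_multiplicity S])
  obtain ⟨g, hg⟩ := MulAction.exists_smul_eq K T S
  have hT' : ∀ y ∈ S, ∃ x ∈ S, y = g * α x * g⁻¹ := by
    intro y hy
    have h1 : y ∈ (g • T : Sylow 2 K) := by rw [hg]; exact hy
    rw [Sylow.smul_def] at h1
    obtain ⟨t, ⟨x, hx, rfl⟩, rfl⟩ := h1
    exact ⟨x, hx, rfl⟩
  have hfix : (MulAut.conj g * α) (zK h) = zK h := by
    rw [MulAut.mul_apply, MulAut.conj_apply]
    rcases sylow_center h hRS (y := g * α (zK h) * g⁻¹) (by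
      intro y hy
      obtain ⟨x, hx, rfl⟩ := hT' y hy
      have h1 : α x * α (zK h) = α (zK h) * α x := by rw [← map_mul, ← map_mul, hS x hx]
      calc g * α x * g⁻¹ * (g * α (zK h) * g⁻¹) = g * (α x * α (zK h)) * g⁻¹ := by group
        _ = g * (α (zK h) * α x) * g⁻¹ := by rw [h1]
        _ = g * α (zK h) * g⁻¹ * (g * α x * g⁻¹) := by group) with h1 | h1
    · exfalso
      apply h.z1
      have h2 : α (zK h) = 1 := by
        calc α (zK h) = g⁻¹ * (g * α (zK h) * g⁻¹) * g := by group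
          _ = 1 := by rw [h1]; group
      have h3 : zK h = 1 := α.injective (by rw [h2, map_one])
      exact congrArg Subtype.val h3
    · exact h1
  obtain ⟨u, _, hu⟩ := aut hP _ hfix
  refine ⟨(g : F)⁻¹ * u, ?_⟩
  apply MulEquiv.ext
  intro x
  apply Subtype.ext
  rw [MulAut.conjNormal_apply]
  have h1 := hu x
  rw [MulAut.mul_apply, MulAut.conj_apply] at h1
  have h2 : (g : F) * (α x : F) * (g : F)⁻¹ = u * x * u⁻¹ := h1
  calc (α x : F) = (g : F)⁻¹ * ((g : F) * (α x : F) * (g : F)⁻¹) * g := by group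
    _ = (g : F)⁻¹ * (u * x * u⁻¹) * g := by rw [h2]
    _ = _ := by group

end

end Abs

open Abs in
/-- the index of `Inn K` in `Aut K` is 1 or 2 -/
theorem Frame.out [Finite F] (h : Frame K z R E Om) : (MulAut.conj : K →* MulAut K).range.index ∣ 2 := by
  obtain ⟨P, hP⟩ := exists_PS h
  have hnK : K.Normal := h.nK
  have hrange : (MulAut.conj : K →* MulAut K).range = K.map (MulAut.conjNormal : F →* MulAut K) := by
    ext α
    constructor
    · rintro ⟨k, rfl⟩
      exact ⟨k, k.2, MulAut.conjNormal_val⟩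
    · rintro ⟨k, hk, rfl⟩
      exact ⟨⟨k, hk⟩, (MulAut.conjNormal_val (h := ⟨k, hk⟩)).symm⟩
  have hsurj : Function.Surjective (MulAut.conjNormal : F →* MulAut K) := fun α => by
    obtain ⟨g, hg⟩ := aut_all hP α
    exact ⟨g, hg.symm⟩
  rw [hrange, ← h.two]
  exact Subgroup.index_map_dvd K hsurj

open Abs in
/-- every automorphism of `K` is induced by `F` -/
theorem Frame.exists_conj [Finite F] (h : Frame K z R E Om) (α : MulAut K) :
    ∃ g : F, ∀ x : K, (α x : F) = g * x * g⁻¹ := by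
  obtain ⟨P, hP⟩ := exists_PS h
  have hnK : K.Normal := h.nK
  obtain ⟨g, hg⟩ := aut_all hP α
  refine ⟨g, fun x => ?_⟩
  rw [hg]
  exact MulAut.conjNormal_apply g x

/-- `|Out K|` is a power of 2 -/
theorem Frame.hout [Finite F] (h : Frame K z R E Om) :
    ∃ n, (MulAut.conj : K →* MulAut K).range.index = 2 ^ n := by
  rcases (Nat.dvd_prime Nat.prime_two).1 h.out with h1 | h1
  · exact ⟨0, by rw [h1, pow_zero]⟩
  · exact ⟨1, by rw [h1, pow_one]⟩

open Abs in
theorem Abs.PS.sheetE [Finite F] {h : Frame K z R E Om} {P : Subgroup K} (hP : PS h P) :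
    D8.Sheet.SheetE (⟨z, h.EK (h.RE h.zR)⟩ : K) P (R.subgroupOf K) := by
  have hnK : K.Normal := h.nK
  have hL := large h
  have hz1 : z⁻¹ = z := inv_eq_of_mul_eq_one_left h.zz
  have hRP : R.subgroupOf K ≤ P := fun x hx => hP.R_le hx
  have hrange : (MulAut.conj : K →* MulAut K).range = K.map (MulAut.conjNormal : F →* MulAut K) := by
    ext α
    constructor
    · rintro ⟨k, rfl⟩
      exact ⟨k, k.2, MulAut.conjNormal_val⟩
    · rintro ⟨k, hk, rfl⟩
      exact ⟨⟨k, hk⟩, (MulAut.conjNormal_val (h := ⟨k, hk⟩)).symm⟩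
  have hsurj : Function.Surjective (MulAut.conjNormal : F →* MulAut K) := fun α => by
    obtain ⟨g, hg⟩ := aut_all hP α
    exact ⟨g, hg.symm⟩
  refine
    { zz := Subtype.ext h.zz
      z1 := fun h1 => h.z1 (congrArg Subtype.val h1)
      syl := ?_
      cen := hP.cen
      perf := hP.perf
      der := hP.der
      out := ?_
      schreier := ?_
      zR := h.zR
      RP := hRP
      R2 := R_two h
      Rn := fun x hx r hr => h.norm (x : F) (hP.zF hx) (r : F) hr
      Rmax := ?_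
      Rmin := ?_
      Rna := ?_
      cR := ?_
      aut := ?_
      ytrick := ?_ }
  · obtain ⟨S, hRS, hS⟩ := exists_sylow h
    exact ⟨S, hRS h.zR, hS, fun y _ hy => sylow_center h hRS hy⟩
  · -- out
    rw [hrange]
    intro h4
    have h5 := h4.trans (Subgroup.index_map_dvd K hsurj)
    rw [h.two] at h5
    revert h5; decide
  · -- schreier
    refine ⟨1, ?_⟩
    rw [TR.dser_succ, TR.dser_zero, hrange, Subgroup.commutator_le]
    intro α _ β _
    obtain ⟨a, rfl⟩ := hsurj α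
    obtain ⟨b, rfl⟩ := hsurj β
    rw [← map_commutatorElement]
    refine ⟨⁅a, b⁆, ?_, rfl⟩
    have h2 : K.index = 2 := h.two
    show ⁅a, b⁆ ∈ K
    rw [commutatorElement_def, mul_mem_iff_of_index_two h2, mul_mem_iff_of_index_two h2,
      mul_mem_iff_of_index_two h2, inv_mem_iff, inv_mem_iff]
    tauto
  · -- Rmax
    intro B hB hB2 hBn
    let W : Subgroup F := B.map K.subtype
    have hW : W ≤ R := by
      apply le_of_inv h (hB2.map _)
      · rintro _ ⟨b, hb, rfl⟩
        exact hP.zF (hB hb)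
      · rintro u hu _ ⟨b, hb, rfl⟩
        have hu' : (⟨u, h.EK hu⟩ : K) ∈ P := hP.E_le _ hu
        refine ⟨u⁻¹ * (b : F) * u, ⟨(⟨u, h.EK hu⟩ : K)⁻¹ * b * (⟨u, h.EK hu⟩ : K), ?_, rfl⟩, 1, R.one_mem, ?_⟩
        · have h1 := hBn _ (P.inv_mem hu') b hb
          rw [inv_inv] at h1
          exact h1
        · rw [mul_one]; rfl
    intro b hb
    exact hW ⟨b, hb, rfl⟩
  · -- Rmin
    intro B hB hBn
    have h1 := h.irr (B.map K.subtype) (by
      rintro _ ⟨b, hb, rfl⟩
      exact hB hb) (by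
      rintro g hg _ ⟨b, hb, rfl⟩
      exact ⟨_, hBn ⟨g, h.EK hg⟩ (hP.E_le _ hg) b hb, rfl⟩)
    rcases h1 with h1 | h1
    · left
      intro b hb
      rcases h1 b ⟨b, hb, rfl⟩ with h2 | h2
      · exact Or.inl (Subtype.ext h2)
      · exact Or.inr (Subtype.ext h2)
    · right
      apply le_antisymm hB
      intro r hr
      have h2 : (r : F) ∈ B.map K.subtype := by rw [h1]; exact hr
      obtain ⟨b, hb, hbr⟩ := h2
      have h3 : b = r := Subtype.ext hbr
      rwa [← h3]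
  · -- Rna
    obtain ⟨x, hx, hx1, hxz⟩ := exists_nontriv h
    by_contra hcon
    push Not at hcon
    rcases h.ctr x hx (fun s hs => by
      have h1 := hcon ⟨s, h.EK (h.RE hs)⟩ hs ⟨x, h.EK (h.RE hx)⟩ hx
      exact congrArg Subtype.val h1) with h2 | h2
    · exact hx1 h2
    · exact hxz h2
  · -- cR
    intro x _ hxr
    rcases h.cent (x : F) (fun r hr => congrArg Subtype.val (hxr ⟨r, h.EK (h.RE hr)⟩ hr)) with h1 | h1
    · show (x : F) ∈ R
      rw [h1]; exact R.one_mem
    · show (x : F) ∈ R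
      rw [h1]; exact h.zR
  · -- aut
    intro α hα2 hαz hα
    obtain ⟨g, hg, hgx⟩ := aut hP α hαz
    -- `g` is a 2-element
    obtain ⟨k, hk⟩ := hα2 ⟨α, mem_zpowers α⟩
    have hk' : α ^ 2 ^ k = 1 := congrArg Subtype.val hk
    have hpow : ∀ (n : ℕ) (x : K), ((α ^ n) x : F) = g ^ n * x * (g ^ n)⁻¹ := by
      intro n
      induction n with
      | zero => intro x; simp
      | succ n ih =>
        intro x
        rw [pow_succ', MulAut.mul_apply, hgx, ih, pow_succ']; group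
    have hg2 : g ^ 2 ^ k = 1 ∨ g ^ 2 ^ k = z := by
      apply h.cent
      intro r hr
      have h1 := hpow (2 ^ k) ⟨r, h.EK (h.RE hr)⟩
      rw [hk'] at h1
      have h2 : r = g ^ 2 ^ k * r * (g ^ 2 ^ k)⁻¹ := h1
      exact (mul_inv_eq_iff_eq_mul.1 h2.symm)
    have hg4 : g ^ 2 ^ (k + 1) = 1 := by
      rw [pow_succ, pow_mul, pow_two]
      rcases hg2 with h1 | h1
      · rw [h1, one_mul]
      · rw [h1, h.zz]
    have hg3 : IsPGroup 2 (zpowers g) := by
      rintro ⟨w, hw⟩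
      obtain ⟨n, rfl⟩ := mem_zpowers_iff.1 hw
      refine ⟨k + 1, Subtype.ext ?_⟩
      show (g ^ n) ^ 2 ^ (k + 1) = 1
      rw [← zpow_natCast, ← zpow_mul, mul_comm, zpow_mul, zpow_natCast, hg4, one_zpow]
    have hgR : g ∈ R := by
      have hle : zpowers g ≤ R := by
        apply le_of_inv h hg3
        · intro w hw
          obtain ⟨n, rfl⟩ := mem_zpowers_iff.1 hw
          exact ((Commute.zpow_left (show Commute g z from hg)) n).eq
        · intro u hu w hw
          refine ⟨w, hw, w⁻¹ * (u⁻¹ * w * u), ?_, by group⟩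
          obtain ⟨n, rfl⟩ : ∃ n : ℕ, g ^ n = w := mem_powers_iff_mem_zpowers.2 hw
          have hgn : g ^ n * z = z * g ^ n := ((Commute.pow_left (show Commute g z from hg)) n).eq
          have hpn : ∀ (n : ℕ) (x : K), x ∈ P → x⁻¹ * (α ^ n) x ∈ R.subgroupOf K := by
            intro n
            induction n with
            | zero => intro x _; simp
            | succ n ih =>
              intro x hx
              have h1 := ih x hx
              have h2 : (α ^ n) x ∈ P := by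
                have h3 := P.mul_mem hx (hRP h1)
                rwa [mul_inv_cancel_left] at h3
              have h4 := hα _ h2
              have h5 := mul_mem h1 h4
              rw [pow_succ', MulAut.mul_apply]
              have e : x⁻¹ * (α ^ n) x * (((α ^ n) x)⁻¹ * α ((α ^ n) x)) = x⁻¹ * α ((α ^ n) x) := by group
              rwa [e] at h5
          have h1 : u⁻¹ * (g ^ n * u * (g ^ n)⁻¹) ∈ R := by
            have h2 := hpn n ⟨u, h.EK hu⟩ (hP.E_le _ hu)
            have h3 : u⁻¹ * (((α ^ n) ⟨u, h.EK hu⟩ : K) : F) ∈ R := h2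
            rwa [hpow n ⟨u, h.EK hu⟩] at h3
          have h2 := h.norm (g ^ n)⁻¹ (by
            rw [inv_mul_eq_iff_eq_mul, ← mul_assoc, hgn, mul_assoc, mul_inv_cancel, mul_one]) _ h1
          have e : (g ^ n)⁻¹ * (u⁻¹ * (g ^ n * u * (g ^ n)⁻¹)) * (g ^ n)⁻¹⁻¹ =
            (g ^ n)⁻¹ * (u⁻¹ * g ^ n * u) := by group
          rwa [e] at h2
      exact hle (mem_zpowers g)
    refine ⟨⟨g, h.EK (h.RE hgR)⟩, hgR, ?_⟩
    apply MulEquiv.ext
    intro x
    apply Subtype.ext
    rw [hgx x, MulAut.conj_apply]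
    rfl
  · -- the `y`-trick
    obtain ⟨k, hk, t, ht, htz, htw, hw, hkz, hkR⟩ := h.yt
    refine ⟨⟨k, hk⟩, hP.E_le _ hkz, hkR, hP.E_le _ hw, ?_⟩
    intro β hβ
    obtain ⟨g, hg, hgx⟩ := key hP β (Subtype.ext hβ)
    by_cases hgK : g ∈ K
    · refine ⟨⟨g, hgK⟩, Subtype.ext hg, Subtype.ext ?_⟩
      exact hgx _
    · have hgt : g * t ∈ K := by
        rw [mul_mem_iff_of_index_two h.two]
        exact ⟨fun h1 => absurd h1 hgK, fun h1 => absurd h1 ht⟩
      refine ⟨⟨g * t, hgt⟩, Subtype.ext ?_, Subtype.ext ?_⟩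
      · show g * t * z = z * (g * t)
        rw [mul_assoc, htz, ← mul_assoc, hg, mul_assoc]
      · refine (hgx _).trans ?_
        show g * (k⁻¹ * z * k) * g⁻¹ = g * t * (k⁻¹ * z * k) * (g * t)⁻¹
        calc g * (k⁻¹ * z * k) * g⁻¹ = g * ((k⁻¹ * z * k) * t) * t⁻¹ * g⁻¹ := by group
          _ = g * (t * (k⁻¹ * z * k)) * t⁻¹ * g⁻¹ := by rw [htw]
          _ = _ := by group

open Abs in
/-- **The sheet of type (E) from a frame.** -/
theorem Frame.sheetE [Finite F] (h : Frame K z R E Om) :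
    ∃ P : Subgroup K, D8.Sheet.SheetE (⟨z, h.EK (h.RE h.zR)⟩ : K) P (R.subgroupOf K) := by
  obtain ⟨P, hP⟩ := exists_PS h
  exact ⟨P, hP.sheetE⟩

open Abs in
/-- **The sheet of type (E) from a frame, with `P = E`.** -/
theorem Frame.sheetE_of [Finite F] (h : Frame K z R E Om)
    (hd : ∃ m, TR.dser m (centralizer ({⟨z, h.EK (h.RE h.zR)⟩} : Set K)) ≤ E.subgroupOf K) :
    D8.Sheet.SheetE (⟨z, h.EK (h.RE h.zR)⟩ : K) (E.subgroupOf K) (R.subgroupOf K) := by
  refine PS.sheetE (h := h) ⟨fun x hx => Subtype.ext (h.Ez x hx), ?_, hd, fun x hx => hx⟩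
  apply Subgroup.map_injective K.subtype_injective
  rw [Subgroup.map_commutator, Subgroup.map_subgroupOf_eq_of_le h.EK, h.perf]

end Cfsg.Agent.KFacts.FiTF
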