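import Cfsg.Agent.KFacts.FiTF.OrbSys

/-!
# `Fi24'`: `9797760 * 8192 ≤ |E|`

Stabiliser chain of the group generated by the even products on `R/⟨z⟩` (base points 1, 38, 127; orbits 378, 432, 60).
-/

set_option autoImplicit false
set_option linter.unusedSectionVars false

namespace Cfsg.Agent.KFacts.FiTF.OrbSys

open Subgroup
open Cfsg.Agent.LargeExtra.Model Cfsg.Agent.LargeExtra.Pres Cfsg.Agent.KFacts.Codes
open Cfsg.Agent.KFacts.FiTF.Lin Cfsg.Agent.KFacts.FiTF.Orb
open Cfsg.Agent.Lib.PermNetOrbit

/-- action of a word in the even products -/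
def wa : List ℕ → ℕ → ℕ
  | [], c => c
  | k :: w, c => ff k (wa w c)

def W1 : List (List ℕ) := [[2], [3], [4], [5], [6, 13, 5, 8, 1]]

def W2 : List (List ℕ) := [[33, 16, 23], [30, 6, 13, 5, 8, 1]]

def NC1 : ℕ := 0x234133580807128581a160201821f40db9021351155426550cb540c061335c1cd7133dc0cf709fd418b50e2104b471211c08470e7502b061289c3a270289c2b0711c9c21f5089941265109143a65041d43df50b79c16a50bc94430404c102e340f0d00c340961415851341815a5136181d86099503e5410e5003940cb5002d40721c1c86133d80cf60bbd80446129d80af60661c2924124d43935112d82f6511d9c17670bf1c23b404d104f7703ddc2fc61115847a405f1c27f405f904ff40ffd048c50e39418e5122143885022142b8506f984b7602dd84b460ad1839d50ef542bd502b984b260ac980b260bd9017660f7d015c60b798268605a904ba40aa902e74109103a640a9904a440e9100a440199c26271215c4a570a95c19b5116d825b6137103dc40371025f61079831e612a183a8606a1843a400e9041240c4902124004901184065d84e050b8144f050fc140f050f8d42e35056904d870761c4da70369c2eb70fa543e550b954229504a544cb7032dc2ef703bdc26470a9dc1a771269809a606a1c4517066d045b7096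dc494502514475609d5843660cd98236603f58237504dd44d770f5dc0d7713d1c2f4707cd80fd707d54475709d5c17e513fd43ff507fd44fe50ff940fe51231038c4023104b840ae100b8412fdc0bf712ddc2b7702ddc2bd406f504be70af9c1be710d9c3367137143dc50371425f71375c1dd71079c31e70479c4d45035142c4509ad44aa50ea942aa502ad43905129143a450a9140a45068140256099981666129582a560695845970565c41b70c6dc11b70b31441d70c75c01d712a5c3a9702a5c21a50469449860661849660259848660a1984f8403e104e040f8102e04038104da6036984ea60ba980ea60ba501e9413ad82eb607ad842760c9d828a702a582995116581596106d831b6046d8190410d5c335700d5c1f17134d80d3613dd82f7603dd84f1607c5843560cd584fe40ff900fe40b39043f600fd82bc506f144bf60afd81bf610f9833e604f982cc41075831d6007582c441119c4ab40ead00ab4068d042a700a9c2a040681042170485c42570c95c41960c65801961035820d60a25849a70269c48670a19c08670ba141e8513a9c2ea707a9c42b70cadc12b71225c28971065c31970065c4537090dc131613cdc2f3707cdc43170cc5c13170b39440f7083dc10f710fdc33f700fdc40d70835c4466011981a351089822260489842160c85812160825c10971229828a60629842a60ca9802a6102583096082582436050d843360ccd80336103d830f6083d800f60909c14271089c32270089c40a70c29c20a70029c3037080dc10370c0982026040980026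

def NC2 : ℕ := 0x113f069b417ce03dbc089d00738176d05af4195c025700bcd067b81d7f0433400cd036f40efc06ff817be01ef80f8f03a7411be06bf40eae039381b9f07afc12ee00bb80d5d07a30127e065bc096f02fbc034e075301f2c03cb0068e028fc1bdc06d300b4c0377016ac048b0022c01fb015fc017f0058c05f7c045c0663c098f041fc007f

def MC1 : ℕ := 0x30003000c000c0003000000030003000c00030003000c000c0003000c0003000c000c0000000c000c000c000300030003000c0003000c00030000000000030003000c000c00030003000c0003000c000c000c00030003000c0000000c000c000c0003000c0003000c00000000000c000300030000000300030003000c000c000c000c000300030000000300030003000c00030003000c0000000c0000000c000c000c0000000c00030003000c000c000c0003000c00030003000c000c0003000c00030003000c0003000c0003000c000c000c00030003000300030000000300000003000000030003000c000c00030000000c000c000c00030003000c000c00030003000c000c00030003000000030003000c000c00030000000c0000000c000300030003000000030003000c000c0003000c0003000c0000000c000c0000000c00030003000c000c0003000c00030000000000030003000c0000000c000c000c0000000c0000000c00000000000c0000000c000c000c000c000c00000000000c000c0003000300030003000300000003000c000c0003000c0003000c00030003000300030000000c000c00030003000c0003000c00030003000c000c00030003000c000c0003000c0003000c0003000c000c000000000003000300000003000c0003000c00030003000c000c00030003000300000003000c000c000000000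

def MC2 : ℕ := 0x800000008000000000000000100000000000100000000000000080004000200010000000000000004000000000000000000000000000100000002000000000000000800040002000100000000000000000000000000080000000000000000000000000000000000000000000000000000000400080001000200000000000800000000000000000001000000000000000000020000000000000000000000000000000000020000000000080000000000000000000400000000000000000000000800040008000100020000000000000000000000000000000000000000000200000000000000000000000000000000000000020001000800040004000000000000000000020000000000000000000000000000000800000000000200010008000400000000000200000000000000000000000100000000000000000000000000010000000000000000000000000000000200000000000000000000000000000000000000000001000000000000000000000000000000000000000000040000000000000000000000040000000000000002000000040000000000000000000000000004000000000000000000010000000000000000000000040004000000000000000000000000000000080000000000000000000000000002000000010000000000080000000000000000000000000000000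

theorem orbC1 : orb (fun i a => wa (W1.getD i []) a) MC1 431 NC1 (2 ^ 38) = true := by decide +kernel

theorem orbC2 : orb (fun i a => wa (W2.getD i []) a) MC2 59 NC2 (2 ^ 127) = true := by decide +kernel

theorem orbC0 : orb (fun i a => wa (((List.range 36).map fun k => [k]).getD i []) a) Om.OM 377 N1 (2 ^ 1) = true := by
  decide +kernel

theorem ltC1 : MC1 < 2 ^ 2 ^ 12 := by decide +kernel

theorem ltC2 : MC2 < 2 ^ 2 ^ 12 := by decide +kernel

theorem pcC1 : pc 12 MC1 = 432 := by decide +kernel

theorem pcC2 : pc 12 MC2 = 60 := by decide +kernel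

theorem fixC1 : ∀ w ∈ W1, wa w 1 = 1 := by decide +kernel

theorem fixC2 : ∀ w ∈ W2, wa w 1 = 1 ∧ wa w 38 = 38 := by decide +kernel

section

variable {F : Type*} [Group F] {z : F} {x y : ℕ → F} {E : Subgroup F}

/-- product of a word in the even products -/
def gwd (y : ℕ → F) : List ℕ → F
  | [] => 1
  | k :: w => (y (k / 6 % 6) * y (k % 6)) * gwd y w

/-- stabiliser of a code modulo `z` -/
def stz (z : F) (zz : z * z = 1) (v : F) : Subgroup F where
  carrier := {g | g * z = z * g ∧ OrbSys.Ez z (g * v * g⁻¹) v}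
  one_mem' := ⟨by group, by left; group⟩
  mul_mem' := by
    rintro a b ⟨ha, ha'⟩ ⟨hb, hb'⟩
    refine ⟨by rw [mul_assoc, hb, ← mul_assoc, ha, mul_assoc], ?_⟩
    have h1 := (hb'.conj ha).trans zz ha'
    have h2 : a * b * v * (a * b)⁻¹ = a * (b * v * b⁻¹) * a⁻¹ := by group
    rw [h2]
    exact h1
  inv_mem' := by
    rintro a ⟨ha, ha'⟩
    have h0 : a⁻¹ * z = z * a⁻¹ := by
      calc a⁻¹ * z = a⁻¹ * (z * a) * a⁻¹ := by group
        _ = a⁻¹ * (a * z) * a⁻¹ := by rw [ha]
        _ = z * a⁻¹ := by group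
    refine ⟨h0, ?_⟩
    have h1 := ha'.conj h0
    have h2 : a⁻¹ * (a * v * a⁻¹) * a⁻¹⁻¹ = v := by group
    rw [h2] at h1
    exact h1.symm zz

variable (h : Sys z x y E)
include h

theorem Sys.gwd_mem (w : List ℕ) : gwd y w ∈ E := by
  induction w with
  | nil => exact E.one_mem
  | cons k w ih => exact E.mul_mem (h.kE k) ih

theorem Sys.gwd_ez (w : List ℕ) (c : ℕ) :
    OrbSys.Ez z (gwd y w * cod 12 z x c * (gwd y w)⁻¹) (cod 12 z x (wa w c)) := by
  induction w with
  | nil =>
    left
    show 1 * cod 12 z x c * 1⁻¹ = cod 12 z x c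
    group
  | cons k w ih =>
    have h1 := (ih.conj (h.Ez _ (h.kE k))).trans h.zz (h.ffk k (wa w c))
    have h2 : gwd y (k :: w) * cod 12 z x c * (gwd y (k :: w))⁻¹ =
        (y (k / 6 % 6) * y (k % 6)) * (gwd y w * cod 12 z x c * (gwd y w)⁻¹) * (y (k / 6 % 6) * y (k % 6))⁻¹ := by
      show (y (k / 6 % 6) * y (k % 6)) * gwd y w * cod 12 z x c * ((y (k / 6 % 6) * y (k % 6)) * gwd y w)⁻¹ = _
      group
    rw [h2]
    exact h1

theorem Sys.gwd_stz {w : List ℕ} {c : ℕ} (hc : wa w c = c) : gwd y w ∈ stz z h.zz (cod 12 z x c) := by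
  refine ⟨h.Ez _ (h.gwd_mem w), ?_⟩
  have h1 := h.gwd_ez w c
  rwa [hc] at h1

/-- orbit-stabiliser inequality modulo `z` -/
theorem Sys.stab_le [Finite F] {H : Subgroup F} (hHE : H ≤ E) {Ls : List (List ℕ)}
    (hL : ∀ w ∈ Ls, gwd y w ∈ H) {M k N r : ℕ}
    (ho : orb (fun i a => wa (Ls.getD i []) a) M k N (2 ^ r) = true) (hM : M < 2 ^ 2 ^ 12) :
    pc 12 M * Nat.card (H ⊓ stz z h.zz (cod 12 z x r) : Subgroup F) ≤ Nat.card H := by
  classical
  have hreach : ∀ b, M.testBit b = true → ∃ g ∈ H, OrbSys.Ez z (g * cod 12 z x r * g⁻¹) (cod 12 z x b) := by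
    refine orb_spec (P := fun b => ∃ g ∈ H, OrbSys.Ez z (g * cod 12 z x r * g⁻¹) (cod 12 z x b)) ?_ k N _ ho ?_
    · rintro i a ⟨g, hg, h1⟩
      have hw : gwd y (Ls.getD i []) ∈ H := by
        rcases Nat.lt_or_ge i Ls.length with hi | hi
        · rw [List.getD_eq_getElem _ _ hi]
          exact hL _ (List.getElem_mem hi)
        · rw [List.getD_eq_default _ _ hi]
          exact H.one_mem
      refine ⟨gwd y (Ls.getD i []) * g, H.mul_mem hw hg, ?_⟩
      have h2 := (h1.conj (h.Ez _ (hHE hw))).trans h.zz (h.gwd_ez (Ls.getD i []) a)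
      have h3 : (gwd y (Ls.getD i []) * g) * cod 12 z x r * (gwd y (Ls.getD i []) * g)⁻¹ =
          gwd y (Ls.getD i []) * (g * cod 12 z x r * g⁻¹) * (gwd y (Ls.getD i []))⁻¹ := by group
      rw [h3]
      exact h2
    · intro b hb
      rw [Nat.testBit_two_pow, decide_eq_true_eq] at hb
      subst hb
      exact ⟨1, H.one_mem, by left; group⟩
  rw [pc_eq _ _ hM]
  have h1 : ∀ b ∈ bits (2 ^ 12) M, ∃ g ∈ H, OrbSys.Ez z (g * cod 12 z x r * g⁻¹) (cod 12 z x b) :=
    fun b hb => hreach b (mem_bits.1 hb).2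
  choose! u hu hu' using h1
  set H' : Subgroup F := H ⊓ stz z h.zz (cod 12 z x r) with hH'
  have hle : ∀ p : bits (2 ^ 12) M × H', u p.1 * p.2 ∈ H := fun p => H.mul_mem (hu _ p.1.2) p.2.2.1
  have hez : ∀ p : bits (2 ^ 12) M × H',
      OrbSys.Ez z ((u p.1 * p.2) * cod 12 z x r * (u p.1 * p.2 : F)⁻¹) (cod 12 z x p.1) := by
    rintro ⟨b, s⟩
    have h2 := s.2.2.2
    have h3 := (h2.conj (h.Ez _ (hHE (hu b b.2)))).trans h.zz (hu' b b.2)
    have h4 : u b * s * cod 12 z x r * (u b * s : F)⁻¹ = u b * (s * cod 12 z x r * (s : F)⁻¹) * (u b)⁻¹ := by group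
    show OrbSys.Ez z (u b * s * cod 12 z x r * (u b * s : F)⁻¹) _
    rw [h4]
    exact h3
  have hinj : Function.Injective (fun p : bits (2 ^ 12) M × H' => (⟨u p.1 * p.2, hle p⟩ : H)) := by
    rintro ⟨b, s⟩ ⟨b', s'⟩ he
    simp only [Subtype.mk.injEq] at he
    have h2 := hez (b, s)
    have h3 := hez (b', s')
    simp only at h2 h3
    rw [he] at h2
    have h4 := h.pi_of (mem_bits.1 b.2).1 h2
    have h5 := h.pi_of (mem_bits.1 b'.2).1 h3
    have h6 : b = b' := Subtype.ext (h4.symm.trans h5)
    subst h6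
    have h7 : (s : F) = s' := mul_left_cancel he
    rw [Subtype.ext h7]
  have h2 := Nat.card_le_card_of_injective _ hinj
  rwa [Nat.card_prod, Nat.card_eq_fintype_card, Fintype.card_coe] at h2

theorem Sys.RG_le_stz (c : ℕ) : RG 12 z x ≤ stz z h.zz (cod 12 z x c) := by
  intro r hr
  refine ⟨h.Ez _ (h.RE hr), ?_⟩
  rcases RG_comm h.rel Om.tri hr (cod_mem (n := 12) (z := z) (x := x) c) with h1 | h1
  · left; rw [h1]; group
  · right; rw [h1]; group

/-- **The order of `E`.** -/
theorem Sys.card_E [Finite F] : 9797760 * 8192 ≤ Nat.card E := by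
  have h1 : 378 * Nat.card (E ⊓ stz z h.zz (cod 12 z x 1) : Subgroup F) ≤ Nat.card E := by
    have h2 := h.stab_le (H := E) (le_refl _) (Ls := (List.range 36).map fun k => [k])
      (fun w _ => h.gwd_mem w) (M := Om.OM) (k := 377) (N := N1) (r := 1) orbC0 lt1
    rwa [pc1] at h2
  have h2 : 432 * Nat.card (E ⊓ stz z h.zz (cod 12 z x 1) ⊓ stz z h.zz (cod 12 z x 38) : Subgroup F) ≤
      Nat.card (E ⊓ stz z h.zz (cod 12 z x 1) : Subgroup F) := by
    have h3 := h.stab_le (H := E ⊓ stz z h.zz (cod 12 z x 1)) inf_le_left (Ls := W1)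
      (fun w hw => ⟨h.gwd_mem w, h.gwd_stz (fixC1 w hw)⟩) orbC1 ltC1
    rwa [pcC1] at h3
  have h3 : 60 * Nat.card (E ⊓ stz z h.zz (cod 12 z x 1) ⊓ stz z h.zz (cod 12 z x 38) ⊓
      stz z h.zz (cod 12 z x 127) : Subgroup F) ≤
      Nat.card (E ⊓ stz z h.zz (cod 12 z x 1) ⊓ stz z h.zz (cod 12 z x 38) : Subgroup F) := by
    have h4 := h.stab_le (H := E ⊓ stz z h.zz (cod 12 z x 1) ⊓ stz z h.zz (cod 12 z x 38))
      (inf_le_left.trans inf_le_left) (Ls := W2)
      (fun w hw => ⟨⟨h.gwd_mem w, h.gwd_stz (fixC2 w hw).1⟩, h.gwd_stz (fixC2 w hw).2⟩) orbC2 ltC2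
    rwa [pcC2] at h4
  have h4 : 8192 ≤ Nat.card (E ⊓ stz z h.zz (cod 12 z x 1) ⊓ stz z h.zz (cod 12 z x 38) ⊓
      stz z h.zz (cod 12 z x 127) : Subgroup F) := by
    have h5 : RG 12 z x ≤ E ⊓ stz z h.zz (cod 12 z x 1) ⊓ stz z h.zz (cod 12 z x 38) ⊓
        stz z h.zz (cod 12 z x 127) :=
      le_inf (le_inf (le_inf h.RE (h.RG_le_stz _)) (h.RG_le_stz _)) (h.RG_le_stz _)
    have h6 : Nat.card (RG 12 z x) = 8192 := card_RG h.rel Om.tri Om.nondeg h.z1
    rw [← h6]
    exact Subgroup.card_le_of_le h5
  calc 9797760 * 8192 = 378 * (432 * (60 * 8192)) := by norm_num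
    _ ≤ 378 * (432 * (60 * Nat.card (E ⊓ stz z h.zz (cod 12 z x 1) ⊓ stz z h.zz (cod 12 z x 38) ⊓
      stz z h.zz (cod 12 z x 127) : Subgroup F))) := by gcongr
    _ ≤ 378 * (432 * Nat.card (E ⊓ stz z h.zz (cod 12 z x 1) ⊓ stz z h.zz (cod 12 z x 38) : Subgroup F)) := by gcongr
    _ ≤ 378 * Nat.card (E ⊓ stz z h.zz (cod 12 z x 1) : Subgroup F) := by gcongr
    _ ≤ Nat.card E := h1

end

end Cfsg.Agent.KFacts.FiTF.OrbSys
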