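import Cfsg.Agent.KFacts.FiTF.QuasiA
import Cfsg.Agent.R08.TetFi24B

/-!
# `Fi24'`: `C_F(R) = ⟨z⟩`
-/

set_option autoImplicit false

namespace Cfsg.Agent.KFacts.FiTF.Cent

open Cfsg Cfsg.Spor Cfsg.Spor.Fi24 Subgroup
open Cfsg.Agent.Fischer.Fi24Rep (gen)
open Cfsg.Agent.R08.FiTwentyFour (L)
open Cfsg.Agent.R08.TetTwo (IsTet Mate)
open Cfsg.Agent.R08.TetThree (Pairs Q)
open Cfsg.Agent.KFacts.FiTF.Defs Cfsg.Agent.KFacts.FiTF.Tet Cfsg.Agent.KFacts.FiTF.RQ
  Cfsg.Agent.KFacts.FiTF.QuasiA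
open Cfsg.Agent.LargeExtra.Model Cfsg.Agent.LargeExtra.Pres
open Cfsg.Agent.KFacts.Codes
open Cfsg.Agent.KFacts.FiTF.Om (B Y)

/-- an element centralising `R` centralises the members of every tetrad -/
theorem comm_tet (htr : Tran) {g : Spor.Fi24} (hg : ∀ r ∈ R, g * r = r * g) {a b c d : Spor.Fi24}
    (h : IsTet L z a b c d) : g * a = a * g := by
  have key : ∀ b' : Spor.Fi24, Mate L z a b' → g * a * g⁻¹ = a ∨ g * a * g⁻¹ = b' := by
    intro b' hm
    obtain ⟨ha, hb', hab, hne⟩ := hm.mem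
    have h1 : a * b' ∈ R := pair_mem_R htr ⟨a, b', hm, rfl⟩
    have h2 := hg _ h1
    have h3 : a * b' = (g * a * g⁻¹) * (g * b' * g⁻¹) := by
      calc a * b' = (a * b') * g * g⁻¹ := by group
        _ = g * (a * b') * g⁻¹ := by rw [h2]
        _ = _ := by group
    rcases Cfsg.Agent.R08.TetBasic.pair_unique Tet.tr ha hb' (Tet.tr.conj g a ha) (Tet.tr.conj g b' hb') hab hne
      (hab.map (MulAut.conj g).toMonoidHom) h3 with ⟨h4, -⟩ | ⟨h4, -⟩
    · exact Or.inl h4
    · exact Or.inr h4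
  have h1 : g * a * g⁻¹ = a := by
    rcases key b ⟨_, _, h⟩ with h1 | h1
    · exact h1
    · rcases key c ⟨_, _, h.sw23⟩ with h2 | h2
      · exact h2
      · exact absurd (h1.symm.trans h2) h.nbc
  exact mul_inv_eq_iff_eq_mul.1 h1

/-- an element centralising `R` centralises `Dz` -/
theorem comm_Dz (htr : Tran) {g : Spor.Fi24} (hg : ∀ r ∈ R, g * r = r * g) {d : Spor.Fi24} (hd : d ∈ Dz) :
    g * d = d * g := by
  obtain ⟨w, hw, rfl⟩ := htr d hd
  have hwz : Commute w z := closure_z (W_le hw)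
  have h1 := (isTet (t := 0) (by norm_num)).conj Tet.tr hwz
  rw [D00] at h1
  exact comm_tet htr hg h1

/-- `l` acts nontrivially on `R/⟨z⟩` -/
theorem l_moves {h : Spor.Fi24} (hh : h ∈ R) (hx : gen .l * x 2 * (gen .l)⁻¹ = h * x 2 * h⁻¹) : False := by
  have h1 := conj_y (t := 0) (j := 2) (by norm_num) (by norm_num)
  rw [y_zero, hx] at h1
  have hx2 : x 2 = cod 12 z x 4 := (cod_pow (n := 12) (z := z) (x := x) (i := 2) (by norm_num)).symm
  have h5 : Y 0 2 = 5 := by decide
  rw [h5] at h1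
  rcases RG_comm rels Om.tri hh (x_mem (j := 2) (by norm_num)) with h2 | h2
  · rw [h2, mul_inv_cancel_right, hx2] at h1
    exact absurd (cod_injOn rels Om.tri Om.nondeg z_ne (by norm_num) (by norm_num) h1) (by norm_num)
  · rw [h2, show z * (x 2 * h) * h⁻¹ = z * x 2 by group, hx2,
      show z * cod 12 z x 4 = cod 12 z x (mulc B 12 (2 ^ 12) 4) by
        rw [← cod_mul rels Om.tri, cod_z]] at h1
    exact absurd (cod_injOn rels Om.tri Om.nondeg z_ne (by decide +kernel) (by norm_num) h1) (by decide +kernel)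

/-- **`C_F(R) = ⟨z⟩`** -/
theorem cent (htr : Tran) (g : Spor.Fi24) (hg : ∀ r ∈ R, g * r = r * g) : g = 1 ∨ g = z := by
  have hD := fun d (hd : d ∈ Dz) => comm_Dz htr hg hd
  have hT := isTet (t := 0) (by norm_num)
  have hpairs : ∀ v ∈ commutator Spor.Fi24, (∀ d ∈ Dz, d * gen .l = gen .l * d → v * d = d * v) → v ∈ R := by
    intro v hv hvD
    have hmem : ∀ i < 4, Commute v (D 0 i) := by
      intro i hi
      have hc := D_comm (t := 0) (i := i) (k := 0) (by norm_num) hi (by norm_num)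
      rw [D00] at hc
      exact hvD _ (D_mem_Dz (by norm_num) hi) hc
    rcases Cfsg.Agent.R08.TetFi24B.cent z (D 0 0) (D 0 1) (D 0 2) (D 0 3) hT v hv (hmem 0 (by norm_num))
      (hmem 1 (by norm_num)) (hmem 2 (by norm_num)) (hmem 3 (by norm_num)) (by
        intro e he h0 h1 h2 h3
        have hez : e * z = z * e := by
          rw [← hT.prod]
          exact (((h0.mul_right h1).mul_right h2).mul_right h3).eq
        have h0' := h0.eq
        rw [D00] at h0'
        exact hvD e ⟨he, hez⟩ h0') with h | h | h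
    · rw [h]; exact R.one_mem
    · rw [h]; exact z_mem
    · exact pair_mem_R htr h
  by_cases hK : g ∈ commutator Spor.Fi24
  · have hgR := hpairs g hK (fun d hd _ => hD d hd)
    exact RG_center rels Om.tri Om.nondeg z_ne hgR (fun r hr => (hg r hr).symm)
  · exfalso
    have h1 : g * gen .l ∈ commutator Spor.Fi24 :=
      (Subgroup.mul_mem_iff_of_index_two Cfsg.Agent.R08.FiTwentyFour.index_commutator).2
        (iff_of_false hK (Cfsg.Agent.R08.FiTwentyFour.odd l_mem.1))
    have h2 : g * gen .l ∈ R := hpairs _ h1 (fun d hd hdl => by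
      rw [mul_assoc, ← hdl, ← mul_assoc, hD d hd, mul_assoc])
    -- `l` acts on `R` as `g l`
    apply l_moves h2
    have hxg := hg _ (R.mul_mem (R.mul_mem h2 (x_mem (j := 2) (by norm_num))) (R.inv_mem h2))
    set r' := g * gen .l * x 2 * (g * gen .l)⁻¹ with hr'
    calc gen .l * x 2 * (gen .l)⁻¹ = g⁻¹ * r' * g := by rw [hr']; group
      _ = g⁻¹ * (r' * g) := mul_assoc _ _ _
      _ = g⁻¹ * (g * r') := by rw [← hxg]
      _ = r' := by group

end Cfsg.Agent.KFacts.FiTF.Cent
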