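import Mathlib

/-!
# Linear groups preserving a mask: bound by a chain of base points

A finite group `Γ` acts linearly on codes `< 2 ^ n` and preserves the mask `OM`. The subgroup acting trivially on the
base points `v 0, …, v (m-1)` has index at most `∏ num OM v n k`, where `num OM v n k` is the number of codes `w` such
that `OM (u + w) = OM (u + v k)` for all `u` in the span of `v 0, …, v (k-1)`.
-/

set_option autoImplicit false

namespace Cfsg.Agent.KFacts.FiTF.Chain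

open Subgroup

/-- `f` on all elements of the span of `v 0, …, v (k-1)` translated by `a` -/
def spanAll (v : ℕ → ℕ) (f : ℕ → Bool) : ℕ → ℕ → Bool
  | 0, a => f a
  | k + 1, a => spanAll v f k a && spanAll v f k (a ^^^ v k)

/-- number of `w` in `[a, a + 2 ^ k)` with `f w` -/
def cnt (f : ℕ → Bool) : ℕ → ℕ → ℕ
  | 0, a => cond (f a) 1 0
  | k + 1, a => cnt f k a + cnt f k (a + 2 ^ k)

/-- the test -/
def chk (OM : ℕ) (v : ℕ → ℕ) (k w : ℕ) : Bool :=
  spanAll v (fun u => OM.testBit (u ^^^ w) == OM.testBit (u ^^^ v k)) k 0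

/-- the number of possible images of `v k` -/
def num (OM : ℕ) (v : ℕ → ℕ) (n k : ℕ) : ℕ := cnt (chk OM v k) n 0

theorem spanAll_of {v : ℕ → ℕ} {f : ℕ → Bool} {S : ℕ → Prop} :
    ∀ (k : ℕ) (_ : ∀ i < k, ∀ a, S a → S (a ^^^ v i)) (_ : ∀ a, S a → f a = true) (a : ℕ), S a →
      spanAll v f k a = true := by
  intro k
  induction k with
  | zero => intro _ hf a ha; exact hf a ha
  | succ k ih =>
    intro hv hf a ha
    have h1 := ih (fun i hi => hv i (by omega)) hf a ha
    have h2 := ih (fun i hi => hv i (by omega)) hf (a ^^^ v k) (hv k (by omega) a ha)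
    simp only [spanAll, h1, h2, Bool.and_self]

theorem cnt_eq (f : ℕ → Bool) : ∀ k a : ℕ,
    cnt f k a = ((Finset.Ico a (a + 2 ^ k)).filter (fun w => f w = true)).card := by
  intro k
  induction k with
  | zero =>
    intro a
    rw [pow_zero, Nat.Ico_succ_singleton, Finset.filter_singleton]
    cases h : f a <;> simp [cnt, h]
  | succ k ih =>
    intro a
    have h1 : Finset.Ico a (a + 2 ^ (k + 1)) =
        Finset.Ico a (a + 2 ^ k) ∪ Finset.Ico (a + 2 ^ k) (a + 2 ^ k + 2 ^ k) := by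
      rw [Finset.Ico_union_Ico_eq_Ico (Nat.le_add_right _ _) (Nat.le_add_right _ _)]
      congr 1
      rw [pow_succ]; ring
    have h2 : Disjoint ((Finset.Ico a (a + 2 ^ k)).filter (fun w => f w = true))
        ((Finset.Ico (a + 2 ^ k) (a + 2 ^ k + 2 ^ k)).filter (fun w => f w = true)) := by
      apply Finset.disjoint_filter_filter
      rw [Finset.disjoint_left]
      intro x hx hx'
      rw [Finset.mem_Ico] at hx hx'
      omega
    show cnt f k a + cnt f k (a + 2 ^ k) = _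
    rw [h1, Finset.filter_union, Finset.card_union_of_disjoint h2, ← ih, ← ih]

section Act

variable {Γ : Type*} [Group Γ] {n : ℕ} {ρ : Γ → ℕ → ℕ} {OM : ℕ}

/-- Linear action on codes preserving a mask. -/
structure Act (n : ℕ) (OM : ℕ) (ρ : Γ → ℕ → ℕ) : Prop where
  one : ∀ c < 2 ^ n, ρ 1 c = c
  mul : ∀ g h, ∀ c < 2 ^ n, ρ (g * h) c = ρ g (ρ h c)
  xor : ∀ g, ∀ c < 2 ^ n, ∀ d < 2 ^ n, ρ g (c ^^^ d) = ρ g c ^^^ ρ g d
  lt : ∀ g, ∀ c < 2 ^ n, ρ g c < 2 ^ n
  om : ∀ g, ∀ c < 2 ^ n, OM.testBit (ρ g c) = OM.testBit c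

variable (h : Act n OM ρ)
include h

theorem Act.inv_apply (g : Γ) {c d : ℕ} (hc : c < 2 ^ n) (hd : ρ g c = d) : ρ g⁻¹ d = c := by
  rw [← hd, ← h.mul _ _ c hc, inv_mul_cancel, h.one c hc]

/-- the stabiliser of a set of codes -/
def Act.stab (v : ℕ → ℕ) (hv : ∀ i, v i < 2 ^ n) (k : ℕ) : Subgroup Γ where
  carrier := {g | ∀ i < k, ρ g (v i) = v i}
  one_mem' := fun i _ => h.one _ (hv i)
  mul_mem' := by
    intro a b ha hb i hi
    rw [h.mul a b _ (hv i), hb i hi, ha i hi]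
  inv_mem' := by
    intro a ha i hi
    exact h.inv_apply a (hv i) (ha i hi)

theorem Act.mem_stab {v : ℕ → ℕ} {hv : ∀ i, v i < 2 ^ n} {k : ℕ} {g : Γ} :
    g ∈ h.stab v hv k ↔ ∀ i < k, ρ g (v i) = v i := Iff.rfl

theorem Act.chk_of {v : ℕ → ℕ} (hv : ∀ i, v i < 2 ^ n) {k : ℕ} {g : Γ} (hg : g ∈ h.stab v hv k) :
    chk OM v k (ρ g (v k)) = true := by
  refine spanAll_of (S := fun a => a < 2 ^ n ∧ ρ g a = a) k ?_ ?_ 0
    ⟨Nat.two_pow_pos n, ?_⟩
  · rintro i hi a ⟨ha, hga⟩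
    exact ⟨Nat.xor_lt_two_pow ha (hv i), by rw [h.xor g a ha _ (hv i), hga, hg i hi]⟩
  · rintro a ⟨ha, hga⟩
    have h1 := h.om g (a ^^^ v k) (Nat.xor_lt_two_pow ha (hv k))
    rw [h.xor g a ha _ (hv k), hga] at h1
    simp only [h1, beq_self_eq_true]
  · have h1 := h.xor g 0 (Nat.two_pow_pos n) 0 (Nat.two_pow_pos n)
    simpa using h1

theorem Act.relIndex_le [Finite Γ] {v : ℕ → ℕ} (hv : ∀ i, v i < 2 ^ n) (k : ℕ) :
    (h.stab v hv (k + 1)).relIndex (h.stab v hv k) ≤ num OM v n k := by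
  classical
  set G := h.stab v hv k with hG
  set H := (h.stab v hv (k + 1)).subgroupOf G with hH
  set S := (Finset.Ico 0 (0 + 2 ^ n)).filter (fun w => chk OM v k w = true) with hS
  have hmem : ∀ g ∈ G, ρ g (v k) ∈ S := by
    intro g hg
    rw [hS, Finset.mem_filter, Finset.mem_Ico]
    exact ⟨⟨Nat.zero_le _, by rw [zero_add]; exact h.lt g _ (hv k)⟩, h.chk_of hv hg⟩
  have hnum : num OM v n k = Nat.card S := by
    rw [num, cnt_eq, ← hS, Nat.card_eq_fintype_card, Fintype.card_coe]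
  rw [hnum]
  show Nat.card (G ⧸ H) ≤ _
  refine Nat.card_le_card_of_injective
    (fun q : G ⧸ H => (⟨ρ (q.out : G) (v k), hmem _ (q.out : G).2⟩ : S)) ?_
  intro q q' hq
  have h1 : ρ (q.out : G) (v k) = ρ (q'.out : G) (v k) := congrArg Subtype.val hq
  have h2 : (q.out)⁻¹ * q'.out ∈ H := by
    refine mem_subgroupOf.mpr ?_
    show ((q.out : G) : Γ)⁻¹ * ((q'.out : G) : Γ) ∈ h.stab v hv (k + 1)
    intro i hi
    rcases Nat.lt_succ_iff_lt_or_eq.mp hi with h3 | h3
    · have h4 := (q.out : G).2 i h3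
      have h5 := (q'.out : G).2 i h3
      rw [h.mul _ _ _ (hv i), h5]
      exact h.inv_apply _ (hv i) h4
    · subst h3
      rw [h.mul _ _ _ (hv _), ← h1]
      exact h.inv_apply _ (hv _) rfl
  rw [← QuotientGroup.out_eq' q, ← QuotientGroup.out_eq' q']
  exact QuotientGroup.eq.mpr h2

theorem Act.index_le [Finite Γ] {v : ℕ → ℕ} (hv : ∀ i, v i < 2 ^ n) (k : ℕ) :
    (h.stab v hv k).index ≤ ∏ i ∈ Finset.range k, num OM v n i := by
  induction k with
  | zero =>
    have h1 : h.stab v hv 0 = ⊤ := by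
      rw [eq_top_iff]
      intro g _ i hi
      omega
    rw [h1, index_top, Finset.range_zero, Finset.prod_empty]
  | succ k ih =>
    have hle : h.stab v hv (k + 1) ≤ h.stab v hv k := fun g hg i hi => hg i (by omega)
    rw [← relIndex_mul_index hle, Finset.prod_range_succ, mul_comm]
    exact Nat.mul_le_mul ih (h.relIndex_le hv k)

end Act

end Cfsg.Agent.KFacts.FiTF.Chain
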