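import Cfsg.Agent.KFacts.Orbits

/-!
# `Fi24'`: the data of `R = 2^{1+12}` (codes)

Basis `x_{2t} = D(P t 0) D(P t 1)`, `x_{2t+1} = D(P t 0) D(P t 2)` for the six tetrads `t < 6`; generators
`y_t = D(P t 0)`.

* `B`: `x_i x_j = z^{B_ij} x_j x_i`; `Y t i`: code of `y_t x_i y_t⁻¹`; `S j t`: `x_j` maps `P t i` to `P t (i xor S j t)`.
* `OM`: mask (4096 bits) of the 378 vectors of `R/⟨z⟩` given by the products of two members of a tetrad.
* `base`: basis of `F₂^12` with `#{w | OM (u + w) = OM (u + v_k) for u in ⟨v_0 … v_{k-1}⟩} = sizes k`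
  (product 40170816 < 2 * 39191040).
-/

set_option autoImplicit false

namespace Cfsg.Agent.KFacts.FiTF.Om

open Cfsg.Agent.KFacts.Codes Cfsg.Agent.LargeExtra.Model Cfsg.Agent.LargeExtra.Pres

def B (i : ℕ) : ℕ := ([0, 0, 2, 1, 8, 4, 32, 16, 32, 16, 456, 900] : List ℕ).getD i 0

def Y (t i : ℕ) : ℕ := (([[1, 2, 5, 10, 16, 32, 64, 128, 256, 512, 1024, 2048], [5, 10, 4, 8, 20, 40, 64, 128, 256, 512, 1028, 2056], [1, 2, 20, 40, 16, 32, 80, 160, 272, 544, 1024, 2048], [1, 2, 4, 8, 80, 160, 64, 128, 256, 512, 5312, 2112], [1, 2, 4, 8, 272, 544, 64, 128, 256, 512, 1536, 6912], [1, 2, 1028, 2056, 16, 32, 2112, 7296, 7424, 1536, 1024, 2048]] : List (List ℕ)).getD t []).getD i 0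

def S (j t : ℕ) : ℕ := (([[0, 1, 0, 0, 0, 0], [0, 2, 0, 0, 0, 0], [1, 0, 1, 0, 0, 1], [2, 0, 2, 0, 0, 2], [0, 1, 0, 1, 1, 0], [0, 2, 0, 2, 2, 0], [0, 0, 1, 0, 0, 2], [0, 0, 2, 0, 0, 3], [0, 0, 1, 0, 0, 3], [0, 0, 2, 0, 0, 1], [0, 1, 0, 3, 2, 0], [0, 2, 0, 1, 3, 0]] : List (List ℕ)).getD j []).getD t 0

def base : List ℕ := [3343, 2143, 2167, 160, 1852, 5, 15, 20, 80, 256, 1, 2]

def sizes : List ℕ := [378, 82, 27, 12, 1, 2, 1, 1, 1, 1, 2, 1]

def OM : ℕ := 0x1600460020008000100310000000000000a080000000800000002600200000000000000c8000800000000000000009008000000000008900895c000c80000000100000501000000010000000090010000000000000000000095c0050190010000600400040000000000319a30900190080a089a300000900800020004900100000000000000000031000100000000000000010000050100310000653005010000000000c400040a0800010a02000400000001900100000a08000000080000000005040000000460040000000000040000000000000000600405046530000095c0050400c40000000200000a02000095c000009001050100020504000805010000000000000000000000000032000200000a02000000029a300a02003200000000000000010031000000000000000000009001000100009a309001000000310501000000010000600200000000000200c800c400010002000400c4000000000501653000000031600265300032000000c80008000000000004000800320031900100040002900800000000000200320000000400000504900100000000000100000000000200320008050100020504000800000000900800000501000000010000000400000504000800000000900800080004003100320000000000310001900100000000000100000501000000010000000000310001900105010031953e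

theorem tri : Tri B 12 := by decide

theorem nondeg_aux : ∀ a < 64, ∀ b < 64, a * 64 + b ≠ 0 →
    ∃ i : Fin 12, bf B 12 (a * 64 + b) (2 ^ i.1) ≠ bf B 12 (2 ^ i.1) (a * 64 + b) := by decide +kernel

theorem nondeg : Nondeg B 12 := by
  intro v hv
  have h1 := v.2
  have h2 := nondeg_aux (v.1 / 64) (by omega) (v.1 % 64) (by omega) (by omega)
  rwa [show v.1 / 64 * 64 + v.1 % 64 = v.1 by omega] at h2

end Cfsg.Agent.KFacts.FiTF.Om
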