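import Cfsg.Agent.R08.FiTwentyFour
import Cfsg.Agent.KFacts.FiTF.Om

/-!
# `Fi24'`: the points and words of six tetrads of `z`

`P t i` (`t < 6`, `i < 4`): position (numbering of `Fischer.Fi24RepDef`) of the transposition
`D t i = U t i * gen (X t i) * (U t i)⁻¹`; the product over `i` is `z` for every `t`. `T 0 = {l, a, c, e}`.
`x (2t) = D t 0 * D t 1`, `x (2t+1) = D t 0 * D t 2` is a basis of `R/⟨z⟩`, `R = RG 12 z x`; `y t = D t 0`.
`E` = even products of the 504 transpositions commuting with `z`.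
-/

set_option autoImplicit false

namespace Cfsg.Agent.KFacts.FiTF.Defs

open Cfsg.Spor (Fi24)
open Cfsg.Spor.Fi24 (Gen)
open Cfsg.Agent.Fischer.Fi24Rep (word gen)
open Cfsg.Agent.R08.FiTwentyFour (L)

def P (t i : ℕ) : ℕ := (([[0, 1, 2, 3], [305392, 305398, 305362, 305364], [9, 14, 19, 20], [136, 148, 159, 158], [176, 177, 179, 178], [10, 16, 13, 17]] : List (List ℕ)).getD t []).getD i 0

def U (t i : ℕ) : List Gen := (([
  [[], [], [], []],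
  [[.d, .h, .i, .b, .c, .d, .h, .e, .d, .c, .b, .k], [.d, .h, .i, .a, .b, .c, .d, .h, .e, .d, .c, .b, .l, .k], [.c, .d, .h, .i, .b, .c, .d, .h, .e, .d, .c, .b, .l, .k], [.e, .d, .h, .i, .b, .c, .d, .h, .e, .d, .c, .b, .l, .k]],
  [[.f, .e, .d, .h, .g, .f, .e, .d], [.b, .c, .d, .h, .e, .f, .d, .e, .c, .d, .h, .g, .f, .e, .d, .c], [.i, .h, .b, .c, .d, .e, .a, .b, .c, .d, .h, .i, .f, .e, .k, .a, .b, .c, .d, .h, .g, .f, .e, .d, .c, .b, .l, .k], [.i, .h, .b, .c, .d, .e, .a, .b, .c, .d, .h, .i, .d, .e, .f, .c, .d, .e, .b, .c, .d, .h, .g, .f, .e, .d, .c, .b]],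
  [[], [.f, .e, .d, .h, .c, .d, .e, .b, .c, .d, .h, .f, .g, .e, .f, .d, .e, .c, .d, .h, .j, .g, .f, .e, .d, .c], [.d, .h, .i, .e, .d, .h, .b, .c, .d, .e, .a, .b, .c, .d, .h, .i, .g, .f, .e, .k, .a, .b, .c, .d, .h, .j, .g, .f, .e, .d, .c, .b, .l, .k], [.f, .e, .d, .h, .i, .c, .d, .h, .e, .f, .d, .e, .c, .d, .h, .i, .g, .f, .e, .b, .c, .d, .h, .j, .g, .f, .e, .d, .c, .b]],
  [[], [.h, .i, .d, .h, .e, .d], [.h, .i, .k, .a, .b, .c, .d, .h, .e, .d, .c, .b, .l, .k], [.h, .i, .b, .c, .d, .h, .e, .d, .c, .b]],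
  [[.f, .e, .b, .c, .d, .h, .g, .f, .e, .d, .c, .b], [.i, .h, .d, .e, .c, .d, .h, .i, .f, .e, .k, .a, .b, .c, .d, .h, .g, .f, .e, .d, .c, .b, .l, .k], [.d, .h, .e, .f, .d, .e, .b, .c, .d, .h, .g, .f, .e, .d, .c, .b], [.i, .h, .d, .e, .c, .d, .h, .i, .d, .e, .f, .c, .d, .e, .b, .c, .d, .h, .g, .f, .e, .d, .c, .b]]] : List (List (List Gen))).getD t []).getD i []

def X (t i : ℕ) : Gen := (([
  [.l, .a, .c, .e],
  [.a, .a, .a, .a],
  [.c, .b, .a, .a],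
  [.j, .b, .a, .a],
  [.i, .c, .a, .a],
  [.a, .a, .a, .a]] : List (List Gen)).getD t []).getD i .l

/-- the transposition `u x u⁻¹` -/
def tr (u : List Gen) (x : Gen) : Fi24 := word (u ++ x :: u.reverse)

def D (t i : ℕ) : Fi24 := tr (U t i) (X t i)

def z : Fi24 := gen .l * gen .a * gen .c * gen .e

def x (j : ℕ) : Fi24 := D (j / 2) 0 * D (j / 2) (j % 2 + 1)

def y (t : ℕ) : Fi24 := D t 0

/-- the transpositions commuting with `z` -/
def Dz : Set Fi24 := {d | d ∈ L ∧ d * z = z * d}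

/-- even products of members of `Dz` -/
def E : Subgroup Fi24 := Subgroup.closure {g | ∃ e ∈ Dz, ∃ f ∈ Dz, e * f = g}

def R : Subgroup Fi24 := KFacts.Codes.RG 12 z x

end Cfsg.Agent.KFacts.FiTF.Defs
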