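import Cfsg.Agent.KFacts.FiTF.FixMask
import Cfsg.Agent.R08.TetFi24A

/-!
# `Fi24'`: the automorphisms fixing all products of two transpositions commuting with `z`

`eq_one_or_conj`: such an automorphism is `1` or the conjugation by `z`.
-/

set_option autoImplicit false
set_option maxRecDepth 100000
set_option Elab.async false

namespace Cfsg.Agent.KFacts.FiTF.FixAut

open Cfsg Cfsg.Agent.Lib.PermNetPt Cfsg.Agent.Fischer.Fi24RepDef Cfsg.Agent.Fischer.Fi24Rep
open Cfsg.Agent.Fischer.Fi24Final (sgn sgn_gen gen_sq gen_comm)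
open Cfsg.Agent.Fischer.Fi24Spider (word_append word_cons word_nil)
open Cfsg.Agent.KFacts.FiTF.Pts
open Cfsg.Agent.R08.FiTwentyFour (L trans2 mem_commutator_iff mul_mem_commutator)
open Cfsg.Agent.R08.TetBasic
open Cfsg.Agent.KFacts.FiTF.Defs (z Dz)
open Cfsg.Agent.KFacts.FiTF.FixMask
open Cfsg.Spor (Fi24)
open Cfsg.Spor.Fi24 (Gen)

/-! ### Commuting transpositions -/

section Tr

variable {F : Type*} [Group F] {L : Set F}

/-- An element centralising two pairs with a common member centralises the members. -/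
theorem comm_pair (h : Tr L) {g s n n' : F} (hs : s ∈ L) (hn : n ∈ L) (hn' : n' ∈ L) (h1 : s ≠ n) (h2 : s ≠ n')
    (h3 : n ≠ n') (c1 : Commute s n) (c2 : Commute s n') (g1 : Commute g (s * n)) (g2 : Commute g (s * n')) :
    Commute g s ∧ Commute g n := by
  have key : ∀ m, m ∈ L → s ≠ m → Commute s m → Commute g (s * m) →
      (g * s * g⁻¹ = s ∧ g * m * g⁻¹ = m) ∨ (g * s * g⁻¹ = m ∧ g * m * g⁻¹ = s) := by
    intro m hm hsm cm gm
    refine pair_unique h hs hm (h.conj g s hs) (h.conj g m hm) cm hsm ?_ ?_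
    · show g * s * g⁻¹ * (g * m * g⁻¹) = g * m * g⁻¹ * (g * s * g⁻¹)
      calc g * s * g⁻¹ * (g * m * g⁻¹) = g * (s * m) * g⁻¹ := by group
        _ = g * (m * s) * g⁻¹ := by rw [cm.eq]
        _ = _ := by group
    · have : g * (s * m) = s * m * g := gm.eq
      calc s * m = s * m * g * g⁻¹ := by group
        _ = g * (s * m) * g⁻¹ := by rw [this]
        _ = _ := by group
  have tr : ∀ m, g * m * g⁻¹ = m → Commute g m := by
    intro m hm
    show g * m = m * g
    calc g * m = g * m * g⁻¹ * g := by group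
      _ = m * g := by rw [hm]
  rcases key n hn h1 c1 g1 with ⟨a1, a2⟩ | ⟨a1, -⟩
  · exact ⟨tr s a1, tr n a2⟩
  · exfalso
    rcases key n' hn' h2 c2 g2 with ⟨b1, -⟩ | ⟨b1, -⟩
    · exact h1 (b1.symm.trans a1)
    · exact h3 (a1.symm.trans b1)

theorem no3 (h : Tr L) {v q r s : F} (hv : v ∈ L) (hq : q ∈ L) (hr : r ∈ L) (hs : s ∈ L)
    (nqr : q ≠ r) (nqs : q ≠ s) (nrs : r ≠ s) (cqr : Commute q r) (cqs : Commute q s) (crs : Commute r s)
    (cvq : Commute v q) (cvr : Commute v r) (cvs : Commute v s) : v ≠ q * r * s := by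
  intro e
  have e1 : q * v = r * s := by rw [e, ← mul_assoc, ← mul_assoc, h.sq q hq, one_mul]
  have e2 : r * v = q * s := by
    rw [e, cqr.eq, ← mul_assoc, ← mul_assoc, h.sq r hr, one_mul]
  have n1 : q ≠ v := by
    rintro rfl
    rw [h.sq q hq] at e1
    have := congrArg (· * s) e1
    simp only [one_mul, mul_assoc, h.sq s hs, mul_one] at this
    exact nrs this.symm
  have n2 : v ≠ r := by
    rintro rfl
    rw [h.sq v hv] at e2
    have := congrArg (· * s) e2
    simp only [one_mul, mul_assoc, h.sq s hs, mul_one] at this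
    exact nqs this.symm
  have n3 : v ≠ s := by
    rintro rfl
    exact nqr (mul_right_cancel (e1.trans rfl))
  exact h.four q hq v hv r hr s hs n1 nqr nqs n2 n3 nrs cvq.symm cqr cqs cvr cvs crs e1

/-- A product of two commuting transpositions is not a product of four. -/
theorem no4 (h : Tr L) {u v p q r s : F} (hu : u ∈ L) (hv : v ∈ L) (hp : p ∈ L) (hq : q ∈ L) (hr : r ∈ L)
    (hs : s ∈ L) (nuv : u ≠ v) (cuv : Commute u v)
    (npq : p ≠ q) (npr : p ≠ r) (nps : p ≠ s) (nqr : q ≠ r) (nqs : q ≠ s) (nrs : r ≠ s)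
    (cpq : Commute p q) (cpr : Commute p r) (cps : Commute p s) (cqr : Commute q r) (cqs : Commute q s)
    (crs : Commute r s) : u * v ≠ p * q * r * s := by
  intro e
  have c0 : ∀ g ∈ L, Commute g p → Commute g q → Commute g r → Commute g s → Commute g u ∧ Commute g v := by
    intro g hg g1 g2 g3 g4
    refine comm_of_comm_mul h hu hv hg cuv nuv ?_
    rw [e]
    exact ((g1.mul_right g2).mul_right g3).mul_right g4
  obtain ⟨pu, pv⟩ := c0 p hp (Commute.refl p) cpq cpr cps
  obtain ⟨qu, qv⟩ := c0 q hq cpq.symm (Commute.refl q) cqr cqs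
  obtain ⟨ru, rv⟩ := c0 r hr cpr.symm cqr.symm (Commute.refl r) crs
  obtain ⟨su, sv⟩ := c0 s hs cps.symm cqs.symm crs.symm (Commute.refl s)
  have e2 : p * q * r * s = q * p * r * s := by rw [cpq.eq]
  have e3 : p * q * r * s = r * p * q * s := by
    rw [show p * q * r = r * (p * q) from ((cpr.symm.mul_right cqr.symm).eq).symm, ← mul_assoc]
  have e4 : p * q * r * s = s * p * q * r := by
    have : p * q * r * s = s * (p * q * r) := (((cps.symm.mul_right cqs.symm).mul_right crs.symm).eq).symm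
    rw [this]; group
  have key : ∀ u v, u ∈ L → v ∈ L → u * v = p * q * r * s → Commute p v → Commute q v → Commute r v →
      Commute s v → u ≠ p ∧ u ≠ q ∧ u ≠ r ∧ u ≠ s := by
    intro u v hu hv e pv qv rv sv
    refine ⟨?_, ?_, ?_, ?_⟩
    · rintro rfl
      rw [mul_assoc, mul_assoc] at e
      have e' := mul_left_cancel e
      rw [← mul_assoc] at e'
      exact no3 h hv hq hr hs nqr nqs nrs cqr cqs crs qv.symm rv.symm sv.symm e'
    · rintro rfl
      rw [e2, mul_assoc, mul_assoc] at e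
      have e' := mul_left_cancel e
      rw [← mul_assoc] at e'
      exact no3 h hv hp hr hs npr nps nrs cpr cps crs pv.symm rv.symm sv.symm e'
    · rintro rfl
      rw [e3, mul_assoc, mul_assoc] at e
      have e' := mul_left_cancel e
      rw [← mul_assoc] at e'
      exact no3 h hv hp hq hs npq nps nqs cpq cps cqs pv.symm qv.symm sv.symm e'
    · rintro rfl
      rw [e4, mul_assoc, mul_assoc] at e
      have e' := mul_left_cancel e
      rw [← mul_assoc] at e'
      exact no3 h hv hp hq hr npq npr nqr cpq cpr cqr pv.symm qv.symm rv.symm e'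
  obtain ⟨u1, u2, u3, u4⟩ := key u v hu hv e pv qv rv sv
  obtain ⟨v1, v2, v3, v4⟩ := key v u hv hu (by rw [← cuv.eq]; exact e) pu qu ru su
  refine h.six u hu v hv p hp q hq r hr s hs nuv u1 v1 nqr nqs nrs u2 u3 u4 v2 v3 v4 npq npr nps
    cuv pu.symm pv.symm cqr cqs crs qu.symm ru.symm su.symm qv.symm rv.symm sv.symm cpq cpr cps ?_
  have e5 : p * q * r * s = q * r * s * p := by
    have : q * r * s * p = p * (q * r * s) := ((cpq.mul_right cpr).mul_right cps).eq.symm
    rw [this]; group
  rw [e, e5, mul_assoc, h.sq p hp, mul_one]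

end Tr

/-! ### The graph of the automorphism -/

section Graph

variable (α : MulAut (commutator Fi24))

/-- `α` maps `g` to `g'`. -/
def Mp (g g' : Fi24) : Prop := ∃ h : g ∈ commutator Fi24, (α ⟨g, h⟩ : Fi24) = g'

variable {α}

theorem Mp.mul {a a' b b' : Fi24} (h1 : Mp α a a') (h2 : Mp α b b') : Mp α (a * b) (a' * b') := by
  obtain ⟨m1, rfl⟩ := h1
  obtain ⟨m2, rfl⟩ := h2
  refine ⟨mul_mem m1 m2, ?_⟩
  rw [show (⟨a * b, mul_mem m1 m2⟩ : commutator Fi24) = ⟨a, m1⟩ * ⟨b, m2⟩ from rfl, map_mul]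
  rfl

theorem Mp.inv {a a' : Fi24} (h1 : Mp α a a') : Mp α a⁻¹ a'⁻¹ := by
  obtain ⟨m1, rfl⟩ := h1
  refine ⟨inv_mem m1, ?_⟩
  rw [show (⟨a⁻¹, inv_mem m1⟩ : commutator Fi24) = ⟨a, m1⟩⁻¹ from rfl, map_inv]
  rfl

theorem Mp.one : Mp α 1 1 := by
  refine ⟨one_mem _, ?_⟩
  rw [show (⟨1, one_mem _⟩ : commutator Fi24) = 1 from rfl, map_one]
  rfl

theorem Mp.ex {g : Fi24} (h : g ∈ commutator Fi24) : ∃ g', Mp α g g' := ⟨_, h, rfl⟩

theorem Mp.fn {g a b : Fi24} (h1 : Mp α g a) (h2 : Mp α g b) : a = b := by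
  obtain ⟨m1, rfl⟩ := h1
  obtain ⟨m2, rfl⟩ := h2
  rfl

theorem Mp.inj {g k a : Fi24} (h1 : Mp α g a) (h2 : Mp α k a) : g = k := by
  obtain ⟨m1, h1⟩ := h1
  obtain ⟨m2, h2⟩ := h2
  exact congrArg Subtype.val (α.injective (Subtype.ext (h1.trans h2.symm)))

/-- `α` permutes the products of two commuting transpositions. -/
theorem pairs {a b : Fi24} (ha : a ∈ L) (hb : b ∈ L) (hne : a ≠ b) (hab : Commute a b) (h : Mp α (a * b) (a * b))
    {a' b' : Fi24} (ha' : a' ∈ L) (hb' : b' ∈ L) (hne' : a' ≠ b') (hab' : Commute a' b') :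
    ∃ x ∈ L, ∃ y ∈ L, x ≠ y ∧ Commute x y ∧ Mp α (a' * b') (x * y) := by
  obtain ⟨g, hg, rfl, rfl⟩ := trans2 ha hb ha' hb' hne hab hne' hab'
  obtain ⟨k, hk⟩ := Mp.ex (α := α) hg
  refine ⟨_, R08.FiTwentyFour.conj ha k, _, R08.FiTwentyFour.conj hb k, ?_, ?_, ?_⟩
  · intro e
    apply hne
    have := congrArg (fun x => k⁻¹ * x * k) e
    simpa [mul_assoc] using this
  · show k * a * k⁻¹ * (k * b * k⁻¹) = k * b * k⁻¹ * (k * a * k⁻¹)
    calc k * a * k⁻¹ * (k * b * k⁻¹) = k * (a * b) * k⁻¹ := by group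
      _ = k * (b * a) * k⁻¹ := by rw [hab.eq]
      _ = _ := by group
  · have h1 := (hk.mul h).mul hk.inv
    rw [show g * a * g⁻¹ * (g * b * g⁻¹) = g * (a * b) * g⁻¹ by group,
      show k * a * k⁻¹ * (k * b * k⁻¹) = k * (a * b) * k⁻¹ by group]
    exact h1

end Graph

/-! ### Kernel checks -/

def w5 : List Gen := [.d, .h, .e, .d]
def w6 : List Gen := [.b, .c, .d, .h, .e, .d, .c, .b]
def wt : List Gen := [.b, .d, .h, .c, .d, .i, .h, .e, .d, .c, .b, .a]

/-- The words of three transpositions of `Dz`. -/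
def t5 : List Gen := w5 ++ Gen.c :: w5.reverse
def t6 : List Gen := w6 ++ Gen.a :: w6.reverse
def tt : List Gen := wt ++ Gen.k :: wt.reverse

noncomputable def nz : List Lib.PermNet.Net := nw [.l, .a, .c, .e] false

theorem chk_z : and (chkPt nz 0 0) (and (chkPt nz 1 1) (and (chkPt nz 2 2) (and (chkPt nz 3 3) (and (chkPt nz 4 4)
    (and (chkPt nz 8 8) (and (chkPt nz 136 136) (and (chkPt nz 176 176) (and (chkPt nz 5 5) (and (chkPt nz 6 6)
    (and (chkPt nz 305392 305392) (chkPt nz 169 169))))))))))) = true := by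
  decide +kernel

theorem pos_5 : chkPt (nw w5 false) (pn .c) 5 = true := by decide +kernel
theorem pos_6 : chkPt (nw w6 false) (pn .a) 6 = true := by decide +kernel
theorem pos_t : chkPt (nw wt false) (pn .k) 305392 = true := by decide +kernel
theorem pos_w : chkPt (nw uw false) (pn .c) 169 = true := by decide +kernel
theorem w_l : chkPt (nw (uw ++ Gen.c :: uw.reverse) false) 0 0 = true := by decide +kernel
theorem w_f : chkPt (nw (uw ++ Gen.c :: uw.reverse) false) 676 676 = true := by decide +kernel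
theorem e_f : chkPt (nw [.e] false) 676 672 = true := by decide +kernel
theorem e_f' : chkPt (nw [.e] false) 672 676 = true := by decide +kernel
theorem f_f' : chkPt (nw [.f] false) 672 3 = true := by decide +kernel

/-- Words conjugating letters of `Dz` to `b, d, k`. -/
def pb : List (List Gen) := [tt, t6, [.f], tt, t6, t5, [.f], [.c], tt]
def pd : List (List Gen) := [t5, [.f], tt, [.i], t5, [.e], [.f], tt]
def pk : List (List Gen) := [tt, t6, [.e], [.f], tt, t5, [.f], [.l], tt]

theorem conj_b : chkPt (nw pb.flatten false) (pn .a) (pn .b) = true := by decide +kernel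
theorem conj_d : chkPt (nw pd.flatten false) (pn .c) (pn .d) = true := by decide +kernel
theorem conj_k : chkPt (nw pk.flatten false) (pn .a) (pn .k) = true := by decide +kernel

/-! ### The members of `Dz` -/

theorem gen_L (x : Gen) : gen x ∈ L := R08.FiTwentyFour.gen_mem_L x

theorem mem_Dz {d : Fi24} {p : ℕ} (h : IsPt d p) (hz : chkPt nz p p = true) : d ∈ Dz :=
  ⟨h.mem, ((com h z).2 (rho_z hz)).symm.eq⟩

theorem Dz_gen : gen .l ∈ Dz ∧ gen .a ∈ Dz ∧ gen .c ∈ Dz ∧ gen .e ∈ Dz ∧ gen .h ∈ Dz ∧ gen .g ∈ Dz ∧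
    gen .j ∈ Dz ∧ gen .i ∈ Dz ∧ word t5 ∈ Dz ∧ word t6 ∈ Dz ∧ word tt ∈ Dz ∧ Defs.tr uw .c ∈ Dz := by
  have h := chk_z
  simp only [Bool.and_eq_true] at h
  obtain ⟨h0, h1, h2, h3, h4, h5, h6, h7, h8, h9, h10, h11⟩ := h
  exact ⟨mem_Dz (isPt_gen .l) h0, mem_Dz (isPt_gen .a) h1, mem_Dz (isPt_gen .c) h2, mem_Dz (isPt_gen .e) h3,
    mem_Dz (isPt_gen .h) h4, mem_Dz (isPt_gen .g) h5, mem_Dz (isPt_gen .j) h6, mem_Dz (isPt_gen .i) h7,
    mem_Dz (isPt_tr pos_5) h8, mem_Dz (isPt_tr pos_6) h9, mem_Dz (isPt_tr pos_t) h10, mem_Dz (isPt_tr pos_w) h11⟩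

theorem comm {x y : Gen} (h : Cfsg.Spor.coxLabel Cfsg.Spor.Fi24.edges x y = 2) : Commute (gen x) (gen y) :=
  gen_comm h

theorem ne_gen {x y : Gen} (h : pn x ≠ pn y) : gen x ≠ gen y := by
  intro e
  have h1 := isPt_gen x
  rw [e] at h1
  exact h (h1.uniq (isPt_gen y))

theorem f'_ne {x : Gen} (h : pn x ≠ 672) : gen x ≠ f' := by
  intro e
  have h1 := isPt_gen x
  rw [e] at h1
  exact h (h1.uniq isPt_f')

theorem f_not_Dz : gen .f ∉ Dz := by
  intro h
  have h1 := (com (isPt_gen .f) z).1 (show z * gen .f = gen .f * z from h.2.symm)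
  rw [show pn .f = 676 from rfl, rho_z chk_f] at h1
  exact absurd h1 (by norm_num)

theorem rho_gen_of {x : Gen} {p q : ℕ} (h : chkPt (nw [x] false) p q = true) : rho (gen x) p = q := by
  have := rho_of_chkPt h
  rwa [word_cons, word_nil, mul_one] at this

theorem nc_ef : ¬ Commute (gen .e) (gen .f) := by
  intro h
  have h1 := (com (isPt_gen .f) _).1 h
  rw [show pn .f = 676 from rfl, rho_gen_of e_f] at h1
  exact absurd h1 (by norm_num)

theorem nc_ef' : ¬ Commute (gen .e) f' := by
  intro h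
  have h1 := (com isPt_f' _).1 h
  rw [rho_gen_of e_f'] at h1
  exact absurd h1 (by norm_num)

theorem nc_ff' : ¬ Commute (gen .f) f' := by
  intro h
  have h1 := (com isPt_f' _).1 h
  rw [rho_gen_of f_f'] at h1
  exact absurd h1 (by norm_num)

theorem comm_z {x : Gen} (h : Commute (gen x) (gen .f)) (h' : gen x ∈ Dz) : Commute (gen x) f' := by
  have hz : Commute (gen x) z := h'.2
  exact (hz.mul_right h).mul_right hz.inv_right

theorem z_inv : z⁻¹ = z := by
  apply inv_eq_of_mul_eq_one_left
  have c1 : gen .l * gen .a = gen .a * gen .l := gen_comm (by decide)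
  have c2 : gen .l * gen .c = gen .c * gen .l := gen_comm (by decide)
  have c3 : gen .l * gen .e = gen .e * gen .l := gen_comm (by decide)
  have c4 : gen .a * gen .c = gen .c * gen .a := gen_comm (by decide)
  have c5 : gen .a * gen .e = gen .e * gen .a := gen_comm (by decide)
  have c6 : gen .c * gen .e = gen .e * gen .c := gen_comm (by decide)
  unfold z
  calc gen .l * gen .a * gen .c * gen .e * (gen .l * gen .a * gen .c * gen .e)
      = gen .l * gen .a * gen .c * (gen .e * gen .l) * gen .a * gen .c * gen .e := by group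
    _ = gen .l * gen .a * (gen .c * gen .l) * gen .e * gen .a * gen .c * gen .e := by rw [← c3]; group
    _ = gen .l * (gen .a * gen .l) * gen .c * (gen .e * gen .a) * gen .c * gen .e := by rw [← c2]; group
    _ = (gen .l * gen .l) * gen .a * (gen .c * gen .a) * gen .e * gen .c * gen .e := by rw [← c1, ← c5]; group
    _ = gen .a * gen .a * gen .c * (gen .e * gen .c) * gen .e := by rw [gen_sq, ← c4]; group
    _ = gen .c * gen .c * (gen .e * gen .e) := by rw [gen_sq, ← c6]; group
    _ = 1 := by rw [gen_sq, gen_sq, one_mul]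

/-! ### The two possibilities -/

section Core

variable {α : MulAut (commutator Fi24)}

theorem fx (hα : ∀ e ∈ Dz, ∀ f ∈ Dz, ∀ x : commutator Fi24, (x : Fi24) = e * f → α x = x) {e f : Fi24}
    (he : e ∈ Dz) (hf : f ∈ Dz) : Mp α (e * f) (e * f) :=
  ⟨mul_mem_commutator he.1 hf.1, congrArg Subtype.val (hα e he f hf ⟨e * f, mul_mem_commutator he.1 hf.1⟩ rfl)⟩

/-- `α (l f) = m f₁` is impossible for `m = a, c`. -/
theorem excl (hα : ∀ e ∈ Dz, ∀ f ∈ Dz, ∀ x : commutator Fi24, (x : Fi24) = e * f → α x = x) {m n : Gen} {g : Fi24}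
    (hg : g = f' ∨ g = gen .f) (hm : gen m ∈ Dz) (hn : gen n ∈ Dz) (c1 : Commute (gen m) (gen n))
    (c2 : Commute (gen n) (gen .l)) (c3 : Commute (gen .l) (gen m)) (c4 : Commute (gen m) (gen .f))
    (c5 : Commute (gen n) (gen .f)) (n1 : pn m ≠ pn n) (n2 : pn n ≠ pn .l) (n3 : pn .l ≠ pn m)
    (n4 : pn m ≠ pn .f) (n5 : pn n ≠ pn .f) (n6 : pn m ≠ 672) (n7 : pn n ≠ 672)
    (h : Mp α (gen .l * gen .f) (gen m * g)) : False := by
  obtain ⟨hl, ha, -⟩ := Dz_gen
  obtain ⟨u, hu, v, hv, huv, cuv, hm2⟩ := pairs (gen_L .l) (gen_L .a) (ne_gen (by decide)) (comm (by decide))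
    (fx hα hl ha) (gen_L n) (gen_L .f) (ne_gen n5) c5
  have h1 : Mp α (gen n * gen .l * (gen .l * gen .f)) (gen n * gen .l * (gen m * g)) := (fx hα hn hl).mul h
  rw [show gen n * gen .l * (gen .l * gen .f) = gen n * (gen .l * gen .l) * gen .f by group, gen_sq, mul_one] at h1
  have h2 := hm2.fn h1
  have gL : g ∈ L := by
    rcases hg with rfl | rfl
    · exact isPt_f'.mem
    · exact gen_L .f
  have cg : ∀ x : Gen, gen x ∈ Dz → Commute (gen x) (gen .f) → Commute (gen x) g := by
    intro x hx hc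
    rcases hg with rfl | rfl
    · exact comm_z hc hx
    · exact hc
  have ng : ∀ x : Gen, pn x ≠ pn .f → pn x ≠ 672 → gen x ≠ g := by
    intro x k1 k2
    rcases hg with rfl | rfl
    · exact f'_ne k2
    · exact ne_gen k1
  refine no4 R08.TetFi24A.tr hu hv (gen_L n) (gen_L .l) (gen_L m) gL huv cuv (ne_gen n2) (ne_gen n1).symm
    (ng n n5 n7) (ne_gen n3) (ng .l (by decide) (by decide)) (ng m n4 n6) c2 c1.symm (cg n hn c5) c3
    (cg .l hl (comm (by decide))) (cg m hm c4) ?_
  rw [h2]
  group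

theorem half (hα : ∀ e ∈ Dz, ∀ f ∈ Dz, ∀ x : commutator Fi24, (x : Fi24) = e * f → α x = x) {x y : Fi24}
    (hxy : Commute x y) (h : Mp α (gen .l * gen .f) (x * y))
    (hx : x = gen .l ∨ x = gen .a ∨ x = gen .c ∨ x = gen .e) (hy : y = f' ∨ y = gen .f) :
    Mp α (gen .l * gen .f) (gen .l * gen .f) ∨ Mp α (gen .l * gen .f) (gen .l * f') := by
  obtain ⟨hl, ha, hc, -⟩ := Dz_gen
  rcases hx with rfl | rfl | rfl | rfl
  · rcases hy with rfl | rfl
    · exact Or.inr h
    · exact Or.inl h
  · exact (excl hα (m := .a) (n := .c) hy ha hc (comm (by decide)) (comm (by decide)) (comm (by decide))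
      (comm (by decide)) (comm (by decide)) (by decide) (by decide) (by decide) (by decide) (by decide) (by decide)
      (by decide) h).elim
  · exact (excl hα (m := .c) (n := .a) hy hc ha (comm (by decide)) (comm (by decide)) (comm (by decide))
      (comm (by decide)) (comm (by decide)) (by decide) (by decide) (by decide) (by decide) (by decide) (by decide)
      (by decide) h).elim
  · rcases hy with rfl | rfl
    · exact (nc_ef' hxy).elim
    · exact (nc_ef hxy).elim

theorem dich (hα : ∀ e ∈ Dz, ∀ f ∈ Dz, ∀ x : commutator Fi24, (x : Fi24) = e * f → α x = x) :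
    Mp α (gen .l * gen .f) (gen .l * gen .f) ∨ Mp α (gen .l * gen .f) (gen .l * f') := by
  obtain ⟨hl, ha, hc, he, hh, hg, hj, hi, h5, h6, ht, hw⟩ := Dz_gen
  obtain ⟨x, hx, y, hy, hne, hxy, hm⟩ := pairs (gen_L .l) (gen_L .a) (ne_gen (by decide)) (comm (by decide))
    (fx hα hl ha) (gen_L .l) (gen_L .f) (ne_gen (by decide)) (comm (by decide))
  have lf : Commute (gen .l) (gen .f) := comm (by decide)
  have C : ∀ n ∈ Dz, Commute (gen .l) n → Commute n (gen .f) → Commute (x * y) (gen .l * n) := by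
    intro n hn c1 c2
    have c3 : Commute (gen .l * gen .f) (gen .l * n) :=
      ((Commute.refl (gen .l)).mul_right c1).mul_left (lf.symm.mul_right c2.symm)
    have m1 := hm.mul (fx hα hl hn)
    have m2 := (fx hα hl hn).mul hm
    rw [c3.eq] at m1
    exact m1.fn m2
  have gl : Commute (x * y) (gen .l) :=
    (comm_pair R08.TetFi24A.tr (gen_L .l) (gen_L .a) (gen_L .c) (ne_gen (by decide)) (ne_gen (by decide))
      (ne_gen (by decide)) (comm (by decide)) (comm (by decide)) (C _ ha (comm (by decide)) (comm (by decide)))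
      (C _ hc (comm (by decide)) (comm (by decide)))).1
  have D : ∀ n ∈ Dz, Commute (gen .l) n → Commute n (gen .f) → Commute n x ∧ Commute n y := by
    intro n hn c1 c2
    have h1 : Commute (x * y) (gen .l * (gen .l * n)) := gl.mul_right (C n hn c1 c2)
    rw [← mul_assoc, gen_sq, one_mul] at h1
    exact comm_of_comm_mul R08.TetFi24A.tr hx hy hn.1 hxy hne h1.symm
  have Dl : Commute (gen .l) x ∧ Commute (gen .l) y :=
    comm_of_comm_mul R08.TetFi24A.tr hx hy (gen_L .l) hxy hne gl.symm
  have Da := D _ ha (comm (by decide)) (comm (by decide))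
  have Dc := D _ hc (comm (by decide)) (comm (by decide))
  have Dh := D _ hh (comm (by decide)) (comm (by decide))
  have Di := D _ hi (comm (by decide)) (comm (by decide))
  have Dj := D _ hj (comm (by decide)) (comm (by decide))
  have wl : Commute (Defs.tr uw .c) (gen .l) := (com (isPt_gen .l) _).2 (rho_of_chkPt w_l)
  have wf : Commute (Defs.tr uw .c) (gen .f) := (com (isPt_gen .f) _).2 (rho_of_chkPt w_f)
  have Dw := D _ hw wl.symm wf
  have kx := cand hx Dl.1 Da.1 Dc.1 Dh.1 Di.1 Dj.1 Dw.1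
  have ky := cand hy Dl.2 Da.2 Dc.2 Dh.2 Di.2 Dj.2 Dw.2
  have s : ∀ d : Fi24, (d = gen .l ∨ d = gen .a ∨ d = gen .c ∨ d = gen .e ∨ d = f' ∨ d = gen .f) →
      (d = gen .l ∨ d = gen .a ∨ d = gen .c ∨ d = gen .e) ∨ (d = f' ∨ d = gen .f) := by
    rintro d (h | h | h | h | h | h)
    · exact Or.inl (Or.inl h)
    · exact Or.inl (Or.inr (Or.inl h))
    · exact Or.inl (Or.inr (Or.inr (Or.inl h)))
    · exact Or.inl (Or.inr (Or.inr (Or.inr h)))
    · exact Or.inr (Or.inl h)
    · exact Or.inr (Or.inr h)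
  have inD : ∀ d : Fi24, (d = gen .l ∨ d = gen .a ∨ d = gen .c ∨ d = gen .e) → d ∈ Dz := by
    rintro d (rfl | rfl | rfl | rfl)
    · exact hl
    · exact ha
    · exact hc
    · exact he
  rcases s x kx with kx | kx <;> rcases s y ky with ky | ky
  · exfalso
    have h1 : x * y = gen .l * gen .f := (fx hα (inD x kx) (inD y ky)).inj hm
    rcases pair_unique R08.TetFi24A.tr hx hy (gen_L .l) (gen_L .f) hxy hne lf h1 with ⟨-, h2⟩ | ⟨-, h2⟩
    · exact f_not_Dz (h2 ▸ inD y ky)
    · exact f_not_Dz (h2 ▸ inD x kx)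
  · exact half hα hxy hm kx ky
  · exact half hα hxy.symm (by rw [hxy.symm.eq]; exact hm) ky kx
  · exfalso
    rcases kx with rfl | rfl <;> rcases ky with rfl | rfl
    · exact hne rfl
    · exact nc_ff' hxy.symm
    · exact nc_ff' hxy
    · exact hne rfl

/-! ### The fixed transpositions -/

/-- `l d` is fixed. -/
def Q (α : MulAut (commutator Fi24)) (d : Fi24) : Prop := d ∈ L ∧ Mp α (gen .l * d) (gen .l * d)

theorem L_inv {d : Fi24} (h : d ∈ L) : d⁻¹ = d := R08.TetFi24A.tr.inv h

theorem Q.cj {d d' : Fi24} (h : Q α d) (h' : Q α d') : Q α (d * d' * d⁻¹) := by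
  refine ⟨R08.FiTwentyFour.conj h'.1 d, ?_⟩
  have h1 := (h.2.mul h'.2.inv).mul h.2
  have e : gen .l * d * (gen .l * d')⁻¹ * (gen .l * d) = gen .l * (d * d' * d⁻¹) := by
    rw [mul_inv_rev, L_inv h.1, L_inv h'.1]
    group
  rw [e] at h1
  exact h1

theorem Q.list {ds : List Fi24} (h : ∀ d ∈ ds, Q α d) {x : Fi24} (hx : Q α x) : Q α (ds.prod * x * ds.prod⁻¹) := by
  induction ds with
  | nil => simpa using hx
  | cons d ds ih =>
    have h1 := (h d List.mem_cons_self).cj (ih (fun e he => h e (List.mem_cons_of_mem _ he)))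
    rw [List.prod_cons]
    rw [show d * ds.prod * x * (d * ds.prod)⁻¹ = d * (ds.prod * x * ds.prod⁻¹) * d⁻¹ by group]
    exact h1

theorem word_flatten (ps : List (List Gen)) : word ps.flatten = (ps.map word).prod := by
  induction ps with
  | nil => rfl
  | cons p ps ih => rw [List.flatten_cons, word_append, ih, List.map_cons, List.prod_cons]

theorem Q.piece {ps : List (List Gen)} (h : ∀ p ∈ ps, Q α (word p)) {x y : Gen} (hx : Q α (gen x))
    (hc : chkPt (nw ps.flatten false) (pn x) (pn y) = true) : Q α (gen y) := by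
  have h1 : Q α (word ps.flatten * gen x * (word ps.flatten)⁻¹) := by
    rw [word_flatten]
    refine Q.list ?_ hx
    intro d hd
    obtain ⟨p, hp, rfl⟩ := List.mem_map.1 hd
    exact h p hp
  have h2 := (isPt_gen x).conj (word ps.flatten)
  rw [rho_of_chkPt hc] at h2
  rwa [h2.inj (isPt_gen y)] at h1

theorem sgn_word (l : List Gen) : sgn (word l) = (-1) ^ l.length := by
  induction l with
  | nil => rw [word_nil, map_one]; rfl
  | cons x l ih => rw [word_cons, map_mul, sgn_gen, ih, List.length_cons, pow_succ']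

theorem word_one (x : Gen) : word [x] = gen x := by rw [word_cons, word_nil, mul_one]

theorem exists_word (g : Fi24) : ∃ w, word w = g := by
  have hg : g ∈ Subgroup.closure (Set.range gen) := by
    rw [show Subgroup.closure (Set.range gen) = ⊤ from PresentedGroup.closure_range_of _]
    trivial
  induction hg using Subgroup.closure_induction with
  | mem y hy => obtain ⟨x, rfl⟩ := hy; exact ⟨[x], word_one x⟩
  | one => exact ⟨[], rfl⟩
  | mul y y' _ _ hy hy' =>
    obtain ⟨w, rfl⟩ := hy
    obtain ⟨w', rfl⟩ := hy'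
    exact ⟨w ++ w', word_append w w'⟩
  | inv y _ hy =>
    obtain ⟨w, rfl⟩ := hy
    exact ⟨w.reverse, word_reverse w⟩

theorem fix_one (hα : ∀ e ∈ Dz, ∀ f ∈ Dz, ∀ x : commutator Fi24, (x : Fi24) = e * f → α x = x)
    (hf : Mp α (gen .l * gen .f) (gen .l * gen .f)) : α = 1 := by
  obtain ⟨hl, ha, hc, he, hh, hg, hj, hi, h5, h6, ht, hw⟩ := Dz_gen
  have qD : ∀ d ∈ Dz, Q α d := fun d hd => ⟨hd.1, fx hα hl hd⟩
  have qf : Q α (gen .f) := ⟨gen_L .f, hf⟩
  have q5 := qD _ h5
  have q6 := qD _ h6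
  have qt := qD _ ht
  have ql := qD _ hl
  have qa := qD _ ha
  have qc := qD _ hc
  have qe := qD _ he
  have qi := qD _ hi
  have qb : Q α (gen .b) := by
    refine Q.piece (ps := pb) ?_ qa conj_b
    intro p hp
    simp only [pb, List.mem_cons, List.not_mem_nil, or_false] at hp
    rcases hp with rfl | rfl | rfl | rfl | rfl | rfl | rfl | rfl | rfl <;>
      first | exact qt | exact q6 | exact q5 | (rw [word_one]; first | exact qf | exact qc)
  have qd : Q α (gen .d) := by
    refine Q.piece (ps := pd) ?_ qc conj_d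
    intro p hp
    simp only [pd, List.mem_cons, List.not_mem_nil, or_false] at hp
    rcases hp with rfl | rfl | rfl | rfl | rfl | rfl | rfl | rfl <;>
      first | exact qt | exact q6 | exact q5 | (rw [word_one]; first | exact qf | exact qi | exact qe)
  have qk : Q α (gen .k) := by
    refine Q.piece (ps := pk) ?_ qa conj_k
    intro p hp
    simp only [pk, List.mem_cons, List.not_mem_nil, or_false] at hp
    rcases hp with rfl | rfl | rfl | rfl | rfl | rfl | rfl | rfl | rfl <;>
      first | exact qt | exact q6 | exact q5 | (rw [word_one]; first | exact qf | exact ql | exact qe)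
  have qg : ∀ x, Q α (gen x) := by
    intro x
    cases x
    · exact ql
    · exact qk
    · exact qa
    · exact qb
    · exact qc
    · exact qd
    · exact qe
    · exact qf
    · exact qD _ hg
    · exact qD _ hj
    · exact qD _ hh
    · exact qi
  have key : ∀ w : List Gen, (w.length % 2 = 0 → Mp α (word w) (word w)) ∧
      (w.length % 2 = 1 → Mp α (gen .l * word w) (gen .l * word w)) := by
    intro w
    induction w with
    | nil => exact ⟨fun _ => Mp.one, fun h => absurd h (by simp)⟩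
    | cons x w ih =>
      rw [word_cons, List.length_cons]
      constructor
      · intro h
        have h1 := (qg x).2.inv.mul (ih.2 (by omega))
        have e : (gen .l * gen x)⁻¹ * (gen .l * word w) = gen x * word w := by
          rw [mul_inv_rev, L_inv (gen_L x)]
          group
        rw [e] at h1
        exact h1
      · intro h
        have h1 := (qg x).2.mul (ih.1 (by omega))
        rw [mul_assoc] at h1
        exact h1
  ext x
  obtain ⟨w, hw⟩ := exists_word (x : Fi24)
  have hs : sgn (word w) = 1 := by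
    rw [hw]
    exact mem_commutator_iff.1 x.2
  rw [sgn_word] at hs
  have hlen : w.length % 2 = 0 := by
    by_contra h
    rw [Odd.neg_one_pow (Nat.odd_iff.2 (by omega))] at hs
    exact absurd hs (by decide)
  obtain ⟨h1, h2⟩ := (key w).1 hlen
  have h3 : (⟨word w, h1⟩ : commutator Fi24) = x := Subtype.ext hw
  rw [h3, hw] at h2
  exact h2

end Core

/-- **The automorphisms fixing the even products of two members of `Dz`** are `1` and the conjugation by `z`. -/
theorem eq_one_or_conj (α : MulAut (commutator Fi24))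
    (hα : ∀ e ∈ Dz, ∀ f ∈ Dz, ∀ x : commutator Fi24, (x : Fi24) = e * f → α x = x) :
    α = 1 ∨ ∀ x, (α x : Fi24) = z * x * z := by
  rcases dich hα with h | h
  · exact Or.inl (fix_one hα h)
  · right
    have hz : z ∈ commutator Fi24 := by
      have h1 := mul_mem (mul_mem_commutator (gen_L .l) (gen_L .a))
        (mul_mem_commutator (gen_L .c) (gen_L .e))
      have h2 : z = gen .l * gen .a * (gen .c * gen .e) := by unfold z; group
      rw [h2]
      exact h1
    have hzz : z * z = 1 := by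
      conv_lhs =>
        lhs
        rw [← z_inv]
      exact inv_mul_cancel z
    have hval : ∀ x, ((MulAut.conj (⟨z, hz⟩ : commutator Fi24) * α) x : Fi24) = z * α x * z := by
      intro x
      show z * (α x : Fi24) * z⁻¹ = _
      rw [z_inv]
    have h1 : MulAut.conj (⟨z, hz⟩ : commutator Fi24) * α = 1 := by
      apply fix_one
      · intro e he f hf x hx
        apply Subtype.ext
        rw [hval, hα e he f hf x hx, hx]
        calc z * (e * f) * z = (z * e) * (f * z) := by group
          _ = e * z * (z * f) := by rw [he.2, hf.2]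
          _ = e * (z * z) * f := by group
          _ = e * f := by rw [hzz, mul_one]
      · obtain ⟨m, hm⟩ := h
        refine ⟨m, ?_⟩
        rw [hval, hm]
        have hl : gen .l * z = z * gen .l := Dz_gen.1.2
        have e1 : f' = z * gen .f * z := by unfold f'; rw [z_inv]
        rw [e1]
        calc z * (gen .l * (z * gen .f * z)) * z = (z * gen .l) * z * gen .f * (z * z) := by group
          _ = gen .l * (z * z) * gen .f * (z * z) := by rw [← hl]; group
          _ = gen .l * gen .f := by rw [hzz, mul_one, mul_one]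
    intro x
    have h2 := hval x
    rw [h1] at h2
    have h3 : (x : Fi24) = z * α x * z := h2
    calc (α x : Fi24) = (z * z) * α x * (z * z) := by rw [hzz, one_mul, mul_one]
      _ = z * (z * α x * z) * z := by group
      _ = z * x * z := by rw [← h3]

end Cfsg.Agent.KFacts.FiTF.FixAut
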