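import Cfsg.Agent.KFacts.FiTF.Pts

/-!
# `Fi24'`: the transpositions commuting with seven given ones

`cand`: a transposition commuting with `l, a, c, h, i, j` and `w` (the transposition at the point 169) is one of
`l, a, c, e, f, z f z`: sieve of the mask of all points by the bit planes.
-/

set_option autoImplicit false
set_option maxRecDepth 100000
set_option Elab.async false

namespace Cfsg.Agent.KFacts.FiTF.FixMask

open Cfsg Cfsg.Agent.Lib.PermNet Cfsg.Agent.Lib.PermNetPt Cfsg.Agent.Fischer.Fi24RepDef Cfsg.Agent.Fischer.Fi24Rep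
open Cfsg.Agent.Fischer.Fi24RepOrb (UG orbG)
open Cfsg.Agent.Fischer.Fi24Spider (word_append word_cons word_nil gword gen_conj)
open Cfsg.Agent.R08.FiTwentyFour (L)
open Cfsg.Agent.KFacts.FiTF.Pts
open Cfsg.Agent.KFacts.FiTF.Defs (tr z Dz)
open Cfsg.Spor (Fi24)
open Cfsg.Spor.Fi24 (Gen)

/-! ### Points -/

theorem bit {d : Fi24} {p : ℕ} (h : IsPt d p) : UG.testBit p = true := by
  obtain ⟨g, h1, -⟩ := h
  have h2 : p ∈ {p : ℕ | ∃ x, rho x 0 = p} := ⟨g, h1⟩
  rw [orbG] at h2
  exact h2

/-- The numbers of the points of the generators. -/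
def pn : Gen → ℕ
  | .l => 0
  | .a => 1
  | .b => 193
  | .c => 2
  | .d => 2914
  | .e => 3
  | .f => 676
  | .g => 8
  | .j => 136
  | .h => 4
  | .i => 176
  | .k => 307872

theorem chk_pn (x : Gen) : chkPt (nw (gword x) false) 0 (pn x) = true := by
  cases x <;> decide +kernel

theorem isPt_gen (x : Gen) : IsPt (gen x) (pn x) :=
  ⟨word (gword x), rho_of_chkPt (chk_pn x), (gen_conj x).symm⟩

theorem isPt_tr {u : List Gen} {x : Gen} {p : ℕ} (h : chkPt (nw u false) (pn x) p = true) : IsPt (tr u x) p := by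
  have h1 := (isPt_gen x).conj (word u)
  rw [← tr_eq, rho_of_chkPt h] at h1
  exact h1

theorem com {d : Fi24} {p : ℕ} (h : IsPt d p) (g : Fi24) : Commute g d ↔ rho g p = p := h.comm_iff g

/-! ### The sieve -/

/-- Sieve the mask `A` by the planes of the list `bs`: only points moved by `w` are removed. -/
noncomputable def sv (w : List Net) (bs : List ℕ) : ℕ → ℕ :=
  List.rec (motive := fun _ => ℕ → ℕ) (fun A => A)
    (fun b _ ih A => seq (Nat.xor A (Nat.land A (Nat.xor (appWord w (plane 19 b)) (plane 19 b)))) ih) bs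

theorem sv_nil (w : List Net) (A : ℕ) : sv w [] A = A := rfl

theorem sv_cons (w : List Net) (b : ℕ) (bs : List ℕ) (A : ℕ) :
    sv w (b :: bs) A = sv w bs (A ^^^ (A &&& (appWord w (plane 19 b) ^^^ plane 19 b))) := by
  show seq _ (sv w bs) = _
  rw [seq_eq]
  rfl

theorem sv_spec {N : ℕ} {w : List Net} (hw : WOk N w) (bs : List ℕ) {A p : ℕ} (hA : A.testBit p = true)
    (hp : wperm w p = p) : (sv w bs A).testBit p = true := by
  induction bs generalizing A with
  | nil => exact hA
  | cons b bs ih =>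
    rw [sv_cons]
    apply ih
    rw [Nat.testBit_xor, Nat.testBit_and, Nat.testBit_xor, testBit_appWord hw, hp, hA]
    simp

/-- The planes. -/
def bl : List ℕ := [0, 1, 2, 3, 4, 5, 6, 7, 8, 9, 10, 11, 12, 13, 14, 15, 16, 17, 18]

/-- The mask of a list of points. -/
noncomputable def msk (l : List ℕ) : ℕ :=
  List.rec (motive := fun _ => ℕ) 0 (fun p _ ih => Nat.lor (Nat.pow 2 p) ih) l

theorem testBit_msk (l : List ℕ) (p : ℕ) : (msk l).testBit p = true ↔ p ∈ l := by
  induction l with
  | nil =>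
    show (0 : ℕ).testBit p = true ↔ _
    simp
  | cons q l ih =>
    show (2 ^ q ||| msk l).testBit p = true ↔ _
    rw [Nat.testBit_or, Bool.or_eq_true, ih, List.mem_cons, Nat.testBit_two_pow, decide_eq_true_eq]
    exact or_congr_left eq_comm

/-- The points fixed by `l, a, c, h, i, j`. -/
def l16 : List ℕ := [0, 1, 2, 3, 113, 117, 136, 148, 158, 159, 672, 676, 738, 739, 742, 743]

theorem sieve_check : seqB (sv (nw [.l] false) bl UG) (fun A => seqB (sv (nw [.a] false) bl A)
    (fun A => seqB (sv (nw [.c] false) bl A) (fun A => seqB (sv (nw [.h] false) bl A)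
      (fun A => seqB (sv (nw [.i] false) bl A) (fun A => Nat.beq (sv (nw [.j] false) bl A) (msk l16)))))) = true := by
  decide +kernel

/-- The transposition `w` at the point 169. -/
def uw : List Gen := [.d, .e, .c, .d, .h, .i, .f, .g, .e, .f, .d, .h, .e, .d]

noncomputable def nww : List Net := nw (uw ++ Gen.c :: uw.reverse) false

theorem wit_check : and (chkPt nww 113 976) (and (chkPt nww 117 980) (and (chkPt nww 136 1061)
    (and (chkPt nww 148 1072) (and (chkPt nww 158 1092) (and (chkPt nww 159 1094) (and (chkPt nww 738 4038)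
    (and (chkPt nww 739 4067) (and (chkPt nww 742 4034) (chkPt nww 743 4071))))))))) = true := by
  decide +kernel

theorem l16_sieve {p : ℕ} (h : UG.testBit p = true) (hl : rho (gen .l) p = p) (ha : rho (gen .a) p = p)
    (hc : rho (gen .c) p = p) (hh : rho (gen .h) p = p) (hi : rho (gen .i) p = p) (hj : rho (gen .j) p = p) :
    p ∈ l16 := by
  have e : ∀ x, rho (gen x) p = p → wperm (nw [x] false) p = p := by
    intro x hx
    rw [← rho_word, word_cons, word_nil, mul_one]
    exact hx
  have h1 := sieve_check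
  rw [seqB_eq, seqB_eq, seqB_eq, seqB_eq, seqB_eq] at h1
  rw [← testBit_msk, ← Nat.eq_of_beq_eq_true h1]
  exact sv_spec (wok _ _) bl (sv_spec (wok _ _) bl (sv_spec (wok _ _) bl (sv_spec (wok _ _) bl
    (sv_spec (wok _ _) bl (sv_spec (wok _ _) bl h (e _ hl)) (e _ ha)) (e _ hc)) (e _ hh)) (e _ hi)) (e _ hj)

theorem l6_sieve {p : ℕ} (h : p ∈ l16) (hw : rho (tr uw .c) p = p) :
    p = 0 ∨ p = 1 ∨ p = 2 ∨ p = 3 ∨ p = 672 ∨ p = 676 := by
  have h1 := wit_check
  simp only [Bool.and_eq_true] at h1
  obtain ⟨h1, h2, h3, h4, h5, h6, h7, h8, h9, h10⟩ := h1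
  have key : ∀ {a b : ℕ}, chkPt nww a b = true → a ≠ b → p = a → False := by
    rintro a b h hne rfl
    exact hne (hw.symm.trans (rho_of_chkPt h))
  unfold l16 at h
  simp only [List.mem_cons, List.not_mem_nil, or_false] at h
  rcases h with h | h | h | h | h | h | h | h | h | h | h | h | h | h | h | h
  · exact Or.inl h
  · exact Or.inr (Or.inl h)
  · exact Or.inr (Or.inr (Or.inl h))
  · exact Or.inr (Or.inr (Or.inr (Or.inl h)))
  · exact (key h1 (by norm_num) h).elim
  · exact (key h2 (by norm_num) h).elim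
  · exact (key h3 (by norm_num) h).elim
  · exact (key h4 (by norm_num) h).elim
  · exact (key h5 (by norm_num) h).elim
  · exact (key h6 (by norm_num) h).elim
  · exact Or.inr (Or.inr (Or.inr (Or.inr (Or.inl h))))
  · exact Or.inr (Or.inr (Or.inr (Or.inr (Or.inr h))))
  · exact (key h7 (by norm_num) h).elim
  · exact (key h8 (by norm_num) h).elim
  · exact (key h9 (by norm_num) h).elim
  · exact (key h10 (by norm_num) h).elim

theorem z_word : z = word [.l, .a, .c, .e] := by
  unfold z
  rw [word_cons, word_cons, word_cons, word_cons, word_nil, mul_one, mul_assoc, mul_assoc]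

theorem rho_z {p q : ℕ} (h : chkPt (nw [.l, .a, .c, .e] false) p q = true) : rho z p = q := by
  rw [z_word]
  exact rho_of_chkPt h

theorem chk_f : chkPt (nw [.l, .a, .c, .e] false) 676 672 = true := by decide +kernel

/-- The transposition `z f z`. -/
def f' : Fi24 := z * gen .f * z⁻¹

theorem isPt_f' : IsPt f' 672 := by
  have h := (isPt_gen .f).conj z
  rw [show pn .f = 676 from rfl, rho_z chk_f] at h
  exact h

/-- The transpositions commuting with `l, a, c, h, i, j, w`. -/
theorem cand {d : Fi24} (hd : d ∈ L) (hl : Commute (gen .l) d) (ha : Commute (gen .a) d) (hc : Commute (gen .c) d)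
    (hh : Commute (gen .h) d) (hi : Commute (gen .i) d) (hj : Commute (gen .j) d) (hw : Commute (tr uw .c) d) :
    d = gen .l ∨ d = gen .a ∨ d = gen .c ∨ d = gen .e ∨ d = f' ∨ d = gen .f := by
  obtain ⟨p, hp⟩ := exists_pt hd
  have h1 := l16_sieve (bit hp) ((com hp _).1 hl) ((com hp _).1 ha) ((com hp _).1 hc)
    ((com hp _).1 hh) ((com hp _).1 hi) ((com hp _).1 hj)
  rcases l6_sieve h1 ((com hp _).1 hw) with rfl | rfl | rfl | rfl | rfl | rfl
  · exact Or.inl (hp.inj (isPt_gen .l))
  · exact Or.inr (Or.inl (hp.inj (isPt_gen .a)))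
  · exact Or.inr (Or.inr (Or.inl (hp.inj (isPt_gen .c))))
  · exact Or.inr (Or.inr (Or.inr (Or.inl (hp.inj (isPt_gen .e)))))
  · exact Or.inr (Or.inr (Or.inr (Or.inr (Or.inl (hp.inj isPt_f')))))
  · exact Or.inr (Or.inr (Or.inr (Or.inr (Or.inr (hp.inj (isPt_gen .f))))))

end Cfsg.Agent.KFacts.FiTF.FixMask
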