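import Cfsg.Agent.KFacts.FiTF.Pts
import Cfsg.Agent.KFacts.FiTF.FixZChk

/-!
# `Fi24'`: the 504 transpositions commuting with `z`

`ncard_Dz : Dz.ncard = 504`; `tran`: the group generated by seven of them is transitive on `Dz` by conjugation.
-/

set_option autoImplicit false
set_option maxRecDepth 100000

namespace Cfsg.Agent.KFacts.FiTF.FixZ

open Cfsg Cfsg.Spor
open Cfsg.Agent.Lib.PermNet Cfsg.Agent.Lib.PermNetOrbit Cfsg.Agent.Fischer.Fi24RepLib
open Cfsg.Agent.Fischer.Fi24RepDef Cfsg.Agent.Fischer.Fi24Rep Cfsg.Agent.Fischer.Fi24RepOrb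
open Cfsg.Agent.Fischer.Fi24RepOrbData
open Cfsg.Agent.R08.FiTwentyFour (L)
open Cfsg.Agent.KFacts.FiTF.Defs Cfsg.Agent.KFacts.FiTF.Pts Cfsg.Agent.KFacts.FiTF.FixZChk

theorem mv_zero (w : List Net) : mv w 0 = 0 := rfl

theorem mv_succ (w : List Net) (k : ℕ) :
    mv w (k + 1) = mv w k ||| (pl 19 327680 k ^^^ appWord w (pl 19 327680 k)) := by
  show seq (Nat.xor (pl 19 327680 k) (appWord w (pl 19 327680 k))) (fun y => Nat.lor (mv w k) y) = _
  rw [seq_eq]
  rfl

theorem mv_spec {w : List Net} (hw : WOk 327680 w) {p : ℕ} (hp : p < 327680) :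
    ∀ k ≤ 19, (mv w k).testBit p = true ↔ ∃ b < k, p.testBit b ≠ (wperm w p).testBit b := by
  intro k
  induction k with
  | zero =>
    intro _
    rw [mv_zero, Nat.zero_testBit]
    simp
  | succ k ih =>
    intro hk
    rw [mv_succ, Nat.testBit_or, Bool.or_eq_true, ih (by omega), Nat.testBit_xor, testBit_appWord hw,
      testBit_pl (by norm_num) hp (by omega), testBit_pl (by norm_num) (wperm_lt hw hp) (by omega)]
    constructor
    · rintro (⟨b, hb, h⟩ | h)
      · exact ⟨b, by omega, h⟩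
      · refine ⟨k, by omega, fun h1 => ?_⟩
        rw [h1] at h
        simp at h
    · rintro ⟨b, hb, h⟩
      rcases Nat.lt_succ_iff_lt_or_eq.1 hb with h1 | h1
      · exact Or.inl ⟨b, h1, h⟩
      · right
        subst h1
        revert h
        cases p.testBit b <;> cases (wperm w p).testBit b <;> simp

theorem mv_iff {w : List Net} (hw : WOk 327680 w) {p : ℕ} (hp : p < 327680) :
    (mv w 19).testBit p = true ↔ wperm w p ≠ p := by
  rw [mv_spec hw hp 19 (le_refl _)]
  constructor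
  · rintro ⟨b, -, h⟩ h1
    rw [h1] at h
    exact h rfl
  · intro h
    by_contra h1
    push Not at h1
    apply h
    apply Nat.eq_of_testBit_eq
    intro b
    have h2 := wperm_lt hw hp
    by_cases hb : b < 19
    · exact (h1 b hb).symm
    · have hk : 2 ^ 19 ≤ 2 ^ b := Nat.pow_le_pow_right (by norm_num) (by omega)
      have h3 : (327680 : ℕ) ≤ 2 ^ 19 := by norm_num
      rw [Nat.testBit_lt_two_pow (lt_of_lt_of_le (lt_of_lt_of_le h2 h3) hk),
        Nat.testBit_lt_two_pow (lt_of_lt_of_le (lt_of_lt_of_le hp h3) hk)]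

theorem lt_of_or {U C n p : ℕ} (h : Nat.beq (Nat.lor U C) (Nat.sub (Nat.pow 2 n) 1) = true)
    (hp : U.testBit p = true) : p < n := by
  have h1 : U ||| C = 2 ^ n - 1 := Nat.eq_of_beq_eq_true h
  have h2 : (U ||| C).testBit p = true := by rw [Nat.testBit_or, hp, Bool.true_or]
  rwa [h1, Nat.testBit_two_pow_sub_one, decide_eq_true_eq] at h2

theorem sub_spec {A B p : ℕ} (h : Nat.beq (Nat.land A B) A = true) (hp : A.testBit p = true) :
    B.testBit p = true := by
  have h1 : A &&& B = A := Nat.eq_of_beq_eq_true h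
  rw [← h1, Nat.testBit_and, Bool.and_eq_true] at hp
  exact hp.2

theorem dis_spec {A B p : ℕ} (h : Nat.beq (Nat.land A B) 0 = true) (ha : A.testBit p = true)
    (hb : B.testBit p = true) : False := by
  have h1 : A &&& B = 0 := Nat.eq_of_beq_eq_true h
  have h2 : (A &&& B).testBit p = true := by rw [Nat.testBit_and, ha, hb]; rfl
  rw [h1, Nat.zero_testBit] at h2
  exact absurd h2 (by simp)

theorem cov_spec {A B C p : ℕ} (h : Nat.beq (Nat.land A (Nat.lor B C)) A = true) (hp : A.testBit p = true) :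
    B.testBit p = true ∨ C.testBit p = true := by
  have h1 := sub_spec (B := Nat.lor B C) h hp
  have h2 : (B ||| C).testBit p = true := h1
  rwa [Nat.testBit_or, Bool.or_eq_true] at h2

theorem lt_of_UG {p : ℕ} (hp : UG.testBit p = true) : p < 327680 :=
  lt_trans (lt_of_or (n := 308528) orG hp) (by norm_num)

theorem z_eq : z = word zz := by
  unfold z zz word
  simp [mul_assoc]

theorem rho_z (p : ℕ) : rho z p = wperm (nw zz false) p := by rw [z_eq, rho_word]

theorem UG_of_FZ {p : ℕ} (hp : FZ.testBit p = true) : UG.testBit p = true := sub_spec subZ hp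

theorem fix_iff' {p : ℕ} (hp : UG.testBit p = true) : rho z p = p ↔ FZ.testBit p = true := by
  rw [rho_z]
  have h0 := mv_iff (wok zz false) (lt_of_UG hp)
  constructor
  · intro h
    rcases cov_spec mvU hp with h3 | h3
    · exact absurd h (h0.1 h3)
    · exact h3
  · intro h
    by_contra h1
    exact dis_spec mvZ (h0.2 h1) h

theorem ncard_FZ : {p : ℕ | FZ.testBit p = true}.ncard = 504 :=
  ncard_testBit (k := 19) (U := FZ) (m := 504) ltZ pcZ

theorem isPt_UG {d : Fi24} {p : ℕ} (h : IsPt d p) : UG.testBit p = true := by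
  obtain ⟨g, hg, -⟩ := h
  have h1 : p ∈ {p : ℕ | ∃ x, rho x 0 = p} := ⟨g, hg⟩
  rw [orbG] at h1
  exact h1

theorem exists_of_UG {p : ℕ} (hp : UG.testBit p = true) : ∃ d, IsPt d p := by
  have h1 : p ∈ {p : ℕ | ∃ x, rho x 0 = p} := by rw [orbG]; exact hp
  obtain ⟨g, hg⟩ := h1
  exact ⟨_, g, hg, rfl⟩

/-- `d ∈ Dz` iff its point lies in `FZ` -/
theorem mem_Dz_iff {d : Fi24} {p : ℕ} (h : IsPt d p) : d ∈ Dz ↔ FZ.testBit p = true := by
  rw [← fix_iff' (isPt_UG h), ← h.comm_iff]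
  constructor
  · rintro ⟨-, h1⟩
    exact h1.symm
  · intro h1
    exact ⟨h.mem, h1.symm⟩

open Classical in
/-- the point of a transposition -/
noncomputable def pt (d : Fi24) : ℕ := if h : ∃ p, IsPt d p then h.choose else 0

theorem pt_spec {d : Fi24} (hd : d ∈ L) : IsPt d (pt d) := by
  have h := exists_pt hd
  rw [pt, dif_pos h]
  exact h.choose_spec

theorem ncard_Dz : Dz.ncard = 504 := by
  rw [← ncard_FZ]
  refine Set.ncard_congr (fun d _ => pt d) ?_ ?_ ?_
  · intro d hd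
    exact (mem_Dz_iff (pt_spec hd.1)).1 hd
  · intro d d' hd hd' h
    have h1 := pt_spec hd.1
    rw [show pt d = pt d' from h] at h1
    exact h1.inj (pt_spec hd'.1)
  · intro p hp
    obtain ⟨d, hd⟩ := exists_of_UG (UG_of_FZ hp)
    have h1 : d ∈ Dz := (mem_Dz_iff hd).2 hp
    exact ⟨d, h1, (pt_spec h1.1).uniq hd⟩

/-- the seven transpositions -/
def S7 : Set Fi24 := {D 0 0, D 0 1, D 1 0, D 2 0, D 3 0, D 4 0, D 5 0}

theorem S7_eq : S7 = {g | ∃ l ∈ zw, word l = g} := by
  ext g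
  unfold S7 zw
  simp only [Set.mem_insert_iff, Set.mem_singleton_iff, Set.mem_ofPred_eq, List.mem_cons, List.not_mem_nil, or_false,
    exists_eq_or_imp, exists_eq_left]
  constructor
  · rintro (rfl | rfl | rfl | rfl | rfl | rfl | rfl)
    · exact Or.inl rfl
    · exact Or.inr (Or.inl rfl)
    · exact Or.inr (Or.inr (Or.inl rfl))
    · exact Or.inr (Or.inr (Or.inr (Or.inl rfl)))
    · exact Or.inr (Or.inr (Or.inr (Or.inr (Or.inl rfl))))
    · exact Or.inr (Or.inr (Or.inr (Or.inr (Or.inr (Or.inl rfl)))))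
    · exact Or.inr (Or.inr (Or.inr (Or.inr (Or.inr (Or.inr rfl)))))
  · rintro (rfl | rfl | rfl | rfl | rfl | rfl | rfl)
    · exact Or.inl rfl
    · exact Or.inr (Or.inl rfl)
    · exact Or.inr (Or.inr (Or.inl rfl))
    · exact Or.inr (Or.inr (Or.inr (Or.inl rfl)))
    · exact Or.inr (Or.inr (Or.inr (Or.inr (Or.inl rfl))))
    · exact Or.inr (Or.inr (Or.inr (Or.inr (Or.inr (Or.inl rfl)))))
    · exact Or.inr (Or.inr (Or.inr (Or.inr (Or.inr (Or.inr rfl)))))

theorem orbZ : {p : ℕ | ∃ x ∈ Subgroup.closure S7, rho x 0 = p} = {p | FZ.testBit p = true} := by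
  rw [S7_eq]
  exact orbit_closure_eq' rho _ (nws_ok zw) (nws_ok zw) (hS zw) (hS' zw _ (fun l hl => ⟨l, hl, rfl⟩)) satZ closedZ tbZ

/-- **Transitivity.** -/
theorem tran : ∀ d ∈ Dz, ∃ w ∈ Subgroup.closure ({D 0 0, D 0 1, D 1 0, D 2 0, D 3 0, D 4 0, D 5 0} : Set Fi24),
    w * gen .l * w⁻¹ = d := by
  intro d hd
  have h1 := pt_spec hd.1
  have h2 := (mem_Dz_iff h1).1 hd
  have h3 : pt d ∈ {p : ℕ | ∃ x ∈ Subgroup.closure S7, rho x 0 = p} := by rw [orbZ]; exact h2
  obtain ⟨w, hw, hw'⟩ := h3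
  exact ⟨w, hw, IsPt.inj ⟨w, hw', rfl⟩ h1⟩

end Cfsg.Agent.KFacts.FiTF.FixZ
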