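import Cfsg.Agent.OddHalf.D8.Sheet
import Cfsg.Agent.KFacts.Codes

/-!
# The sheet of type (E) for `Fi24'`: the facts to be proved in `F = Fi24`

`F` is the ambient group (`Fi24`), `K` its normal subgroup of index 2 (`Fi24'`), `z` the product of four commuting
transpositions (sextet involution), `R = 2^{1+12} = O₂(C_F(z))`, `E` the group of even products of the 504
transpositions commuting with `z`, `Om ⊆ R` the 756 products of two members of one of the 126 tetrads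
(378 vectors of `R/⟨z⟩`).

`Frame.sheetE` (file `FiTF/Abs.lean`) is the abstract theorem.
-/

set_option autoImplicit false

namespace Cfsg.Agent.KFacts.FiTF

open Subgroup

structure Frame {F : Type*} [Group F] (K : Subgroup F) (z : F) (R E : Subgroup F) (Om : Set F) : Prop where
  nK : K.Normal
  two : K.index = 2
  zz : z * z = 1
  z1 : z ≠ 1
  zR : z ∈ R
  RE : R ≤ E
  EK : E ≤ K
  Ez : ∀ g ∈ E, g * z = z * g
  /-- `R` is extraspecial -/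
  sq : ∀ r ∈ R, r * r = 1 ∨ r * r = z
  com : ∀ r ∈ R, ∀ s ∈ R, r * s = s * r ∨ r * s = z * (s * r)
  ctr : ∀ r ∈ R, (∀ s ∈ R, s * r = r * s) → r = 1 ∨ r = z
  cardR : Nat.card R = 8192
  /-- `R` is normal in `C_F(z)`, `C_F(R) = ⟨z⟩` -/
  norm : ∀ g : F, g * z = z * g → ∀ r ∈ R, g * r * g⁻¹ ∈ R
  cent : ∀ g : F, (∀ r ∈ R, g * r = r * g) → g = 1 ∨ g = z
  odd : Odd (centralizer ({z} : Set F)).index
  perf : ⁅E, E⁆ = E
  /-- the 756 -/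
  OmR : Om ⊆ R
  OmC : ∀ g : F, g * z = z * g → ∀ a ∈ Om, g * a * g⁻¹ ∈ Om
  OmCard : Om.ncard = 756
  /-- `E` is transitive on `Om` modulo `z` -/
  OmTr : ∀ a ∈ Om, ∀ b ∈ Om, ∃ g ∈ E, g * a * g⁻¹ = b ∨ g * a * g⁻¹ = b * z
  /-- the other orbits of `E` on `R/⟨z⟩` are longer -/
  OmOther : ∀ a ∈ R, a ≠ 1 → a ≠ z → a ∉ Om → 756 < {b : F | ∃ g ∈ E, g * a * g⁻¹ = b}.ncard
  /-- `R/⟨z⟩` is irreducible -/
  irr : ∀ B : Subgroup F, B ≤ R → (∀ g ∈ E, ∀ b ∈ B, g * b * g⁻¹ ∈ B) → (∀ b ∈ B, b = 1 ∨ b = z) ∨ B = R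
  /-- automorphisms of `R` fixing `z` and preserving `Om` are conjugations from `C_F(z)` -/
  lin : ∀ f : MulAut R, (f ⟨z, zR⟩ : F) = z → (∀ r : R, (r : F) ∈ Om → (f r : F) ∈ Om) →
    ∃ g : F, g * z = z * g ∧ ∀ r : R, (f r : F) = g * r * g⁻¹
  /-- a set `D` of elements of `E` with fixed space of order 4 on `R/⟨z⟩` (endomorphism ring `𝔽₄`) -/
  line : ∃ (D : Set F) (T : Subgroup F), D ⊆ E ∧ z ∈ T ∧ T ≤ R ∧ Nat.card T = 8 ∧
    (∀ d ∈ D, ∀ t ∈ T, d * t * d⁻¹ = t ∨ d * t * d⁻¹ = t * z) ∧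
    ∀ u ∈ R, (∀ d ∈ D, d * u * d⁻¹ = u ∨ d * u * d⁻¹ = u * z) → u ∈ T
  /-- an automorphism of `K` trivial on `E` is `1` or conjugation by `z` -/
  fix : ∀ α : MulAut K, (∀ x : K, (x : F) ∈ E → α x = x) → α = 1 ∨ ∀ x : K, (α x : F) = z * x * z
  /-- the `y`-trick -/
  yt : ∃ k ∈ K, ∃ t : F, t ∉ K ∧ t * z = z * t ∧ t * (k⁻¹ * z * k) = k⁻¹ * z * k * t ∧
    k⁻¹ * z * k ∈ E ∧ k * z * k⁻¹ ∈ E ∧ k * z * k⁻¹ ∉ R

/-! helper528: `Cfsg/Agent/KFacts/FiTF/Abs.lean`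

theorem Frame.sheetE {F : Type*} [Group F] [Finite F] {K : Subgroup F} {z : F} {R E : Subgroup F} {Om : Set F}
    (h : Frame K z R E Om) :
    ∃ P : Subgroup K, OddHalf.D8.Sheet.SheetE (⟨z, h.EK (h.RE h.zR)⟩ : K) P (R.subgroupOf K)
-/

end Cfsg.Agent.KFacts.FiTF
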