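import Cfsg.Agent.KFacts.FiTF.RQ

/-!
# `Fi24'`: subgroups of `E` normalised by all transpositions commuting with `z`

`dichW`: such a subgroup `M ≥ R` of `E` fixes all the tetrads, or it is `E`.
-/

set_option autoImplicit false
set_option maxRecDepth 100000

namespace Cfsg.Agent.KFacts.FiTF.QuasiA

open Cfsg Cfsg.Spor Cfsg.Spor.Fi24 Subgroup
open Cfsg.Agent.Lib.PermNet Cfsg.Agent.Lib.PermNetPt Cfsg.Agent.Fischer.Fi24RepDef Cfsg.Agent.Fischer.Fi24Rep
open Cfsg.Agent.Fischer.Fi24Spider (word_cons word_nil)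
open Cfsg.Agent.R08.FiTwentyFour (L)
open Cfsg.Agent.R08.TetTwo (IsTet Mate)
open Cfsg.Agent.KFacts.FiTF.Defs Cfsg.Agent.KFacts.FiTF.Pts Cfsg.Agent.KFacts.FiTF.Tet Cfsg.Agent.KFacts.FiTF.RQ

/-- transitivity on the noncommuting members of `Dz` -/
def T1 : Prop := ∀ d ∈ Dz, d * gen .l ≠ gen .l * d →
  ∃ w ∈ Subgroup.closure Dz, w * gen .l = gen .l * w ∧ w * D 1 0 * w⁻¹ = d

/-- transitivity on the commuting members of `Dz` outside the tetrad -/
def T2 : Prop := ∀ d ∈ Dz, d * gen .l = gen .l * d → (∀ i < 4, d ≠ D 0 i) →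
  ∃ w ∈ Subgroup.closure Dz, w * gen .l = gen .l * w ∧ w * D 3 0 * w⁻¹ = d

/-- `g` fixes all the tetrads of `z` -/
def Fixes (g : Spor.Fi24) : Prop := ∀ e ∈ Dz, g * e * g⁻¹ = e ∨ Mate L z e (g * e * g⁻¹)

theorem sq {d : Spor.Fi24} (hd : d ∈ Dz) : d * d = 1 := Cfsg.Agent.R08.FiTwentyFour.sq_L hd.1

theorem inv {d : Spor.Fi24} (hd : d ∈ Dz) : d⁻¹ = d := inv_eq_of_mul_eq_one_left (sq hd)

theorem closure_z {w : Spor.Fi24} (hw : w ∈ Subgroup.closure Dz) : w * z = z * w := by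
  induction hw using Subgroup.closure_induction with
  | mem g hg => exact hg.2
  | one => rw [one_mul, mul_one]
  | mul a b _ _ ha hb => rw [mul_assoc, hb, ← mul_assoc, ha, mul_assoc]
  | inv a _ ha => rw [inv_mul_eq_iff_eq_mul, ← mul_assoc, ha, mul_assoc, mul_inv_cancel, mul_one]

theorem conj_Dz {g : Spor.Fi24} (hg : g * z = z * g) {d : Spor.Fi24} (hd : d ∈ Dz) : g * d * g⁻¹ ∈ Dz := by
  refine ⟨Cfsg.Agent.R08.FiTwentyFour.conj_mem_L hd.1 g, ?_⟩
  have h1 : g⁻¹ * z = z * g⁻¹ := by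
    rw [inv_mul_eq_iff_eq_mul, ← mul_assoc, hg, mul_assoc, mul_inv_cancel, mul_one]
  calc g * d * g⁻¹ * z = g * d * (g⁻¹ * z) := by group
    _ = g * (d * z) * g⁻¹ := by rw [h1]; group
    _ = (g * z) * d * g⁻¹ := by rw [hd.2]; group
    _ = z * (g * d * g⁻¹) := by rw [hg]; group

theorem W_le : W ≤ Subgroup.closure Dz := by
  unfold W
  rw [Subgroup.closure_le]
  intro g hg
  simp only [Set.mem_insert_iff, Set.mem_singleton_iff] at hg
  rcases hg with rfl | rfl | rfl | rfl | rfl | rfl | rfl <;>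
    exact Subgroup.subset_closure (D_mem_Dz (by norm_num) (by norm_num))

theorem l_mem : gen .l ∈ Dz := by
  rw [← D00]; exact D_mem_Dz (by norm_num) (by norm_num)

theorem y_mem {t : ℕ} (ht : t < 6) : y t ∈ Dz := D_mem_Dz ht (by norm_num)

theorem y_zero : y 0 = gen .l := D00

/-! ### The pairs `y s`, `y t` -/

theorem P_sep : ∀ s < 6, ∀ t < 6, s ≠ t → ∀ k < 4, P t 0 ≠ P s k := by decide

theorem y_ne_D {s t : ℕ} (hs : s < 6) (ht : t < 6) (hst : s ≠ t) {k : ℕ} (hk : k < 4) : y t ≠ D s k := by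
  intro h
  have h1 : IsPt (D t 0) (P s k) := by
    rw [show D t 0 = D s k from h]; exact isPt hs hk
  exact P_sep s hs t ht hst k hk ((isPt ht (by norm_num)).uniq h1)

theorem not_mate {s t : ℕ} (hs : s < 6) (ht : t < 6) (hst : s ≠ t) : ¬ Mate L z (y s) (y t) := by
  intro h
  rcases (isTet hs).mate_cases Tet.tr h with h1 | h1 | h1
  · exact y_ne_D hs ht hst (by norm_num) h1
  · exact y_ne_D hs ht hst (by norm_num) h1
  · exact y_ne_D hs ht hst (by norm_num) h1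

theorem chk_y : ∀ p ∈ ([(0, 3), (0, 2), (0, 5), (3, 1), (1, 4)] : List (ℕ × ℕ)),
    chkPt (nw (wD p.1 0) false) (P p.2 0) (P p.2 0) = true := by decide +kernel

theorem y_comm {s t : ℕ} (ht : t < 6) (h : (s, t) ∈ ([(0, 3), (0, 2), (0, 5), (3, 1), (1, 4)] : List (ℕ × ℕ))) :
    y t * y s = y s * y t := by
  have h1 : rho (D s 0) (P t 0) = P t 0 := by
    rw [← word_wD]; exact rho_of_chkPt (chk_y _ h)
  exact (((isPt ht (by norm_num)).comm_iff (D s 0)).2 h1).symm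

theorem pa_ne : ∀ t < 6, 0 < t → pa t ≠ t := by decide

theorem y_ncomm {t : ℕ} (ht : t < 6) (h0 : 0 < t) : y t * y (pa t) ≠ y (pa t) * y t := by
  intro h
  have hp := pa_lt t ht h0
  have h1 := conj_pa ht h0 (i := 0) (by norm_num)
  change y (pa t) * y t * y (pa t) * y (pa t) * (y (pa t) * y t * y (pa t))⁻¹ = y t at h1
  have h2 : y (pa t) * y t * y (pa t) = y t := by
    rw [← h, mul_assoc, sq (y_mem hp), mul_one]
  rw [h2, h, mul_inv_cancel_right] at h1
  exact y_ne_D hp ht (pa_ne t ht h0) (k := 0) (by norm_num) h1.symm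

/-! ### The congruence modulo `M` -/

section

variable {M : Subgroup Spor.Fi24} (hRM : R ≤ M) (hM : ∀ w ∈ Subgroup.closure Dz, ∀ m ∈ M, w * m * w⁻¹ ∈ M)

theorem rel_trans {a b c : Spor.Fi24} (hb : b ∈ Dz) (h1 : b * a ∈ M) (h2 : c * b ∈ M) : c * a ∈ M := by
  have h3 := M.mul_mem h2 h1
  have e : c * b * (b * a) = c * (b * b) * a := by group
  rwa [e, sq hb, mul_one] at h3

theorem rel_symm {a b : Spor.Fi24} (ha : a ∈ Dz) (hb : b ∈ Dz) (h1 : b * a ∈ M) : a * b ∈ M := by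
  have h2 := M.inv_mem h1
  rwa [mul_inv_rev, inv ha, inv hb] at h2

include hM

/-- if all the generators are congruent, `E ≤ M` -/
theorem le_of_gens (htr : Tran) (h : ∀ t < 6, y t * gen .l ∈ M) : E ≤ M := by
  have hl := l_mem
  have key : ∀ w ∈ W, w ∈ Subgroup.closure Dz ∧ w * gen .l * w⁻¹ * gen .l ∈ M := by
    intro w hw
    refine W_ind (p := fun w => w ∈ Subgroup.closure Dz ∧ w * gen .l * w⁻¹ * gen .l ∈ M) ?_ ?_ ?_ ?_ ?_ hw
    · intro t ht
      refine ⟨Subgroup.subset_closure (y_mem ht), ?_⟩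
      rw [inv (y_mem ht), mul_assoc]
      exact M.mul_mem (h t ht) (h t ht)
    · refine ⟨Subgroup.subset_closure (D_mem_Dz (by norm_num) (by norm_num)), ?_⟩
      have h1 := D_comm (t := 0) (i := 1) (k := 0) (by norm_num) (by norm_num) (by norm_num)
      rw [D00] at h1
      rw [h1, mul_inv_cancel_right, sq hl]
      exact M.one_mem
    · refine ⟨Subgroup.one_mem _, ?_⟩
      rw [one_mul, inv_one, mul_one, sq hl]
      exact M.one_mem
    · rintro a b ⟨ha, ha'⟩ ⟨hb, hb'⟩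
      refine ⟨Subgroup.mul_mem _ ha hb, ?_⟩
      have h1 := M.mul_mem (hM a ha _ hb') ha'
      have e : a * (b * gen .l * b⁻¹ * gen .l) * a⁻¹ * (a * gen .l * a⁻¹ * gen .l) =
          a * b * gen .l * b⁻¹ * (gen .l * gen .l) * a⁻¹ * gen .l := by group
      rw [e, sq hl] at h1
      have e2 : a * b * gen .l * (a * b)⁻¹ * gen .l = a * b * gen .l * b⁻¹ * 1 * a⁻¹ * gen .l := by group
      rw [e2]; exact h1
    · rintro a ⟨ha, ha'⟩
      refine ⟨Subgroup.inv_mem _ ha, ?_⟩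
      have h1 := M.inv_mem (hM a⁻¹ (Subgroup.inv_mem _ ha) _ ha')
      have e : (a⁻¹ * (a * gen .l * a⁻¹ * gen .l) * a⁻¹⁻¹)⁻¹ = a⁻¹ * (gen .l)⁻¹ * a⁻¹⁻¹ * (gen .l)⁻¹ := by group
      rwa [e, inv hl] at h1
  have hall : ∀ e ∈ Dz, e * gen .l ∈ M := by
    intro e he
    obtain ⟨w, hw, rfl⟩ := htr e he
    exact (key w hw).2
  unfold E
  rw [Subgroup.closure_le]
  rintro g ⟨e, he, f, hf, rfl⟩
  exact rel_trans l_mem (rel_symm l_mem hf (hall f hf)) (hall e he)

/-- noncommuting pairs -/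
theorem pairs_nc (htr : Tran) (h1 : T1) (h : D 1 0 * gen .l ∈ M) {d d' : Spor.Fi24} (hd : d ∈ Dz)
    (hd' : d' ∈ Dz) (hne : d' * d ≠ d * d') : d' * d ∈ M := by
  obtain ⟨u, hu, rfl⟩ := htr d hd
  have hu' := W_le hu
  have huz := closure_z (Subgroup.inv_mem _ hu')
  have h2 := conj_Dz huz hd'
  rw [inv_inv] at h2
  obtain ⟨w, hw, hwl, hwd⟩ := h1 _ h2 (by
    intro h3
    apply hne
    calc d' * (u * gen .l * u⁻¹) = u * (u⁻¹ * d' * u * gen .l) * u⁻¹ := by group
      _ = u * (gen .l * (u⁻¹ * d' * u)) * u⁻¹ := by rw [h3]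
      _ = u * gen .l * u⁻¹ * d' := by group)
  have h3 := hM u hu' _ (hM w hw _ h)
  have e : u * (w * (D 1 0 * gen .l) * w⁻¹) * u⁻¹ = d' * (u * gen .l * u⁻¹) := by
    have e1 : w * (D 1 0 * gen .l) * w⁻¹ = (w * D 1 0 * w⁻¹) * (w * gen .l * w⁻¹) := by group
    rw [e1, hwd, hwl, mul_inv_cancel_right]; group
  rwa [e] at h3

/-- commuting pairs -/
theorem pairs_c (htr : Tran) (h1 : T2) (h : D 3 0 * gen .l ∈ M) {d d' : Spor.Fi24} (hd : d ∈ Dz)
    (hd' : d' ∈ Dz) (hc : d' * d = d * d') (hne : d' ≠ d) (hm : ¬ Mate L z d d') : d' * d ∈ M := by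
  obtain ⟨u, hu, rfl⟩ := htr d hd
  have hu' := W_le hu
  have huz := closure_z (Subgroup.inv_mem _ hu')
  have h2 := conj_Dz huz hd'
  rw [inv_inv] at h2
  have hT := isTet (t := 0) (by norm_num)
  have hmate : ∀ i < 4, u⁻¹ * d' * u ≠ D 0 i := by
    intro i hi h3
    have h4 : d' = u * D 0 i * u⁻¹ := by rw [← h3]; group
    have hm' : ∀ c : Spor.Fi24, Mate L z (D 0 0) c → d' = u * c * u⁻¹ → False := by
      intro c hc' h5
      apply hm
      have h6 := hc'.conj Tet.tr (g := u) (show Commute u z from closure_z hu')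
      rw [D00] at h6
      rwa [h5]
    interval_cases i
    · rw [D00] at h4; exact hne h4
    · exact hm' _ ⟨_, _, hT⟩ h4
    · exact hm' _ ⟨_, _, hT.sw23⟩ h4
    · exact hm' _ ⟨_, _, hT.sw24⟩ h4
  obtain ⟨w, hw, hwl, hwd⟩ := h1 _ h2 (by
    calc u⁻¹ * d' * u * gen .l = u⁻¹ * (d' * (u * gen .l * u⁻¹)) * u := by group
      _ = u⁻¹ * ((u * gen .l * u⁻¹) * d') * u := by rw [hc]
      _ = gen .l * (u⁻¹ * d' * u) := by group) hmate
  have h3 := hM u hu' _ (hM w hw _ h)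
  have e : u * (w * (D 3 0 * gen .l) * w⁻¹) * u⁻¹ = d' * (u * gen .l * u⁻¹) := by
    have e1 : w * (D 3 0 * gen .l) * w⁻¹ = (w * D 3 0 * w⁻¹) * (w * gen .l * w⁻¹) := by group
    rw [e1, hwd, hwl, mul_inv_cancel_right]; group
  rwa [e] at h3

include hRM

/-- **The dichotomy** for subgroups normalised by all of `Dz`. -/
theorem dichW (htr : Tran) (h1 : T1) (h2 : T2) (hME : M ≤ E) : (∀ m ∈ M, Fixes m) ∨ M = E := by
  by_cases hfix : ∀ m ∈ M, Fixes m
  · exact Or.inl hfix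
  right
  refine le_antisymm hME ?_
  have _ := hRM
  unfold Fixes at hfix
  push Not at hfix
  obtain ⟨m, hm, e, he, hne, hnm⟩ := hfix
  obtain ⟨w, hw, hwe⟩ := htr e he
  have hw' := W_le hw
  -- the element `l'`
  set m' := w⁻¹ * m * w with hm'
  have hm'M : m' ∈ M := by
    have := hM w⁻¹ (Subgroup.inv_mem _ hw') m hm
    rwa [inv_inv] at this
  have hm'z : m' * z = z * m' := E_z (hME hm'M)
  set l' := m' * gen .l * m'⁻¹ with hl'
  have hel : m * e * m⁻¹ = w * l' * w⁻¹ := by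
    rw [hl', hm', ← hwe]; group
  have hl'D : l' ∈ Dz := conj_Dz hm'z l_mem
  have hl'l : l' * gen .l ∈ M := by
    have h3 := M.mul_mem hm'M (hM _ (Subgroup.subset_closure l_mem) _ (M.inv_mem hm'M))
    have e1 : m' * (gen .l * m'⁻¹ * (gen .l)⁻¹) = l' * gen .l := by
      rw [inv l_mem, hl']; group
    rwa [e1] at h3
  have hl'ne : l' ≠ gen .l := by
    intro h3
    apply hne
    rw [hel, h3, hwe]
  have hl'm : ¬ Mate L z (gen .l) l' := by
    intro h3
    apply hnm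
    have h4 := h3.conj Tet.tr (g := w) (show Commute w z from closure_z hw')
    rwa [hwe, ← hel] at h4
  apply le_of_gens hM htr
  by_cases hc : l' * gen .l = gen .l * l'
  · -- commuting
    obtain ⟨u, hu, hul, hud⟩ := h2 l' hl'D hc (by
      intro i hi h3
      have hT := isTet (t := 0) (by norm_num)
      rw [D00] at hT
      interval_cases i
      · rw [D00] at h3; exact hl'ne h3
      · exact hl'm (h3 ▸ ⟨_, _, hT⟩)
      · exact hl'm (h3 ▸ ⟨_, _, hT.sw23⟩)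
      · exact hl'm (h3 ▸ ⟨_, _, hT.sw24⟩))
    have h3 : D 3 0 * gen .l ∈ M := by
      have h4 := hM u⁻¹ (Subgroup.inv_mem _ hu) _ hl'l
      have e1 : u⁻¹ * (l' * gen .l) * u⁻¹⁻¹ = D 3 0 * gen .l := by
        rw [← hud]
        calc u⁻¹ * (u * D 3 0 * u⁻¹ * gen .l) * u⁻¹⁻¹ = D 3 0 * (u⁻¹ * (gen .l * u)) := by group
          _ = D 3 0 * gen .l := by rw [← hul]; group
      rwa [e1] at h4
    have hp : ∀ s t : ℕ, s < 6 → t < 6 → s ≠ t →
        (s, t) ∈ ([(0, 3), (0, 2), (0, 5), (3, 1), (1, 4)] : List (ℕ × ℕ)) → y t * y s ∈ M := by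
      intro s t hs ht hst hmem
      exact pairs_c hM htr h2 h3 (y_mem hs) (y_mem ht) (y_comm ht hmem)
        (y_ne_D hs ht hst (k := 0) (by norm_num)) (not_mate hs ht hst)
    have y3 := hp 0 3 (by norm_num) (by norm_num) (by norm_num) (by simp)
    have y2 := hp 0 2 (by norm_num) (by norm_num) (by norm_num) (by simp)
    have y5 := hp 0 5 (by norm_num) (by norm_num) (by norm_num) (by simp)
    have y1 := rel_trans (y_mem (t := 3) (by norm_num)) y3
      (hp 3 1 (by norm_num) (by norm_num) (by norm_num) (by simp))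
    have y4 := rel_trans (y_mem (t := 1) (by norm_num)) y1
      (hp 1 4 (by norm_num) (by norm_num) (by norm_num) (by simp))
    rw [y_zero] at y1 y2 y3 y4 y5
    intro t ht
    interval_cases t
    · rw [y_zero, sq l_mem]; exact M.one_mem
    · exact y1
    · exact y2
    · exact y3
    · exact y4
    · exact y5
  · -- noncommuting
    obtain ⟨u, hu, hul, hud⟩ := h1 l' hl'D hc
    have h3 : D 1 0 * gen .l ∈ M := by
      have h4 := hM u⁻¹ (Subgroup.inv_mem _ hu) _ hl'l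
      have e1 : u⁻¹ * (l' * gen .l) * u⁻¹⁻¹ = D 1 0 * gen .l := by
        rw [← hud]
        calc u⁻¹ * (u * D 1 0 * u⁻¹ * gen .l) * u⁻¹⁻¹ = D 1 0 * (u⁻¹ * (gen .l * u)) := by group
          _ = D 1 0 * gen .l := by rw [← hul]; group
      rwa [e1] at h4
    have hp : ∀ t : ℕ, t < 6 → 0 < t → y t * y (pa t) ∈ M := by
      intro t ht h0
      exact pairs_nc hM htr h1 h3 (y_mem (pa_lt t ht h0)) (y_mem ht) (y_ncomm ht h0)
    have y1 : y 1 * y 0 ∈ M := hp 1 (by norm_num) (by norm_num)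
    have y2 : y 2 * y 0 ∈ M := rel_trans (y_mem (t := 1) (by norm_num)) y1 (hp 2 (by norm_num) (by norm_num))
    have y3 : y 3 * y 0 ∈ M := rel_trans (y_mem (t := 2) (by norm_num)) y2 (hp 3 (by norm_num) (by norm_num))
    have y4 : y 4 * y 0 ∈ M := rel_trans (y_mem (t := 2) (by norm_num)) y2 (hp 4 (by norm_num) (by norm_num))
    have y5 : y 5 * y 0 ∈ M := rel_trans (y_mem (t := 1) (by norm_num)) y1 (hp 5 (by norm_num) (by norm_num))
    rw [y_zero] at y1 y2 y3 y4 y5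
    intro t ht
    interval_cases t
    · rw [y_zero, sq l_mem]; exact M.one_mem
    · exact y1
    · exact y2
    · exact y3
    · exact y4
    · exact y5

end

end Cfsg.Agent.KFacts.FiTF.QuasiA
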