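import Cfsg.Agent.KFacts.FiTF.FixZ
import Cfsg.Agent.KFacts.FiTF.QuasiA
import Cfsg.Agent.R08.TetBigInst

/-!
# `Fi24'`: the order of `C_F(z)`
-/

set_option autoImplicit false

namespace Cfsg.Agent.KFacts.FiTF.Order

open Cfsg Cfsg.Spor Cfsg.Spor.Fi24 Subgroup
open Cfsg.Agent.Fischer.Fi24Rep (gen)
open Cfsg.Agent.R08.FiTwentyFour (L)
open Cfsg.Agent.R08.TetTwo (IsTet Mate)
open Cfsg.Agent.R08 (TetBig.orb TetBig.C4 TetBig.mem_C4 TetBig.quad TetBig.card_eq TetBigInst.hyp)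
open Cfsg.Agent.R08.TetBig (orb C4 mem_C4 quad card_eq)
open Cfsg.Agent.KFacts.FiTF.Defs Cfsg.Agent.KFacts.FiTF.Tet Cfsg.Agent.KFacts.FiTF.RQ
  Cfsg.Agent.KFacts.FiTF.QuasiA

/-- `C_F(z)` permutes the tetrads of `z` transitively -/
theorem quadz {a b c d a' b' c' d' : Spor.Fi24} (h : IsTet L z a b c d) (h' : IsTet L z a' b' c' d') :
    ∃ g ∈ commutator Spor.Fi24, g * z = z * g ∧ g * a * g⁻¹ = a' ∧ g * b * g⁻¹ = b' ∧ g * c * g⁻¹ = c' ∧
      g * d * g⁻¹ = d' := by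
  obtain ⟨g, hg, h1, h2, h3, h4⟩ := quad TetBigInst.hyp h h'
  refine ⟨g, hg, ?_, h1, h2, h3, h4⟩
  have h5 : g * z * g⁻¹ = z := by
    calc g * z * g⁻¹ = g * (a * b * c * d) * g⁻¹ := by rw [h.prod]
      _ = (g * a * g⁻¹) * (g * b * g⁻¹) * (g * c * g⁻¹) * (g * d * g⁻¹) := by group
      _ = z := by rw [h1, h2, h3, h4, h'.prod]
  exact mul_inv_eq_iff_eq_mul.1 h5

theorem hT : IsTet L z (D 0 0) (D 0 1) (D 0 2) (D 0 3) := isTet (by norm_num)

/-- the third: `C_F(z, a, b, c)` -/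
theorem card3 (h : IsTet L z (D 0 0) (D 0 1) (D 0 2) (D 0 3)) :
    Nat.card ↥(centralizer ({z} : Set Spor.Fi24) ⊓ centralizer ({D 0 0} : Set Spor.Fi24) ⊓
      centralizer ({D 0 1} : Set Spor.Fi24) ⊓ centralizer ({D 0 2} : Set Spor.Fi24)) =
    2 * Nat.card ↥(C4 (commutator Spor.Fi24) (D 0 0) (D 0 1) (D 0 2) (D 0 3)) := by
  set H := centralizer ({z} : Set Spor.Fi24) ⊓ centralizer ({D 0 0} : Set Spor.Fi24) ⊓
      centralizer ({D 0 1} : Set Spor.Fi24) ⊓ centralizer ({D 0 2} : Set Spor.Fi24) with hH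
  have hmem : ∀ g, g ∈ H ↔ ((g * z = z * g ∧ g * D 0 0 = D 0 0 * g) ∧ g * D 0 1 = D 0 1 * g) ∧
      g * D 0 2 = D 0 2 * g := by
    intro g
    simp only [hH, Subgroup.mem_inf, Subgroup.mem_centralizer_singleton_iff]
  have h1 : commutator Spor.Fi24 ⊓ H = C4 (commutator Spor.Fi24) (D 0 0) (D 0 1) (D 0 2) (D 0 3) := by
    ext g
    rw [Subgroup.mem_inf, hmem, mem_C4]
    constructor
    · rintro ⟨h0, ⟨⟨hz, ha⟩, hb⟩, hc⟩
      refine ⟨h0, ha, hb, hc, ?_⟩
      have e : D 0 3 = (D 0 0 * D 0 1 * D 0 2)⁻¹ * z := by rw [← h.prod]; group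
      rw [e]
      have hz : Commute g z := hz
      have ha : Commute g (D 0 0) := ha
      have hb : Commute g (D 0 1) := hb
      have hc : Commute g (D 0 2) := hc
      exact ((((ha.mul_right hb).mul_right hc).inv_right).mul_right hz).eq
    · rintro ⟨h0, ha, hb, hc, hd⟩
      refine ⟨h0, ⟨⟨?_, ha⟩, hb⟩, hc⟩
      rw [← h.prod]
      have hd : Commute g (D 0 3) := hd
      have ha : Commute g (D 0 0) := ha
      have hb : Commute g (D 0 1) := hb
      have hc : Commute g (D 0 2) := hc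
      exact (((ha.mul_right hb).mul_right hc).mul_right hd).eq
  have h2 : (commutator Spor.Fi24).relIndex H = 2 := by
    have h3 : (commutator Spor.Fi24).relIndex H ∣ 2 := by
      rw [← Cfsg.Agent.R08.FiTwentyFour.index_commutator]
      exact Subgroup.relIndex_dvd_index_of_normal _ _
    rcases (Nat.dvd_prime Nat.prime_two).1 h3 with h4 | h4
    · exfalso
      rw [Subgroup.relIndex_eq_one] at h4
      refine Cfsg.Agent.R08.FiTwentyFour.odd h.ha (h4 ((hmem _).2 ⟨⟨⟨h.comm_a.eq, rfl⟩, h.ab.eq⟩, h.ac.eq⟩))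
    · exact h4
  rw [← h1, ← h2, Subgroup.relIndex, ← Subgroup.inf_subgroupOf_right,
    ← Nat.card_congr (Subgroup.subgroupOfEquivOfLe (inf_le_right : commutator Spor.Fi24 ⊓ H ≤ H)).toEquiv,
    Subgroup.index_mul_card]

theorem card_eq' : Nat.card (centralizer ({z} : Set Spor.Fi24)) =
    504 * (3 * (2 * (2 * Nat.card ↥(C4 (commutator Spor.Fi24) (D 0 0) (D 0 1) (D 0 2) (D 0 3))))) := by
  have h := hT
  rw [orb (centralizer ({z} : Set Spor.Fi24)) (D 0 0) Dz ?_, FixZ.ncard_Dz,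
    orb (centralizer ({z} : Set Spor.Fi24) ⊓ centralizer ({D 0 0} : Set Spor.Fi24)) (D 0 1)
      {D 0 1, D 0 2, D 0 3} ?_, Set.ncard_eq_three.2 ⟨_, _, _, h.nbc, h.nbd, h.ncd, rfl⟩,
    orb (centralizer ({z} : Set Spor.Fi24) ⊓ centralizer ({D 0 0} : Set Spor.Fi24) ⊓
      centralizer ({D 0 1} : Set Spor.Fi24)) (D 0 2) {D 0 2, D 0 3} ?_, Set.ncard_pair h.ncd, card3 h]
  · -- third
    intro y
    constructor
    · rintro (rfl | rfl)
      · exact ⟨1, one_mem _, by group⟩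
      · obtain ⟨g, -, hz, h1, h2, h3, h4⟩ := quadz h h.sw34
        refine ⟨g, ⟨⟨Subgroup.mem_centralizer_singleton_iff.2 hz, Subgroup.mem_centralizer_singleton_iff.2
          (mul_inv_eq_iff_eq_mul.1 h1)⟩, Subgroup.mem_centralizer_singleton_iff.2
          (mul_inv_eq_iff_eq_mul.1 h2)⟩, h3⟩
    · rintro ⟨g, ⟨⟨hz, ha⟩, hb⟩, rfl⟩
      have hz := Subgroup.mem_centralizer_singleton_iff.1 hz
      have ha := mul_inv_eq_iff_eq_mul.2 (Subgroup.mem_centralizer_singleton_iff.1 ha)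
      have hb := mul_inv_eq_iff_eq_mul.2 (Subgroup.mem_centralizer_singleton_iff.1 hb)
      have h1 := h.conj Tet.tr hz
      rw [ha, hb] at h1
      rcases h.mate_cases Tet.tr ⟨_, _, h1.sw23⟩ with h2 | h2 | h2
      · exact absurd h2.symm h1.nbc
      · exact Or.inl h2
      · exact Or.inr h2
  · -- second
    intro y
    constructor
    · rintro (rfl | rfl | rfl)
      · exact ⟨1, one_mem _, by group⟩
      · obtain ⟨g, -, hz, h1, h2, h3, h4⟩ := quadz h h.sw23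
        exact ⟨g, ⟨Subgroup.mem_centralizer_singleton_iff.2 hz, Subgroup.mem_centralizer_singleton_iff.2
          (mul_inv_eq_iff_eq_mul.1 h1)⟩, h2⟩
      · obtain ⟨g, -, hz, h1, h2, h3, h4⟩ := quadz h h.sw24
        exact ⟨g, ⟨Subgroup.mem_centralizer_singleton_iff.2 hz, Subgroup.mem_centralizer_singleton_iff.2
          (mul_inv_eq_iff_eq_mul.1 h1)⟩, h2⟩
    · rintro ⟨g, ⟨hz, ha⟩, rfl⟩
      have hz := Subgroup.mem_centralizer_singleton_iff.1 hz
      have ha := mul_inv_eq_iff_eq_mul.2 (Subgroup.mem_centralizer_singleton_iff.1 ha)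
      have h1 := h.conj Tet.tr hz
      rw [ha] at h1
      exact h.mate_cases Tet.tr ⟨_, _, h1⟩
  · -- first
    intro y
    constructor
    · intro hy
      obtain ⟨w, hw, h1⟩ := FixZ.tran y hy
      exact ⟨w, Subgroup.mem_centralizer_singleton_iff.2 (closure_z (W_le hw)), by rw [D00]; exact h1⟩
    · rintro ⟨g, hg, rfl⟩
      exact conj_Dz (Subgroup.mem_centralizer_singleton_iff.1 hg) (D_mem_Dz (by norm_num) (by norm_num))

/-- `|C_F(z)|` -/
theorem card : Nat.card (centralizer ({z} : Set Spor.Fi24)) = 321052999680 := by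
  have h1 := card_eq TetBigInst.hyp hT
  rw [Cfsg.Agent.R08.FiTwentyFour.card_commutator] at h1
  rw [card_eq']
  omega

/-- the index of `C_F(z)` is odd -/
theorem odd : Odd (centralizer ({z} : Set Spor.Fi24)).index := by
  have : Finite Spor.Fi24 := Cfsg.Agent.R08.FiTwentyFour.finite_Fi24
  have h1 := (centralizer ({z} : Set Spor.Fi24)).card_mul_index
  have h2 := (commutator Spor.Fi24).card_mul_index
  rw [Cfsg.Agent.R08.FiTwentyFour.card_commutator, Cfsg.Agent.R08.FiTwentyFour.index_commutator] at h2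
  rw [card, ← h2] at h1
  have h3 : (centralizer ({z} : Set Spor.Fi24)).index = 7819305288795 := by omega
  rw [h3]
  decide

end Cfsg.Agent.KFacts.FiTF.Order
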