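import Cfsg.Agent.KFacts.FiTF.QuasiA

/-!
# `Fi24'`: `E` is perfect
-/

set_option autoImplicit false
set_option maxRecDepth 100000

namespace Cfsg.Agent.KFacts.FiTF.PerfE

open Cfsg Cfsg.Spor Cfsg.Spor.Fi24 Subgroup
open Cfsg.Agent.Lib.PermNet Cfsg.Agent.Lib.PermNetPt Cfsg.Agent.Fischer.Fi24RepDef Cfsg.Agent.Fischer.Fi24Rep
open Cfsg.Agent.Fischer.Fi24Spider
open Cfsg.Agent.KFacts.FiTF.Defs Cfsg.Agent.KFacts.FiTF.Pts Cfsg.Agent.KFacts.FiTF.Tet Cfsg.Agent.KFacts.FiTF.RQ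
  Cfsg.Agent.KFacts.FiTF.QuasiA

open scoped commutatorElement

/-- noncommuting pairs with a common commuting member -/
theorem mem_comm {e f g : Spor.Fi24} (he : e ∈ Dz) (hf : f ∈ Dz) (hg : g ∈ Dz) (hne : e * f ≠ f * e)
    (heg : e * g = g * e) (hfg : f * g = g * f) : e * f ∈ ⁅E, E⁆ := by
  have he2 := sq he
  have hf2 := sq hf
  have hg2 := sq hg
  have h3 : e * f * e = f * e * f :=
    (Cfsg.Agent.R08.FiTwentyFour.three he.1 hf.1).resolve_left hne
  have hx : e * g ∈ E := mul_mem_E he hg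
  have hy : g * f ∈ E := mul_mem_E hg hf
  have hx1 : (e * g)⁻¹ = e * g := by
    rw [mul_inv_rev, QuasiA.inv he, QuasiA.inv hg, heg]
  have hy1 : (g * f)⁻¹ = g * f := by
    rw [mul_inv_rev, QuasiA.inv hf, QuasiA.inv hg, hfg]
  have h4 : ⁅e * g, g * f⁆ = (e * f) * (e * f) := by
    rw [commutatorElement_def, hx1, hy1]
    calc e * g * (g * f) * (e * g) * (g * f) = e * (g * g) * f * e * (g * g) * f := by group
      _ = e * f * (e * f) := by rw [hg2]; group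
  have h5 : (e * f) * (e * f) ∈ ⁅E, E⁆ := h4 ▸ commutator_mem_commutator hx hy
  -- `(ef)^3 = 1`
  have h6 : (e * f) * (e * f) * (e * f) = 1 := by
    calc (e * f) * (e * f) * (e * f) = (e * f * e) * (f * e * f) := by group
      _ = (f * e * f) * (f * e * f) := by rw [h3]
      _ = f * e * (f * f) * e * f := by group
      _ = 1 := by rw [hf2, mul_one, mul_assoc f e e, he2, mul_one, hf2]
  have h7 := mul_mem h5 h5
  have h8 : e * f = (e * f) * (e * f) * ((e * f) * (e * f)) := by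
    calc e * f = 1 * (e * f) := (one_mul _).symm
      _ = (e * f) * (e * f) * (e * f) * (e * f) := by rw [h6]
      _ = _ := by group
  rw [h8]; exact h7

theorem isPt_g : IsPt (gen .g) 8 := by
  have h : IsPt (Defs.tr [] .g) 8 := IsPt.of_word (by decide +kernel)
  have e : Defs.tr [] Gen.g = gen .g := by
    unfold Defs.tr
    rw [List.reverse_nil, List.nil_append, word_cons, word_nil, mul_one]
  rwa [e] at h

theorem chk_g : chkPt (nw wz false) 8 8 = true ∧ chkPt (nw (wD 1 0) false) 8 8 = true ∧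
    chkPt (nw (wD 2 0) false) 8 8 = true ∧ chkPt (nw (wD 5 0) false) 8 8 = true := by decide +kernel

theorem chk_0 : chkPt (nw (wD 0 0) false) (P 4 0) (P 4 0) = true := by decide +kernel

theorem g_mem : gen .g ∈ Dz := by
  refine ⟨isPt_g.mem, ?_⟩
  have h1 : z * gen .g = gen .g * z := (isPt_g.comm_iff z).2 (by
    rw [← word_wz]; exact rho_of_chkPt chk_g.1)
  exact h1.symm

theorem y1_g : y 1 * gen .g = gen .g * y 1 := (isPt_g.comm_iff (D 1 0)).2 (by
  rw [← word_wD]; exact rho_of_chkPt chk_g.2.1)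
theorem y2_g : y 2 * gen .g = gen .g * y 2 := (isPt_g.comm_iff (D 2 0)).2 (by
  rw [← word_wD]; exact rho_of_chkPt chk_g.2.2.1)
theorem y5_g : y 5 * gen .g = gen .g * y 5 := (isPt_g.comm_iff (D 5 0)).2 (by
  rw [← word_wD]; exact rho_of_chkPt chk_g.2.2.2)
theorem y0_y4 : y 0 * y 4 = y 4 * y 0 := ((isPt (t := 4) (by norm_num) (by norm_num)).comm_iff (D 0 0)).2 (by
  rw [← word_wD]; exact rho_of_chkPt chk_0)

/-- the adjacent generators are congruent modulo `⁅E, E⁆` -/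
theorem adj (t : ℕ) (ht : t < 6) (h0 : 0 < t) : y t * y (pa t) ∈ ⁅E, E⁆ := by
  have hn := y_ncomm ht h0
  have c03 := y_comm (s := 0) (t := 3) (by norm_num) (by simp)
  have c02 := y_comm (s := 0) (t := 2) (by norm_num) (by simp)
  have c31 := y_comm (s := 3) (t := 1) (by norm_num) (by simp)
  have hp := pa_lt t ht h0
  interval_cases t
  · exact mem_comm (y_mem ht) (y_mem hp) (y_mem (t := 3) (by norm_num)) hn c31 c03.symm
  · exact mem_comm (y_mem ht) (y_mem hp) g_mem hn y2_g y1_g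
  · exact mem_comm (y_mem ht) (y_mem hp) (y_mem (t := 0) (by norm_num)) hn c03 c02
  · exact mem_comm (y_mem ht) (y_mem hp) (y_mem (t := 0) (by norm_num)) hn y0_y4.symm c02
  · exact mem_comm (y_mem ht) (y_mem hp) g_mem hn y5_g y1_g

theorem conj_E {w : Spor.Fi24} (hw : w * z = z * w) : ∀ g ∈ E, w * g * w⁻¹ ∈ E := by
  intro g hg
  unfold E at hg
  induction hg using Subgroup.closure_induction with
  | mem g hg =>
    obtain ⟨e, he, f, hf, rfl⟩ := hg
    rw [show w * (e * f) * w⁻¹ = (w * e * w⁻¹) * (w * f * w⁻¹) by group]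
    exact mul_mem_E (conj_Dz hw he) (conj_Dz hw hf)
  | one => rw [mul_one, mul_inv_cancel]; exact E.one_mem
  | mul a b _ _ ha hb =>
    rw [show w * (a * b) * w⁻¹ = (w * a * w⁻¹) * (w * b * w⁻¹) by group]
    exact E.mul_mem ha hb
  | inv a _ ha =>
    rw [show w * a⁻¹ * w⁻¹ = (w * a * w⁻¹)⁻¹ by group]
    exact E.inv_mem ha

/-- **`E` is perfect** -/
theorem perf (htr : Tran) : ⁅E, E⁆ = E := by
  apply le_antisymm (commutator_le_self E)
  have hM : ∀ w ∈ Subgroup.closure Dz, ∀ m ∈ ⁅E, E⁆, w * m * w⁻¹ ∈ ⁅E, E⁆ := by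
    intro w hw m hm
    have h1 : (⁅E, E⁆ : Subgroup Spor.Fi24).map (MulAut.conj w).toMonoidHom ≤ ⁅E, E⁆ := by
      rw [map_commutator]
      have h2 : E.map (MulAut.conj w).toMonoidHom ≤ E := by
        rintro _ ⟨g, hg, rfl⟩
        exact conj_E (closure_z hw) g hg
      exact commutator_mono h2 h2
    exact h1 ⟨m, hm, rfl⟩
  apply le_of_gens hM htr
  have y1 : y 1 * y 0 ∈ ⁅E, E⁆ := adj 1 (by norm_num) (by norm_num)
  have y2 : y 2 * y 0 ∈ ⁅E, E⁆ := rel_trans (y_mem (t := 1) (by norm_num)) y1 (adj 2 (by norm_num) (by norm_num))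
  have y3 : y 3 * y 0 ∈ ⁅E, E⁆ := rel_trans (y_mem (t := 2) (by norm_num)) y2 (adj 3 (by norm_num) (by norm_num))
  have y4 : y 4 * y 0 ∈ ⁅E, E⁆ := rel_trans (y_mem (t := 2) (by norm_num)) y2 (adj 4 (by norm_num) (by norm_num))
  have y5 : y 5 * y 0 ∈ ⁅E, E⁆ := rel_trans (y_mem (t := 1) (by norm_num)) y1 (adj 5 (by norm_num) (by norm_num))
  rw [y_zero] at y1 y2 y3 y4 y5
  intro t ht
  interval_cases t
  · rw [y_zero, QuasiA.sq l_mem]; exact Subgroup.one_mem _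
  · exact y1
  · exact y2
  · exact y3
  · exact y4
  · exact y5

/-! ### The element of the `y`-trick -/

/-- `l a c g` -/
def v : Spor.Fi24 := word [.l, .a, .c, .g]

/-- swaps `e` and `g` -/
def k : Spor.Fi24 := word [.f, .e, .g, .f]

theorem D01 : D 0 1 = gen .a := by
  show word [Gen.a] = gen .a
  simp only [word_cons, word_nil, mul_one]

theorem D02 : D 0 2 = gen .c := by
  show word [Gen.c] = gen .c
  simp only [word_cons, word_nil, mul_one]

theorem v_eq : v = D 0 0 * D 0 1 * D 0 2 * gen .g := by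
  rw [D00, D01, D02]
  unfold v
  simp only [word_cons, word_nil, mul_one, mul_assoc]

theorem chk_k : chkPt (nw [.f, .e, .g, .f] false) 0 0 = true ∧ chkPt (nw [.f, .e, .g, .f] false) 1 1 = true ∧
    chkPt (nw [.f, .e, .g, .f] false) 2 2 = true ∧ chkPt (nw [.f, .e, .g, .f] false) 3 8 = true ∧
    chkPt (nw [.f, .e, .g, .f] false) 8 3 = true := by decide +kernel

theorem chk_v : chkPt (nw [.l, .a, .c, .g] false) 0 0 = true ∧
    chkPt (nw [.l, .a, .c, .g] false) (P 1 0) 305396 = true := by decide +kernel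

theorem k_D0 : k * D 0 0 * k⁻¹ = D 0 0 :=
  (isPt (t := 0) (i := 0) (by norm_num) (by norm_num)).conj_eq (isPt (t := 0) (i := 0) (by norm_num) (by norm_num))
    (rho_of_chkPt chk_k.1)
theorem k_D1 : k * D 0 1 * k⁻¹ = D 0 1 :=
  (isPt (t := 0) (i := 1) (by norm_num) (by norm_num)).conj_eq (isPt (t := 0) (i := 1) (by norm_num) (by norm_num))
    (rho_of_chkPt chk_k.2.1)
theorem k_D2 : k * D 0 2 * k⁻¹ = D 0 2 :=
  (isPt (t := 0) (i := 2) (by norm_num) (by norm_num)).conj_eq (isPt (t := 0) (i := 2) (by norm_num) (by norm_num))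
    (rho_of_chkPt chk_k.2.2.1)
theorem k_D3 : k * D 0 3 * k⁻¹ = gen .g :=
  (isPt (t := 0) (i := 3) (by norm_num) (by norm_num)).conj_eq isPt_g (rho_of_chkPt chk_k.2.2.2.1)
theorem k_g : k * gen .g * k⁻¹ = D 0 3 :=
  isPt_g.conj_eq (isPt (t := 0) (i := 3) (by norm_num) (by norm_num)) (rho_of_chkPt chk_k.2.2.2.2)

theorem kz : k * z * k⁻¹ = v := by
  rw [← prod_D 0 (by norm_num), v_eq]
  calc k * (D 0 0 * D 0 1 * D 0 2 * D 0 3) * k⁻¹ =
      (k * D 0 0 * k⁻¹) * (k * D 0 1 * k⁻¹) * (k * D 0 2 * k⁻¹) * (k * D 0 3 * k⁻¹) := by group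
    _ = _ := by rw [k_D0, k_D1, k_D2, k_D3]

theorem kv : k * v * k⁻¹ = z := by
  rw [← prod_D 0 (by norm_num), v_eq]
  calc k * (D 0 0 * D 0 1 * D 0 2 * gen .g) * k⁻¹ =
      (k * D 0 0 * k⁻¹) * (k * D 0 1 * k⁻¹) * (k * D 0 2 * k⁻¹) * (k * gen .g * k⁻¹) := by group
    _ = _ := by rw [k_D0, k_D1, k_D2, k_g]

theorem kz' : k⁻¹ * z * k = v := by
  rw [← kv]; group

theorem v_mem : v ∈ E := by
  rw [v_eq, show D 0 0 * D 0 1 * D 0 2 * gen .g = (D 0 0 * D 0 1) * (D 0 2 * gen .g) by group]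
  exact E.mul_mem (mul_mem_E (D_mem_Dz (by norm_num) (by norm_num)) (D_mem_Dz (by norm_num) (by norm_num)))
    (mul_mem_E (D_mem_Dz (by norm_num) (by norm_num)) g_mem)

theorem v_not_mem : v ∉ R := by
  intro hv
  have h1 := Cfsg.Agent.R08.TetThree.act_of_mem Tet.tr (R_le_Q hv) (isTet (t := 1) (by norm_num))
  have h2 : ∃ i < 4, v * D 1 0 * v⁻¹ = D 1 i := by
    rcases h1 with ⟨h, -⟩ | ⟨h, -⟩ | ⟨h, -⟩ | ⟨h, -⟩
    · exact ⟨0, by norm_num, h⟩
    · exact ⟨1, by norm_num, h⟩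
    · exact ⟨2, by norm_num, h⟩
    · exact ⟨3, by norm_num, h⟩
  obtain ⟨i, hi, h3⟩ := h2
  have h4 : rho v (P 1 0) = P 1 i :=
    (isPt (t := 1) (i := 0) (by norm_num) (by norm_num)).rho_eq (isPt (t := 1) (by norm_num) hi) h3
  have h5 : rho v (P 1 0) = 305396 := rho_of_chkPt chk_v.2
  rw [h5] at h4
  revert h4
  interval_cases i <;> decide

/-- **the `y`-trick** -/
theorem yt : ∃ k ∈ commutator Spor.Fi24, ∃ t : Spor.Fi24, t ∉ commutator Spor.Fi24 ∧ t * z = z * t ∧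
    t * (k⁻¹ * z * k) = k⁻¹ * z * k * t ∧ k⁻¹ * z * k ∈ E ∧ k * z * k⁻¹ ∈ E ∧ k * z * k⁻¹ ∉ R := by
  refine ⟨k, ?_, gen .l, Cfsg.Agent.R08.FiTwentyFour.odd l_mem.1, l_mem.2, ?_, ?_, ?_, ?_⟩
  · have e : k = gen .f * gen .e * (gen .g * gen .f) := by
      unfold k
      simp only [word_cons, word_nil, mul_one, mul_assoc]
    rw [e]
    exact mul_mem
      (Cfsg.Agent.R08.FiTwentyFour.even (Cfsg.Agent.R08.FiTwentyFour.gen_mem_L .f) (Cfsg.Agent.R08.FiTwentyFour.gen_mem_L .e))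
      (Cfsg.Agent.R08.FiTwentyFour.even (Cfsg.Agent.R08.FiTwentyFour.gen_mem_L .g) (Cfsg.Agent.R08.FiTwentyFour.gen_mem_L .f))
  · rw [kz']
    have h1 : v * D 0 0 = D 0 0 * v :=
      ((isPt (t := 0) (i := 0) (by norm_num) (by norm_num)).comm_iff v).2 (rho_of_chkPt chk_v.1)
    rw [D00] at h1
    exact h1.symm
  · rw [kz']; exact v_mem
  · rw [kz]; exact v_mem
  · rw [kz]; exact v_not_mem

end Cfsg.Agent.KFacts.FiTF.PerfE
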