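import Cfsg.Agent.KFacts.FiTF.FrameOf
import Cfsg.Agent.KFacts.FiTF.Order
import Cfsg.Agent.KFacts.FiTF.Cent
import Cfsg.Agent.KFacts.FiTF.PerfE
import Cfsg.Agent.KFacts.FiTF.FixAut

/-!
# `Fi24'`: the frame, unconditionally

`frame`; `out`: `|Out (Fi24')|` divides 2; `exists_conj`: every automorphism of `Fi24'` is induced by `Fi24`.
-/

set_option autoImplicit false

namespace Cfsg.Agent.KFacts.FiTF

open Cfsg Cfsg.Spor Subgroup
open Cfsg.Agent.KFacts.FiTF.Defs

/-- **the frame of `Fi24'`** -/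
theorem frame : Frame (commutator Spor.Fi24) z R E RQ.Om :=
  FrameOf.frame_of FixZ.tran (Cent.cent FixZ.tran) Order.odd Order.card (PerfE.perf FixZ.tran)
    FixAut.eq_one_or_conj PerfE.yt

/-- **`|Out (Fi24')|` divides 2** -/
theorem out : (MulAut.conj : Spor.Fi24' →* MulAut Spor.Fi24').range.index ∣ 2 := by
  have : Finite Spor.Fi24 := Cfsg.Agent.R08.FiTwentyFour.finite_Fi24
  exact frame.out

/-- every automorphism of `Fi24'` is induced by an element of `Fi24` -/
theorem exists_conj (α : MulAut Spor.Fi24') : ∃ g : Spor.Fi24, ∀ x : Spor.Fi24', (α x : Spor.Fi24) = g * x * g⁻¹ := by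
  have : Finite Spor.Fi24 := Cfsg.Agent.R08.FiTwentyFour.finite_Fi24
  exact frame.exists_conj α

end Cfsg.Agent.KFacts.FiTF
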