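import Cfsg.Agent.KFacts.FiTF.RQ
import Cfsg.Agent.KFacts.FiTF.Abs

/-!
# `Fi24'`: the frame from its pieces
-/

set_option autoImplicit false

namespace Cfsg.Agent.KFacts.FiTF.FrameOf

open Cfsg Cfsg.Spor Subgroup
open Cfsg.Agent.KFacts.FiTF.Defs

theorem frame_of (htr : RQ.Tran)
    (cent : ∀ g : Spor.Fi24, (∀ r ∈ R, g * r = r * g) → g = 1 ∨ g = z)
    (odd : Odd (centralizer ({z} : Set Spor.Fi24)).index)
    (card : Nat.card (centralizer ({z} : Set Spor.Fi24)) = 321052999680)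
    (perf : ⁅E, E⁆ = E)
    (fix : ∀ α : MulAut (commutator Spor.Fi24), (∀ e ∈ Dz, ∀ f ∈ Dz, ∀ x : commutator Spor.Fi24,
      (x : Spor.Fi24) = e * f → α x = x) → α = 1 ∨ ∀ x : commutator Spor.Fi24, (α x : Spor.Fi24) = z * x * z)
    (yt : ∃ k ∈ commutator Spor.Fi24, ∃ t : Spor.Fi24, t ∉ commutator Spor.Fi24 ∧ t * z = z * t ∧
      t * (k⁻¹ * z * k) = k⁻¹ * z * k * t ∧ k⁻¹ * z * k ∈ E ∧ k * z * k⁻¹ ∈ E ∧ k * z * k⁻¹ ∉ R) :
    Frame (commutator Spor.Fi24) z R E RQ.Om := by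
  have : Finite Spor.Fi24 := Cfsg.Agent.R08.FiTwentyFour.finite_Fi24
  exact RQ.sys.frame inferInstance Cfsg.Agent.R08.FiTwentyFour.index_commutator RQ.E_le (RQ.norm htr) cent odd
    perf (RQ.omC htr) (by rw [card]; norm_num)
    (fun α hα => fix α fun e he f hf x hx => hα x (hx ▸ RQ.mul_mem_E he hf)) yt

end Cfsg.Agent.KFacts.FiTF.FrameOf
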