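import Cfsg.Agent.KFacts.FiTF.OrbSys

/-!
# `Fi24'`: the mask `Om.OM` is invariant under the six generators
-/

set_option autoImplicit false
set_option linter.unusedSectionVars false

namespace Cfsg.Agent.KFacts.FiTF.OrbSys

open Subgroup
open Cfsg.Agent.LargeExtra.Model Cfsg.Agent.LargeExtra.Pres Cfsg.Agent.KFacts.Codes
open Cfsg.Agent.KFacts.FiTF.Chain Cfsg.Agent.KFacts.FiTF.Lin Cfsg.Agent.KFacts.FiTF.Orb
open Cfsg.Agent.Lib.PermNetOrbit

theorem act_mod (B : ℕ → ℕ) (n : ℕ) (I : ℕ → ℕ) (c : ℕ) :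
    act B n I c % 2 ^ n = lf ((List.range n).map fun i => I i % 2 ^ n) c := by
  have h1 : ∀ k ≤ n, aux B n I c k % 2 ^ n = lf ((List.range k).map fun i => I i % 2 ^ n) c := by
    intro k
    induction k with
    | zero => intro _; exact Nat.zero_mod _
    | succ k ih =>
      intro hk
      rw [lf_map_succ, ← ih (by omega)]
      have h2 : (c.testBit k) = decide (c / 2 ^ k % 2 = 1) := by
        rw [Nat.testBit_eq_decide_div_mod_eq]
      show (if c.testBit k = true then mulc B n (aux B n I c k) (I k) else aux B n I c k) % 2 ^ n = _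
      rw [h2]
      rcases Nat.mod_two_eq_zero_or_one (c / 2 ^ k) with h5 | h5
      · rw [h5]; simp
      · rw [h5]; simp [mulc_mod]
  rw [act, Nat.xor_mod_two_pow, h1 n (le_refl n)]
  split_ifs
  · rw [Nat.mod_self, Nat.xor_zero]
  · rw [Nat.zero_mod, Nat.xor_zero]

/-- `lf` depends only on the low bits -/
theorem lf_mod (l : List ℕ) : ∀ (c : ℕ), lf l (c % 2 ^ l.length) = lf l c := by
  induction l with
  | nil => intro c; rfl
  | cons a l ih =>
    intro c
    show ((c % 2 ^ (l.length + 1)) % 2 * a) ^^^ lf l (c % 2 ^ (l.length + 1) / 2) = (c % 2 * a) ^^^ lf l (c / 2)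
    have h1 : c % 2 ^ (l.length + 1) % 2 = c % 2 :=
      Nat.mod_mod_of_dvd _ (dvd_pow_self 2 (Nat.succ_ne_zero _))
    have h2 : c % 2 ^ (l.length + 1) / 2 = c / 2 % 2 ^ l.length := by
      rw [pow_succ', Nat.mod_mul_right_div_self]
    rw [h1, h2, ih]

def omCk (t c : ℕ) : Bool := !(Om.OM.testBit c) || Om.OM.testBit (lf (YL t) c)

theorem om_ck : ∀ t < 6, ∀ a < 64, ∀ b < 64, omCk t (64 * a + b) = true := by decide +kernel

theorem om_lf {t : ℕ} (ht : t < 6) {c : ℕ} (hc : c < 4096) (h : Om.OM.testBit c = true) :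
    Om.OM.testBit (lf (YL t) c) = true := by
  have h1 := om_ck t ht (c / 64) (by omega) (c % 64) (Nat.mod_lt _ (by norm_num))
  rw [Nat.div_add_mod, omCk, h] at h1
  simpa using h1

theorem Y_lt : ∀ t < 6, ∀ i < 12, Om.Y t i < 2 ^ (12 + 1) := by decide

theorem YL_length : ∀ t < 6, (YL t).length = 12 := by decide

/-- the mask is closed under the generators -/
theorem om_act {t : ℕ} (ht : t < 6) (c : ℕ) (h : Om.OM.testBit (c % 4096) = true) :
    Om.OM.testBit (act Om.B 12 (Om.Y t) c % 4096) = true := by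
  have h1 := act_mod Om.B 12 (Om.Y t) c
  rw [YL_eq t ht] at h1
  have h2 := lf_mod (YL t) c
  rw [YL_length t ht] at h2
  have h3 : act Om.B 12 (Om.Y t) c % 4096 = lf (YL t) (c % 4096) := by
    rw [show (4096 : ℕ) = 2 ^ 12 by norm_num, h1, h2]
  rw [h3]
  exact om_lf ht (Nat.mod_lt _ (by norm_num)) h

variable {F : Type*} [Group F] {z : F} {x y : ℕ → F} {E : Subgroup F}

/-- `Om` is closed under the generators -/
theorem Sys.omY (h : Sys z x y E) {t : ℕ} (ht : t < 6) {a : F} (ha : a ∈ OmSet 12 Om.OM z x) :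
    y t * a * (y t)⁻¹ ∈ OmSet 12 Om.OM z x := by
  obtain ⟨c, hc, h1, rfl⟩ := ha
  have h2 := conj_cod h.rel Om.tri (h.yz t ht) (h.yx t ht) c
  refine ⟨act Om.B 12 (Om.Y t) c, ?_, ?_, h2.symm⟩
  · have h3 : ∀ k, k ≤ 12 → aux Om.B 12 (Om.Y t) c k < 2 ^ (12 + 1) := by
      intro k
      induction k with
      | zero => intro _; exact Nat.two_pow_pos _
      | succ k ih =>
        intro hk
        show (if c.testBit k = true then mulc Om.B 12 (aux Om.B 12 (Om.Y t) c k) (Om.Y t k) else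
          aux Om.B 12 (Om.Y t) c k) < _
        split_ifs
        · exact mulc_lt (ih (by omega)) (Y_lt t ht k (by omega))
        · exact ih (by omega)
    refine Nat.xor_lt_two_pow (h3 12 (le_refl _)) ?_
    split_ifs
    · norm_num
    · norm_num
  · have h4 := om_act ht c
    norm_num at h4 h1 ⊢
    exact h4 h1

end Cfsg.Agent.KFacts.FiTF.OrbSys
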