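import Cfsg.Agent.KFacts.FiTF.Orb
import Cfsg.Agent.KFacts.FiTF.Frame

/-!
# `Fi24'`: the fields `OmTr`, `OmOther`, `OmCard`, `irr`, `line`, `lin` of `Frame` from `Sys`
-/

set_option autoImplicit false
set_option linter.unusedSectionVars false
set_option linter.constructorNameAsVariable false

namespace Cfsg.Agent.KFacts.FiTF.OrbSys

open Subgroup
open Cfsg.Agent.LargeExtra.Model Cfsg.Agent.LargeExtra.Pres Cfsg.Agent.KFacts.Codes
open Cfsg.Agent.KFacts.FiTF.Chain Cfsg.Agent.KFacts.FiTF.Lin Cfsg.Agent.KFacts.FiTF.Orb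
open Cfsg.Agent.Lib.PermNetOrbit

/-! ### `lin` -/

theorem lf_append (a : ℕ) : ∀ (l : List ℕ) (c : ℕ),
    lf (l ++ [a]) c = lf l c ^^^ (c / 2 ^ l.length % 2 * a) := by
  intro l
  induction l with
  | nil => intro c; simp [lf]
  | cons b l ih =>
    intro c
    show (c % 2 * b) ^^^ lf (l ++ [a]) (c / 2) = ((c % 2 * b) ^^^ lf l (c / 2)) ^^^ (c / 2 ^ (l.length + 1) % 2 * a)
    rw [ih, Nat.xor_assoc, Nat.div_div_eq_div_mul, pow_succ']

theorem lf_map_succ (I : ℕ → ℕ) (k c : ℕ) :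
    lf ((List.range (k + 1)).map I) c = lf ((List.range k).map I) c ^^^ (c / 2 ^ k % 2 * I k) := by
  rw [List.range_succ, List.map_append, List.map_cons, List.map_nil, lf_append, List.length_map,
    List.length_range]

theorem lf_lt {n : ℕ} : ∀ (l : List ℕ) (_ : ∀ a ∈ l, a < 2 ^ n) (c : ℕ), lf l c < 2 ^ n := by
  intro l
  induction l with
  | nil => intro _ c; exact Nat.two_pow_pos n
  | cons b l ih =>
    intro h c
    refine Nat.xor_lt_two_pow ?_ (ih (fun a ha => h a (List.mem_cons_of_mem _ ha)) _)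
    have h1 := h b List.mem_cons_self
    rcases Nat.mod_two_eq_zero_or_one c with h2 | h2
    · rw [h2, zero_mul]; exact Nat.two_pow_pos n
    · rw [h2, one_mul]; exact h1

theorem orb_spec {f : ℕ → ℕ → ℕ} {M : ℕ} {P : ℕ → Prop} (hf : ∀ k a, P a → P (f k a)) :
    ∀ (k N m : ℕ), orb f M k N m = true → (∀ b, m.testBit b = true → P b) →
      ∀ b, M.testBit b = true → P b := by
  intro k
  induction k with
  | zero =>
    intro N m h hm
    rw [← Nat.eq_of_beq_eq_true h]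
    exact hm
  | succ k ih =>
    intro N m h hm
    have h1 : (m.testBit (N % 4096) && orb f M k (N / 262144) (m ||| 2 ^ f (N / 4096 % 64) (N % 4096))) = true := h
    rw [Bool.and_eq_true] at h1
    refine ih _ _ h1.2 ?_
    intro b hb
    rw [Nat.testBit_or, Bool.or_eq_true] at hb
    rcases hb with hb | hb
    · exact hm b hb
    · rw [Nat.testBit_two_pow, decide_eq_true_eq] at hb
      rw [← hb]
      exact hf _ _ (hm _ h1.1)

section

variable {F : Type*} [Group F]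

/-- equal up to `z` -/
def Ez (z a b : F) : Prop := a = b ∨ a = z * b

variable {z : F}

theorem Ez.refl (a : F) : Ez z a a := Or.inl rfl

theorem Ez.symm (zz : z * z = 1) {a b : F} (h : Ez z a b) : Ez z b a := by
  rcases h with h | h
  · exact Or.inl h.symm
  · right; rw [h, ← mul_assoc, zz, one_mul]

theorem Ez.trans (zz : z * z = 1) {a b c : F} (h : Ez z a b) (h' : Ez z b c) : Ez z a c := by
  rcases h with h | h <;> rcases h' with h' | h'
  · left; rw [h, h']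
  · right; rw [h, h']
  · right; rw [h, h']
  · left; rw [h, h', ← mul_assoc, zz, one_mul]

theorem Ez.mul (zz : z * z = 1) {a b c d : F} (h : Ez z a b) (h' : Ez z c d) (hb : b * z = z * b) :
    Ez z (a * c) (b * d) := by
  rcases h with h | h <;> rcases h' with h' | h'
  · left; rw [h, h']
  · right; rw [h, h', ← mul_assoc, hb, mul_assoc]
  · right; rw [h, h', mul_assoc]
  · left; rw [h, h', mul_assoc, ← mul_assoc b, hb, mul_assoc, ← mul_assoc z z, zz, one_mul]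

theorem Ez.conj {u a b : F} (hu : u * z = z * u) (h : Ez z a b) : Ez z (u * a * u⁻¹) (u * b * u⁻¹) := by
  rcases h with h | h
  · left; rw [h]
  · right; rw [h, ← mul_assoc u, hu]; group

end

section

variable {K : Type*} [Group K] {B : ℕ → ℕ} {n : ℕ} {z : K} {x : ℕ → K}

theorem cod_comm_z (h : Rels B n z x) (c : ℕ) : cod n z x c * z = z * cod n z x c := by
  rw [cod, mul_assoc, h.prd_comm (le_refl n), ← mul_assoc, ← mul_assoc, ← zp_comm rfl]

theorem ez_flag (h : Rels B n z x) (d : ℕ) (b : Bool) :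
    Ez z (cod n z x (d ^^^ (if b = true then 2 ^ n else 0))) (cod n z x d) := by
  rw [cod_xor_flag h]
  cases b
  · left; simp [zp]
  · right; simp [zp]

theorem ez_mul (h : Rels B n z x) (hB : Tri B n) (c d : ℕ) :
    Ez z (cod n z x c * cod n z x d) (cod n z x (c ^^^ d)) := by
  rw [cod_mul h hB, mulc]
  exact ez_flag h _ _

theorem ez_mod (c : ℕ) : Ez z (cod n z x c) (cod n z x (c % 2 ^ n)) := by
  have h1 : prd x n c = prd x n (c % 2 ^ n) := by
    apply prd_congr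
    intro i hi
    rw [Nat.testBit_mod_two_pow, decide_eq_true hi, Bool.true_and]
  have h2 : (c % 2 ^ n).testBit n = false := Nat.testBit_lt_two_pow (Nat.mod_lt _ (Nat.two_pow_pos n))
  rw [cod, cod, h2, ← h1]
  cases c.testBit n
  · left; rfl
  · right; simp [zp]

/-- conjugation on codes modulo `z` -/
theorem conj_lin (h : Rels B n z x) (hB : Tri B n) {u : K} (hu : u * z = z * u) {I : ℕ → ℕ}
    (hI : ∀ i < n, u * x i * u⁻¹ = cod n z x (I i)) (c : ℕ) :
    Ez z (u * cod n z x c * u⁻¹) (cod n z x (lf ((List.range n).map fun i => I i % 2 ^ n) c)) := by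
  have h1 : ∀ k ≤ n, Ez z (u * prd x k c * u⁻¹)
      (cod n z x (lf ((List.range k).map fun i => I i % 2 ^ n) c)) := by
    intro k
    induction k with
    | zero =>
      intro _
      left
      show u * 1 * u⁻¹ = cod n z x 0
      rw [cod_zero]; group
    | succ k ih =>
      intro hk
      rw [lf_map_succ]
      have h2 : u * prd x (k + 1) c * u⁻¹ = (u * prd x k c * u⁻¹) * (u * zp (x k) (c.testBit k) * u⁻¹) := by
        show u * (prd x k c * zp (x k) (c.testBit k)) * u⁻¹ = _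
        group
      rw [h2]
      have h3 : Ez z (u * zp (x k) (c.testBit k) * u⁻¹) (cod n z x (c / 2 ^ k % 2 * (I k % 2 ^ n))) := by
        have h4 : (c.testBit k) = decide (c / 2 ^ k % 2 = 1) := by
          rw [Nat.testBit_eq_decide_div_mod_eq]
        rcases Nat.mod_two_eq_zero_or_one (c / 2 ^ k) with h5 | h5
        · rw [h4, h5, zero_mul, cod_zero]
          left
          simp [zp]
        · rw [h4, h5, one_mul]
          have h6 : u * zp (x k) (decide (1 = 1)) * u⁻¹ = cod n z x (I k) := by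
            rw [← hI k hk]; simp [zp]
          rw [h6]
          exact ez_mod _
      exact ((ih (by omega)).mul h.zz h3 (cod_comm_z h _)).trans h.zz (ez_mul h hB _ _)
  have h2 : u * cod n z x c * u⁻¹ = zp z (c.testBit n) * (u * prd x n c * u⁻¹) := by
    rw [cod]
    have h3 : u * zp z (c.testBit n) = zp z (c.testBit n) * u := zp_comm hu _
    calc u * (zp z (c.testBit n) * prd x n c) * u⁻¹ = u * zp z (c.testBit n) * prd x n c * u⁻¹ := by group
      _ = _ := by rw [h3]; group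
  have h3 : Ez z (u * cod n z x c * u⁻¹) (u * prd x n c * u⁻¹) := by
    rw [h2]
    cases c.testBit n
    · left; simp [zp]
    · right; simp [zp]
  exact h3.trans h.zz (h1 n (le_refl n))

end

theorem testBit_full {m c : ℕ} (h1 : c < m) (h2 : c ≠ 0) : (2 ^ m - 2).testBit c = true := by
  have h3 : 2 ^ m - 2 = 2 ^ m - (1 + 1) := rfl
  rw [h3, Nat.testBit_two_pow_sub_succ (Nat.one_lt_two_pow (by omega)), Bool.and_eq_true, decide_eq_true_eq]
  refine ⟨h1, ?_⟩
  rw [show (1 : ℕ) = 2 ^ 0 from rfl, Nat.testBit_two_pow, decide_eq_false (Ne.symm h2)]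
  rfl

theorem ff_lt (k c : ℕ) : ff k c < 4096 :=
  lf_lt (n := 12) _ (YL_lt _ (Nat.mod_lt _ (by norm_num))) _

theorem xor_lt_four {a b : ℕ} (ha : a < 4) (hb : b < 4) : a ^^^ b < 4 :=
  Nat.xor_lt_two_pow (n := 2) ha hb

theorem genOk_spec {M : ℕ} {l : List ℕ} (hl : genOk M l = true) :
    ∀ i < 12, M.testBit (l.getD i 0) = true ∧ M.testBit (l.getD i 0 ^^^ 2 ^ i) = true := by
  intro i hi
  have h1 := List.all_eq_true.1 hl i (List.mem_range.2 hi)
  rwa [Bool.and_eq_true] at h1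

/-! ### The system -/

/-- `y t` acts on `R = RG 12 z x` as `Om.Y t`; `E` contains the even products and `R`. -/
structure Sys {F : Type*} [Group F] (z : F) (x y : ℕ → F) (E : Subgroup F) : Prop where
  rel : Rels Om.B 12 z x
  z1 : z ≠ 1
  yz : ∀ t < 6, y t * z = z * y t
  yx : ∀ t < 6, ∀ i < 12, y t * x i * (y t)⁻¹ = cod 12 z x (Om.Y t i)
  yE : ∀ s < 6, ∀ t < 6, y s * y t ∈ E
  RE : RG 12 z x ≤ E
  Ez : ∀ g ∈ E, g * z = z * g

theorem YL_eq : ∀ t < 6, (List.range 12).map (fun i => Om.Y t i % 2 ^ 12) = YL t := by decide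


section

variable {F : Type*} [Group F] {z : F} {x y : ℕ → F} {E : Subgroup F} (h : Sys z x y E)
include h

theorem Sys.dt : Dt Om.B 12 z x := ⟨h.rel, Om.tri, Om.nondeg, h.z1⟩

theorem Sys.zz : z * z = 1 := h.rel.zz

theorem Sys.y1 {t : ℕ} (ht : t < 6) (c : ℕ) :
    OrbSys.Ez z (y t * cod 12 z x c * (y t)⁻¹) (cod 12 z x (lf (YL t) c)) := by
  have h1 := conj_lin h.rel Om.tri (h.yz t ht) (h.yx t ht) c
  rwa [YL_eq t ht] at h1

/-- the `k`-th even product -/
theorem Sys.ffk (k : ℕ) (c : ℕ) :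
    OrbSys.Ez z ((y (k / 6 % 6) * y (k % 6)) * cod 12 z x c * (y (k / 6 % 6) * y (k % 6))⁻¹)
      (cod 12 z x (ff k c)) := by
  have h1 := h.y1 (Nat.mod_lt k (by norm_num)) c
  have h2 := h.y1 (Nat.mod_lt (k / 6) (by norm_num)) (lf (YL (k % 6)) c)
  have h3 := (h1.conj (h.yz _ (Nat.mod_lt (k / 6) (by norm_num)))).trans h.zz h2
  have h4 : (y (k / 6 % 6) * y (k % 6)) * cod 12 z x c * (y (k / 6 % 6) * y (k % 6))⁻¹ =
      y (k / 6 % 6) * (y (k % 6) * cod 12 z x c * (y (k % 6))⁻¹) * (y (k / 6 % 6))⁻¹ := by group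
  rw [h4]
  exact h3

theorem Sys.kE (k : ℕ) : y (k / 6 % 6) * y (k % 6) ∈ E :=
  h.yE _ (Nat.mod_lt _ (by norm_num)) _ (Nat.mod_lt _ (by norm_num))

/-- the orbit of `r` -/
theorem Sys.reach {M k N r : ℕ} (ho : orb ff M k N (2 ^ r) = true) :
    ∀ b, M.testBit b = true → ∃ g ∈ E, OrbSys.Ez z (g * cod 12 z x r * g⁻¹) (cod 12 z x b) := by
  refine orb_spec (P := fun b => ∃ g ∈ E, OrbSys.Ez z (g * cod 12 z x r * g⁻¹) (cod 12 z x b)) ?_ k N _ ho ?_
  · rintro k a ⟨g, hg, h1⟩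
    refine ⟨_, E.mul_mem (h.kE k) hg, ?_⟩
    have h2 := (h1.conj (h.Ez _ (h.kE k))).trans h.zz (h.ffk k a)
    have h3 : (y (k / 6 % 6) * y (k % 6) * g) * cod 12 z x r * (y (k / 6 % 6) * y (k % 6) * g)⁻¹ =
        (y (k / 6 % 6) * y (k % 6)) * (g * cod 12 z x r * g⁻¹) * (y (k / 6 % 6) * y (k % 6))⁻¹ := by group
    rw [h3]
    exact h2
  · intro b hb
    rw [Nat.testBit_two_pow, decide_eq_true_eq] at hb
    subst hb
    exact ⟨1, E.one_mem, by left; group⟩

/-- transitivity modulo `z` -/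
theorem Sys.trans' {M k N r : ℕ} (ho : orb ff M k N (2 ^ r) = true) {a b : ℕ}
    (ha : M.testBit a = true) (hb : M.testBit b = true) :
    ∃ g ∈ E, OrbSys.Ez z (g * cod 12 z x a * g⁻¹) (cod 12 z x b) := by
  obtain ⟨g, hg, h1⟩ := h.reach ho a ha
  obtain ⟨g', hg', h2⟩ := h.reach ho b hb
  refine ⟨g' * g⁻¹, E.mul_mem hg' (E.inv_mem hg), ?_⟩
  have h3 := (h1.symm h.zz).conj (h.Ez _ (E.mul_mem hg' (E.inv_mem hg)))
  have h4 : g' * g⁻¹ * (g * cod 12 z x r * g⁻¹) * (g' * g⁻¹)⁻¹ = g' * cod 12 z x r * g'⁻¹ := by group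
  rw [h4] at h3
  exact h3.trans h.zz h2

theorem Sys.om_code {a : F} (ha : a ∈ OmSet 12 Om.OM z x) :
    ∃ c, Om.OM.testBit c = true ∧ OrbSys.Ez z a (cod 12 z x c) := by
  obtain ⟨c, hc, h1, rfl⟩ := ha
  exact ⟨_, h1, ez_mod c⟩

theorem Sys.omTr : ∀ a ∈ OmSet 12 Om.OM z x, ∀ b ∈ OmSet 12 Om.OM z x,
    ∃ g ∈ E, g * a * g⁻¹ = b ∨ g * a * g⁻¹ = b * z := by
  intro a ha b hb
  obtain ⟨c, hc, h1⟩ := h.om_code ha
  obtain ⟨d, hd, h2⟩ := h.om_code hb
  obtain ⟨g, hg, h3⟩ := h.trans' orb1 hc hd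
  refine ⟨g, hg, ?_⟩
  have h4 : OrbSys.Ez z (g * a * g⁻¹) b :=
    ((h1.conj (h.Ez g hg)).trans h.zz h3).trans h.zz (h2.symm h.zz)
  rcases h4 with h4 | h4
  · exact Or.inl h4
  · right
    rw [h4]
    obtain ⟨c, -, -, rfl⟩ := hb
    exact (cod_comm_z h.rel c).symm

/-- every noncentral element has a code in one of the three masks -/
theorem Sys.cases {a : F} (ha : a ∈ RG 12 z x) (h1 : a ≠ 1) (hz : a ≠ z) :
    ∃ c < 4096, OrbSys.Ez z a (cod 12 z x c) ∧ (Om.OM.testBit c = true ∨ M2.testBit c = true ∨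
      M3.testBit c = true) := by
  obtain ⟨c, hc, rfl⟩ := (mem_RG h.rel Om.tri).1 ha
  refine ⟨c % 2 ^ 12, Nat.mod_lt _ (by norm_num), ez_mod c, ?_⟩
  have h2 : c % 2 ^ 12 ≠ 0 := by
    intro h3
    have h4 := ez_mod (z := z) (x := x) (n := 12) c
    rw [h3, cod_zero] at h4
    rcases h4 with h4 | h4
    · exact h1 h4
    · exact hz (by rw [h4, mul_one])
  have h3 : (2 ^ 4096 - 2 : ℕ).testBit (c % 2 ^ 12) = true :=
    testBit_full (Nat.mod_lt _ (by norm_num)) h2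
  rw [← cover, Nat.testBit_or, Nat.testBit_or, Bool.or_eq_true, Bool.or_eq_true] at h3
  tauto

theorem Sys.pi_of {a : F} {c : ℕ} (hc : c < 4096) (h1 : OrbSys.Ez z a (cod 12 z x c)) : Lin.pi 12 z x a = c := by
  rcases h1 with h1 | h1
  · rw [h1, h.dt.pi_cod hc]
  · rw [h1, h.dt.pi_mul h.dt.z_mem (cod_mem _), h.dt.pi_z, Nat.zero_xor, h.dt.pi_cod hc]

/-- long orbits -/
theorem Sys.other [Finite F] {M k N r : ℕ} (ho : orb ff M k N (2 ^ r) = true) (hM : M < 2 ^ 2 ^ 12)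
    (hp : 756 < pc 12 M) {a : F} {c : ℕ} (hac : OrbSys.Ez z a (cod 12 z x c)) (hc : M.testBit c = true) :
    756 < {b : F | ∃ g ∈ E, g * a * g⁻¹ = b}.ncard := by
  classical
  rw [pc_eq _ _ hM] at hp
  have h1 : ∀ b ∈ bits (2 ^ 12) M, ∃ g ∈ E, OrbSys.Ez z (g * a * g⁻¹) (cod 12 z x b) := by
    intro b hb
    obtain ⟨g, hg, h2⟩ := h.trans' ho hc (mem_bits.1 hb).2
    exact ⟨g, hg, (hac.conj (h.Ez g hg)).trans h.zz h2⟩
  choose! u hu hu' using h1
  have hinj : Set.InjOn (fun b => u b * a * (u b)⁻¹) (bits (2 ^ 12) M : Set ℕ) := by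
    intro b hb b' hb' he
    have h2 := h.pi_of (mem_bits.1 hb).1 (hu' b hb)
    have h3 := h.pi_of (mem_bits.1 hb').1 (hu' b' hb')
    have he' : u b * a * (u b)⁻¹ = u b' * a * (u b')⁻¹ := he
    rw [← h2, ← h3, he']
  have h2 : ((bits (2 ^ 12) M).image fun b => u b * a * (u b)⁻¹ : Finset F).card = (bits (2 ^ 12) M).card :=
    Finset.card_image_of_injOn hinj
  rw [← h2, ← Set.ncard_coe_finset] at hp
  refine lt_of_lt_of_le hp (Set.ncard_le_ncard ?_ (Set.toFinite _))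
  intro b hb
  rw [Finset.mem_coe, Finset.mem_image] at hb
  obtain ⟨d, hd, rfl⟩ := hb
  exact ⟨_, hu d hd, rfl⟩

theorem Sys.omOther [Finite F] : ∀ a ∈ RG 12 z x, a ≠ 1 → a ≠ z → a ∉ OmSet 12 Om.OM z x →
    756 < {b : F | ∃ g ∈ E, g * a * g⁻¹ = b}.ncard := by
  intro a ha h1 hz hO
  obtain ⟨c, hc, hac, h2⟩ := h.cases ha h1 hz
  rcases h2 with h2 | h2 | h2
  · exfalso
    apply hO
    rw [h.dt.mem_Om ha, h.pi_of hc hac]
    exact h2
  · exact h.other orb2 lt2 pc2 hac h2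
  · exact h.other orb3 lt3 pc3 hac h2

theorem Sys.omR : OmSet 12 Om.OM z x ⊆ RG 12 z x := by
  rintro a ⟨c, -, -, rfl⟩
  exact cod_mem c

theorem Sys.omCard : (OmSet 12 Om.OM z x).ncard = 756 := by
  classical
  have h1 : OmSet 12 Om.OM z x =
      (((bits (2 ^ 12) Om.OM ×ˢ Finset.range 2).image fun p : ℕ × ℕ => cod 12 z x (p.1 + 4096 * p.2) : Finset F) : Set F) := by
    ext a
    simp only [OmSet, Set.mem_ofPred_eq, Finset.coe_image, Set.mem_image, Finset.mem_coe, Finset.mem_product,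
      mem_bits, Finset.mem_range, Prod.exists]
    constructor
    · rintro ⟨c, hc, h2, rfl⟩
      refine ⟨c % 2 ^ 12, c / 4096, ⟨⟨Nat.mod_lt _ (by norm_num), h2⟩, ?_⟩, ?_⟩
      · norm_num at hc
        omega
      · congr 1
        norm_num
        omega
    · rintro ⟨b, e, ⟨⟨hb, hb'⟩, he⟩, rfl⟩
      norm_num at hb
      refine ⟨b + 4096 * e, ?_, ?_, rfl⟩
      · norm_num
        omega
      · have h3 : (b + 4096 * e) % 2 ^ 12 = b := by norm_num; omega
        rw [h3]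
        exact hb'
  rw [h1, Set.ncard_coe_finset, Finset.card_image_of_injOn, Finset.card_product, Finset.card_range,
    ← pc_eq 12 _ lt1, pc1]
  rintro ⟨b, e⟩ hp ⟨b', e'⟩ hp' he
  simp only [Finset.coe_product, Set.mem_prod, Finset.mem_coe, mem_bits, Finset.mem_range] at hp hp'
  have h2 := cod_injOn h.rel Om.tri Om.nondeg h.z1 (c := b + 4096 * e) (d := b' + 4096 * e')
    (by norm_num; norm_num at hp; omega) (by norm_num; norm_num at hp'; omega) he
  norm_num at hp hp'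
  rw [Prod.mk.injEq]
  omega

/-- the subgroup contains a generating orbit -/
theorem Sys.gen {M k N r : ℕ} (ho : orb ff M k N (2 ^ r) = true) {l : List ℕ} (hl : genOk M l = true)
    {T : Subgroup F} (hT : ∀ g ∈ E, ∀ b ∈ T, g * b * g⁻¹ ∈ T) (hz : z ∈ T) {c : ℕ} (hc : M.testBit c = true)
    (hcT : cod 12 z x c ∈ T) : RG 12 z x ≤ T := by
  have hez : ∀ a b : F, OrbSys.Ez z a b → a ∈ T → b ∈ T := by
    intro a b hab ha
    rcases hab.symm h.zz with h1 | h1
    · rw [h1]; exact ha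
    · rw [h1]; exact T.mul_mem hz ha
  have h1 : ∀ b, M.testBit b = true → cod 12 z x b ∈ T := by
    intro b hb
    obtain ⟨g, hg, h2⟩ := h.trans' ho hc hb
    exact hez _ _ h2 (hT g hg _ hcT)
  rw [RG, Subgroup.closure_le]
  rintro g (rfl | ⟨i, hi, rfl⟩)
  · exact hz
  · obtain ⟨h2, h3⟩ := genOk_spec hl i hi
    have h4 := ez_mul h.rel Om.tri (l.getD i 0) (l.getD i 0 ^^^ 2 ^ i)
    rw [← Nat.xor_assoc, Nat.xor_self, Nat.zero_xor, cod_pow hi] at h4
    exact hez _ _ h4 (T.mul_mem (h1 _ h2) (h1 _ h3))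

theorem Sys.irr : ∀ T : Subgroup F, T ≤ RG 12 z x → (∀ g ∈ E, ∀ b ∈ T, g * b * g⁻¹ ∈ T) →
    (∀ b ∈ T, b = 1 ∨ b = z) ∨ T = RG 12 z x := by
  intro T hTR hT
  by_cases h1 : ∀ b ∈ T, b = 1 ∨ b = z
  · exact Or.inl h1
  right
  refine le_antisymm hTR ?_
  push Not at h1
  obtain ⟨b, hb, hb1, hbz⟩ := h1
  have hz : z ∈ T := by
    by_contra hz
    have h2 : ∀ u ∈ RG 12 z x, u * b = b * u := by
      intro u hu
      rcases RG_comm h.rel Om.tri hu (hTR hb) with h3 | h3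
      · exact h3
      · exfalso
        apply hz
        have h4 := hT u (h.RE hu) b hb
        rw [h3] at h4
        have h5 : z * (b * u) * u⁻¹ = z * b := by group
        rw [h5] at h4
        have h6 := T.mul_mem h4 (T.inv_mem hb)
        rwa [mul_inv_cancel_right] at h6
    rcases RG_center h.rel Om.tri Om.nondeg h.z1 (hTR hb) h2 with h3 | h3
    · exact hb1 h3
    · exact hbz h3
  obtain ⟨c, hc, hbc, h2⟩ := h.cases (hTR hb) hb1 hbz
  have hcT : cod 12 z x c ∈ T := by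
    rcases hbc.symm h.zz with h3 | h3
    · rw [h3]; exact hb
    · rw [h3]; exact T.mul_mem hz hb
  rcases h2 with h2 | h2 | h2
  · exact h.gen orb1 gen1 hT hz h2 hcT
  · exact h.gen orb2 gen2 hT hz h2 hcT
  · exact h.gen orb3 gen3 hT hz h2 hcT

/-- the line -/
def Sys.lineT : Subgroup F where
  carrier := {g | g ∈ RG 12 z x ∧ Lin.pi 12 z x g < 4}
  one_mem' := by
    refine ⟨Subgroup.one_mem _, ?_⟩
    rw [h.pi_of (c := 0) (by norm_num) (Or.inl cod_zero.symm)]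
    norm_num
  mul_mem' := by
    rintro a b ⟨ha, ha'⟩ ⟨hb, hb'⟩
    exact ⟨Subgroup.mul_mem _ ha hb, by rw [h.dt.pi_mul ha hb]; exact xor_lt_four ha' hb'⟩
  inv_mem' := by
    rintro a ⟨ha, ha'⟩
    refine ⟨Subgroup.inv_mem _ ha, ?_⟩
    have h1 := h.dt.pi_mul ha (Subgroup.inv_mem _ ha)
    rw [mul_inv_cancel, h.pi_of (c := 0) (by norm_num) (Or.inl cod_zero.symm)] at h1
    have h2 : Lin.pi 12 z x a⁻¹ = Lin.pi 12 z x a := (Nat.xor_eq_zero_iff.1 h1.symm).symm
    rw [h2]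
    exact ha'

theorem Sys.ez_pi {a : F} (ha : a ∈ RG 12 z x) : OrbSys.Ez z a (cod 12 z x (Lin.pi 12 z x a)) := by
  rcases h.dt.eq_cod ha with h1 | h1
  · exact Or.inl h1
  · exact Or.inr h1

theorem Sys.card_lineT : Nat.card h.lineT = 8 := by
  classical
  have h1 : (h.lineT : Set F) = ((([0, 1, 2, 3, 4096, 4097, 4098, 4099] : List ℕ).toFinset.image (cod 12 z x) : Finset F) : Set F) := by
    ext a
    rw [Finset.coe_image, Set.mem_image]
    constructor
    · rintro ⟨ha, ha'⟩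
      obtain ⟨c, hc, rfl⟩ := (mem_RG h.rel Om.tri).1 ha
      refine ⟨c, ?_, rfl⟩
      rw [Lin.pi, h.dt.code_cod hc] at ha'
      norm_num at hc ha'
      simp only [List.coe_toFinset, List.mem_cons, List.not_mem_nil, or_false, Set.mem_ofPred_eq]
      omega
    · rintro ⟨c, hc, rfl⟩
      simp only [List.coe_toFinset, List.mem_cons, List.not_mem_nil, or_false, Set.mem_ofPred_eq] at hc
      refine ⟨cod_mem c, ?_⟩
      rw [Lin.pi, h.dt.code_cod (by norm_num; omega)]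
      norm_num
      omega
  have h2 : Nat.card h.lineT = (h.lineT : Set F).ncard := rfl
  rw [h2, h1, Set.ncard_coe_finset, Finset.card_image_of_injOn]
  · decide
  · intro c hc d hd he
    simp only [List.coe_toFinset, List.mem_cons, List.not_mem_nil, or_false, Set.mem_ofPred_eq] at hc hd
    exact cod_injOn h.rel Om.tri Om.nondeg h.z1 (by norm_num; omega) (by norm_num; omega) he

theorem Sys.line : ∃ (D : Set F) (T : Subgroup F), D ⊆ E ∧ z ∈ T ∧ T ≤ RG 12 z x ∧ Nat.card T = 8 ∧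
    (∀ d ∈ D, ∀ t ∈ T, d * t * d⁻¹ = t ∨ d * t * d⁻¹ = t * z) ∧
    ∀ u ∈ RG 12 z x, (∀ d ∈ D, d * u * d⁻¹ = u ∨ d * u * d⁻¹ = u * z) → u ∈ T := by
  have hcz : ∀ a ∈ RG 12 z x, a * z = z * a := by
    intro a ha
    obtain ⟨c, hc, rfl⟩ := (mem_RG h.rel Om.tri).1 ha
    exact cod_comm_z h.rel c
  refine ⟨{g | ∃ k ∈ ([23, 4, 20] : List ℕ), y (k / 6 % 6) * y (k % 6) = g}, h.lineT, ?_, ?_, fun _ hg => hg.1,
    h.card_lineT, ?_, ?_⟩
  · rintro g ⟨k, -, rfl⟩
    exact h.kE k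
  · refine ⟨h.dt.z_mem, ?_⟩
    rw [h.dt.pi_z]
    norm_num
  · rintro g ⟨k, hk, rfl⟩ t ⟨ht, ht'⟩
    have h1 := h.ez_pi ht
    have h2 := (h1.conj (h.Ez _ (h.kE k))).trans h.zz (h.ffk k _)
    rw [line_fix k hk _ ht'] at h2
    rcases h2.trans h.zz (h1.symm h.zz) with h3 | h3
    · exact Or.inl h3
    · exact Or.inr (by rw [h3, hcz t ht])
  · intro u hu hd
    refine ⟨hu, ?_⟩
    apply line_only (h.dt.pi_lt u)
    intro k hk
    have h1 := h.ez_pi hu
    have h2 := (h1.conj (h.Ez _ (h.kE k))).trans h.zz (h.ffk k _)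
    have h3 : OrbSys.Ez z (y (k / 6 % 6) * y (k % 6) * u * (y (k / 6 % 6) * y (k % 6))⁻¹) u := by
      rcases hd _ ⟨k, hk, rfl⟩ with h4 | h4
      · exact Or.inl h4
      · exact Or.inr (by rw [h4, hcz u hu])
    have h4 := (h3.symm h.zz).trans h.zz h2
    exact (h.pi_of (ff_lt k _) h4).symm

/-- **The linear lemma.** -/
theorem Sys.lin [Finite F]
    (norm : ∀ g : F, g * z = z * g → ∀ r ∈ RG 12 z x, g * r * g⁻¹ ∈ RG 12 z x)
    (cent : ∀ g : F, (∀ r ∈ RG 12 z x, g * r = r * g) → g = 1 ∨ g = z)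
    (omC : ∀ g : F, g * z = z * g → ∀ a ∈ OmSet 12 Om.OM z x, g * a * g⁻¹ ∈ OmSet 12 Om.OM z x)
    (card : 170633723904 < Nat.card (centralizer ({z} : Set F)))
    (zR : z ∈ RG 12 z x) (f : MulAut (RG 12 z x)) (hf : (f ⟨z, zR⟩ : F) = z)
    (hO : ∀ r : RG 12 z x, (r : F) ∈ OmSet 12 Om.OM z x → (f r : F) ∈ OmSet 12 Om.OM z x) :
    ∃ g : F, g * z = z * g ∧ ∀ r : RG 12 z x, (f r : F) = g * r * g⁻¹ := by
  refine h.dt.lin (v := vb) vb_lt vb_gen norm cent omC ?_ zR f hf hO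
  refine lt_of_eq_of_lt ?_ card
  simp only [Finset.prod_range_succ, Finset.prod_range_zero, num0, num1, num2, num3, num4, num5, num6, num7,
    num8, num9, num10, num11]
  norm_num

/-- **The frame from the system.** -/
theorem Sys.frame [Finite F] {K : Subgroup F} (nK : K.Normal) (two : K.index = 2) (EK : E ≤ K)
    (norm : ∀ g : F, g * z = z * g → ∀ r ∈ RG 12 z x, g * r * g⁻¹ ∈ RG 12 z x)
    (cent : ∀ g : F, (∀ r ∈ RG 12 z x, g * r = r * g) → g = 1 ∨ g = z)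
    (odd : Odd (centralizer ({z} : Set F)).index)
    (perf : ⁅E, E⁆ = E)
    (omC : ∀ g : F, g * z = z * g → ∀ a ∈ OmSet 12 Om.OM z x, g * a * g⁻¹ ∈ OmSet 12 Om.OM z x)
    (card : 170633723904 < Nat.card (centralizer ({z} : Set F)))
    (fix : ∀ α : MulAut K, (∀ x : K, (x : F) ∈ E → α x = x) → α = 1 ∨ ∀ x : K, (α x : F) = z * x * z)
    (yt : ∃ k ∈ K, ∃ t : F, t ∉ K ∧ t * z = z * t ∧ t * (k⁻¹ * z * k) = k⁻¹ * z * k * t ∧
      k⁻¹ * z * k ∈ E ∧ k * z * k⁻¹ ∈ E ∧ k * z * k⁻¹ ∉ RG 12 z x) :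
    Frame K z (RG 12 z x) E (OmSet 12 Om.OM z x) where
  nK := nK
  two := two
  zz := h.zz
  z1 := h.z1
  zR := h.dt.z_mem
  RE := h.RE
  EK := EK
  Ez := h.Ez
  sq := fun _ hr => RG_sq h.rel Om.tri hr
  com := fun _ hr _ hs => RG_comm h.rel Om.tri hr hs
  ctr := fun _ hr hs => RG_center h.rel Om.tri Om.nondeg h.z1 hr hs
  cardR := card_RG h.rel Om.tri Om.nondeg h.z1
  norm := norm
  cent := cent
  odd := odd
  perf := perf
  OmR := h.omR
  OmC := omC
  OmCard := h.omCard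
  OmTr := h.omTr
  OmOther := h.omOther
  irr := h.irr
  lin := fun f hf hO => h.lin norm cent omC card h.dt.z_mem f hf hO
  line := h.line
  fix := fix
  yt := yt

end

end Cfsg.Agent.KFacts.FiTF.OrbSys
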