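import Cfsg.Agent.Lib.PermNetPt
import Cfsg.Agent.R08.FiTwentyFour
import Cfsg.Agent.KFacts.FiTF.Defs

/-!
# `Fi24`: transpositions and points

`IsPt d p`: the transposition `d` has the point `p` (position in the numbering of `Fischer.Fi24RepDef`).
`IsPt.comm_iff`: `g` commutes with `d` iff `rho g` fixes `p`.
-/

set_option autoImplicit false
set_option maxRecDepth 100000

namespace Cfsg.Agent.KFacts.FiTF.Pts

open Cfsg Cfsg.Spor Cfsg.Spor.Fi24
open Cfsg.Agent.Lib.PermNet Cfsg.Agent.Lib.PermNetPt Cfsg.Agent.Fischer.Fi24RepDef Cfsg.Agent.Fischer.Fi24Rep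
open Cfsg.Agent.Fischer.Fi24RepOrb (H)
open Cfsg.Agent.Fischer.Fi24Final (gen_sq)
open Cfsg.Agent.Fischer.Fi24Spider
open Cfsg.Agent.R08.FiTwentyFour (L)
open Cfsg.Agent.KFacts.FiTF.Defs (tr)

theorem hst : ∀ g, rho g 0 = 0 ↔ g ∈ H :=
  (Cfsg.Agent.Fischer.Fi24RepOrb.index_and_suborbits Cfsg.Agent.Fischer.Fi24Index.index_le.2
    Cfsg.Agent.Fischer.Fi24Index.index_le.1).2.1

theorem word_reverse (l : List Gen) : word l.reverse = (word l)⁻¹ := by
  induction l with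
  | nil => rw [List.reverse_nil, word_nil, inv_one]
  | cons x l ih =>
    rw [List.reverse_cons, word_append, ih, word_cons, word_cons, word_nil, mul_one, mul_inv_rev]
    congr 1
    exact (inv_eq_of_mul_eq_one_left (gen_sq x)).symm

/-- evaluation of a word at a point (kernel) -/
theorem rho_of_chkPt {u : List Gen} {a b : ℕ} (h : chkPt (nw u false) a b = true) : rho (word u) a = b := by
  rw [rho_word]
  exact chkPt_spec (wok u false) h

/-- `p` is the point of the transposition `d` -/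
def IsPt (d : Spor.Fi24) (p : ℕ) : Prop := ∃ g : Spor.Fi24, rho g 0 = p ∧ g * gen .l * g⁻¹ = d

theorem exists_pt {d : Spor.Fi24} (hd : d ∈ L) : ∃ p, IsPt d p := by
  obtain ⟨g, hg⟩ := isConj_iff.1 (show IsConj (gen .l) d from hd)
  exact ⟨_, g, rfl, hg⟩

theorem gen_l_mem : gen .l ∈ L := Cfsg.Agent.R08.FiTwentyFour.gen_mem_L .l

theorem mem_H_iff (g : Spor.Fi24) : g ∈ H ↔ g * gen .l = gen .l * g :=
  Cfsg.Agent.R08.FiTwentyFour.facts.mem_H_iff g

theorem fix_iff (g : Spor.Fi24) : rho g 0 = 0 ↔ g * gen .l = gen .l * g := (hst g).trans (mem_H_iff g)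

theorem IsPt.mem {d : Spor.Fi24} {p : ℕ} (h : IsPt d p) : d ∈ L := by
  obtain ⟨g, -, rfl⟩ := h
  exact Cfsg.Agent.R08.FiTwentyFour.conj_mem_L gen_l_mem g

theorem IsPt.conj {d : Spor.Fi24} {p : ℕ} (h : IsPt d p) (g : Spor.Fi24) : IsPt (g * d * g⁻¹) (rho g p) := by
  obtain ⟨k, rfl, rfl⟩ := h
  refine ⟨g * k, by rw [map_mul, Equiv.Perm.mul_apply], by group⟩

theorem IsPt.conj' {d : Spor.Fi24} {p q : ℕ} (h : IsPt d p) {g : Spor.Fi24} (hg : rho g p = q) :
    IsPt (g * d * g⁻¹) q := hg ▸ h.conj g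

theorem IsPt.inj {d d' : Spor.Fi24} {p : ℕ} (h : IsPt d p) (h' : IsPt d' p) : d = d' := by
  obtain ⟨g, hg, rfl⟩ := h
  obtain ⟨g', hg', rfl⟩ := h'
  exact conj_eq hst (hg.trans hg'.symm)

theorem IsPt.uniq {d : Spor.Fi24} {p q : ℕ} (h : IsPt d p) (h' : IsPt d q) : p = q := by
  obtain ⟨g, rfl, hd⟩ := h
  obtain ⟨g', rfl, hd'⟩ := h'
  rw [← hd'] at hd
  have h1 : (g'⁻¹ * g) * gen .l = gen .l * (g'⁻¹ * g) := by
    calc (g'⁻¹ * g) * gen .l = g'⁻¹ * (g * gen .l * g⁻¹) * g := by group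
      _ = g'⁻¹ * (g' * gen .l * g'⁻¹) * g := by rw [hd]
      _ = gen .l * (g'⁻¹ * g) := by group
  have h2 := (fix_iff _).2 h1
  rw [map_mul, Equiv.Perm.mul_apply, map_inv, Equiv.Perm.inv_eq_iff_eq] at h2
  exact h2

theorem IsPt.conj_eq {d d' : Spor.Fi24} {p q : ℕ} (h : IsPt d p) (h' : IsPt d' q) {g : Spor.Fi24}
    (hg : rho g p = q) : g * d * g⁻¹ = d' := (h.conj' hg).inj h'

theorem IsPt.rho_eq {d d' : Spor.Fi24} {p q : ℕ} (h : IsPt d p) (h' : IsPt d' q) {g : Spor.Fi24}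
    (hg : g * d * g⁻¹ = d') : rho g p = q := by
  subst hg
  exact (h.conj g).uniq h'

theorem IsPt.comm_iff {d : Spor.Fi24} {p : ℕ} (h : IsPt d p) (g : Spor.Fi24) :
    g * d = d * g ↔ rho g p = p := by
  rw [← mul_inv_eq_iff_eq_mul]
  exact ⟨fun hg => h.rho_eq h hg, fun hg => h.conj_eq h hg⟩

theorem tr_eq (u : List Gen) (x : Gen) : tr u x = word u * gen x * (word u)⁻¹ := by
  unfold tr
  rw [word_append, word_cons, word_reverse]
  group

theorem tr_mem (u : List Gen) (x : Gen) : tr u x ∈ L := by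
  rw [tr_eq]
  exact Cfsg.Agent.R08.FiTwentyFour.conj_mem_L (Cfsg.Agent.R08.FiTwentyFour.gen_mem_L x) _

/-- the point of a transposition given by a word -/
theorem IsPt.of_word {u : List Gen} {x : Gen} {p : ℕ} (h : chkPt (nw (u ++ gword x) false) 0 p = true) :
    IsPt (tr u x) p := by
  refine ⟨word (u ++ gword x), rho_of_chkPt h, ?_⟩
  rw [tr_eq, word_append]
  conv_rhs => rw [gen_conj x]
  group

/-- an element commuting with all the generators is `1` -/
theorem eq_one_of_comm {g : Spor.Fi24} (h : ∀ x : Gen, g * gen x = gen x * g) : g = 1 := by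
  have h1 : ∀ k : Spor.Fi24, k * g = g * k := by
    intro k
    have hk : k ∈ Subgroup.closure (Set.range gen) := by
      rw [Cfsg.Agent.Fischer.Fi24Final.gens_top]; exact Subgroup.mem_top k
    induction hk using Subgroup.closure_induction with
    | mem y hy => obtain ⟨x, rfl⟩ := hy; exact (h x).symm
    | one => rw [one_mul, mul_one]
    | mul a b _ _ ha hb => rw [mul_assoc, hb, ← mul_assoc, ha, mul_assoc]
    | inv a _ ha =>
      rw [inv_mul_eq_iff_eq_mul, ← mul_assoc, ha, mul_assoc, mul_inv_cancel, mul_one]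
  have F := Cfsg.Agent.R08.FiTwentyFour.facts
  refine Cfsg.Agent.Fischer.Fi24Final.eq_one_of_fixes F.hub F.hne F.hfin F.hH ?_
  intro q hq
  have hq' : q ∈ {p : ℕ | ∃ x, rho x 0 = p} := by
    rw [Cfsg.Agent.Fischer.Fi24RepOrb.orbG]; exact hq
  obtain ⟨k, rfl⟩ := hq'
  exact (IsPt.comm_iff ⟨k, rfl, rfl⟩ g).1 (h1 _).symm

/-- an element fixing the points of all the transpositions is `1` -/
theorem eq_one_of_comm_L {g : Spor.Fi24} (h : ∀ d ∈ L, g * d = d * g) : g = 1 :=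
  eq_one_of_comm fun x => h _ (Cfsg.Agent.R08.FiTwentyFour.gen_mem_L x)

end Cfsg.Agent.KFacts.FiTF.Pts
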