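import Cfsg.Agent.R08.TetThree

/-!
# `Fi24'`: normal subgroups of `E` between `R` and `E` (abstract part, helper528)

`F` a finite group, `L` a normal set of transpositions, `z` an involution, `Cz = C_L(z)` a union of tetrads,
`E` the even products. `dich_E`: from the dichotomy for the subgroups normalised by `⟨Cz⟩` to the one for the subgroups
normalised by `E`. `exists7`: an element of order 7 of `E` not central modulo `R`.
-/

set_option autoImplicit false

namespace Cfsg.Agent.KFacts.FiTF.QuasiB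

open Subgroup
open Cfsg.Agent.R08.TetBasic (Tr)
open Cfsg.Agent.R08.TetTwo (IsTet Mate)
open scoped commutatorElement

variable {F : Type*} [Group F]

/-- members of `L` commuting with `z` -/
def Cz (L : Set F) (z : F) : Set F := {d | d ∈ L ∧ d * z = z * d}

/-- every element maps every member of `Cz` into its tetrad -/
def Small (L : Set F) (z : F) (N : Subgroup F) : Prop :=
  ∀ m ∈ N, ∀ e ∈ Cz L z, m * e * m⁻¹ = e ∨ Mate L z e (m * e * m⁻¹)

structure Pre (L : Set F) (z : F) (E : Subgroup F) : Prop where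
  tr : Tr L
  EE : E = closure {g | ∃ e ∈ Cz L z, ∃ f ∈ Cz L z, e * f = g}

structure Hyp (L : Set F) (z : F) (R E : Subgroup F) : Prop extends Pre L z E where
  z1 : z ≠ 1
  zz : z * z = 1
  tet : ∀ e ∈ Cz L z, ∃ b c d, IsTet L z e b c d
  ne : (Cz L z).Nonempty
  RE : R ≤ E
  nR : ∀ g : F, g * z = z * g → ∀ r ∈ R, g * r * g⁻¹ ∈ R
  cent : ∀ g : F, (∀ r ∈ R, g * r = r * g) → g = 1 ∨ g = z
  s7 : 7 ∣ Nat.card E
  n49 : ¬ 49 ∣ Nat.card E
  perf : ⁅E, E⁆ = E
  R7 : ¬ 7 ∣ Nat.card R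
  dichW : ∀ M ≤ E, R ≤ M → (∀ w ∈ closure (Cz L z), ∀ m ∈ M, w * m * w⁻¹ ∈ M) → Small L z M ∨ M = E

variable {L : Set F} {z : F} {R E : Subgroup F}

theorem card_mul_relIndex {A B : Subgroup F} (hAB : A ≤ B) : Nat.card A * A.relIndex B = Nat.card B := by
  have h1 := relIndex_mul_relIndex ⊥ A B bot_le hAB
  rwa [relIndex_bot_left, relIndex_bot_left] at h1

theorem card_mul [Finite F] {E N M : Subgroup F} (hN : N ≤ E) (hM : M ≤ E)
    (hn : ∀ e ∈ E, ∀ n ∈ N, e * n * e⁻¹ ∈ N) (h : N ⊔ M = E) :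
    Nat.card E * Nat.card (N ⊓ M : Subgroup F) = Nat.card N * Nat.card M := by
  have hnor : (N.subgroupOf E).Normal := ⟨fun n hn' g => hn g g.2 n hn'⟩
  have h1 : (N.subgroupOf E).relIndex (N.subgroupOf E ⊔ M.subgroupOf E) =
      (N.subgroupOf E).relIndex (M.subgroupOf E) := relIndex_sup_left _ _
  rw [← subgroupOf_sup hN hM, h, subgroupOf_self, relIndex_top_right, relIndex_subgroupOf hM] at h1
  have h2 : N.relIndex E = N.relIndex M := h1
  have h3 : Nat.card N * N.relIndex E = Nat.card E := card_mul_relIndex hN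
  have h4 : Nat.card (N ⊓ M : Subgroup F) * N.relIndex M = Nat.card M := by
    rw [← inf_relIndex_right N M]; exact card_mul_relIndex inf_le_right
  rw [← h3, ← h4, h2]; ring

namespace Pre

variable (h : Pre L z E)
include h

theorem mul_mem_E {e f : F} (he : e ∈ Cz L z) (hf : f ∈ Cz L z) : e * f ∈ E := by
  rw [h.EE]; exact subset_closure ⟨e, he, f, hf, rfl⟩

theorem sq {l : F} (hl : l ∈ Cz L z) : l * l = 1 := h.tr.sq l hl.1

theorem linv {l : F} (hl : l ∈ Cz L z) : l⁻¹ = l := h.tr.inv hl.1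

theorem E_z {g : F} (hg : g ∈ E) : g * z = z * g := by
  rw [h.EE] at hg
  have h1 : closure {g | ∃ e ∈ Cz L z, ∃ f ∈ Cz L z, e * f = g} ≤ centralizer ({z} : Set F) := by
    rw [closure_le]
    rintro _ ⟨e, he, f, hf, rfl⟩
    exact mul_mem (mem_centralizer_singleton_iff.2 he.2) (mem_centralizer_singleton_iff.2 hf.2)
  exact mem_centralizer_singleton_iff.1 (h1 hg)

/-- `l` normalises `E` -/
theorem conj_E {l : F} (hl : l ∈ Cz L z) {g : F} (hg : g ∈ E) : l * g * l ∈ E := by
  have h1 : closure {g | ∃ e ∈ Cz L z, ∃ f ∈ Cz L z, e * f = g} ≤ E.comap (MulAut.conj l).toMonoidHom := by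
    rw [closure_le]
    rintro _ ⟨e, he, f, hf, rfl⟩
    show l * (e * f) * l⁻¹ ∈ E
    rw [h.linv hl]
    have e1 : l * (e * f) * l = (l * e) * (f * l) := by group
    rw [e1]
    exact mul_mem (h.mul_mem_E hl he) (h.mul_mem_E hf hl)
  have hg' : g ∈ closure {g | ∃ e ∈ Cz L z, ∃ f ∈ Cz L z, e * f = g} := by rw [← h.EE]; exact hg
  have h2 : l * g * l⁻¹ ∈ E := h1 hg'
  rwa [h.linv hl] at h2

/-- `⟨Cz⟩ = E ∪ E l` -/
theorem closure_cases {l : F} (hl : l ∈ Cz L z) {w : F} (hw : w ∈ closure (Cz L z)) : w ∈ E ∨ w * l ∈ E := by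
  have hll := h.sq hl
  induction hw using closure_induction with
  | mem w hw => exact Or.inr (h.mul_mem_E hw hl)
  | one => exact Or.inl E.one_mem
  | mul a b _ _ ha hb =>
    rcases ha with ha | ha <;> rcases hb with hb | hb
    · exact Or.inl (mul_mem ha hb)
    · right; rw [mul_assoc]; exact mul_mem ha hb
    · right
      have e1 : a * b * l = (a * l) * (l * b * l) := by
        calc a * b * l = a * 1 * b * l := by group
          _ = (a * l) * (l * b * l) := by rw [← hll]; group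
      rw [e1]; exact mul_mem ha (h.conj_E hl hb)
    · left
      have e1 : a * b = (a * l) * (l * (b * l) * l) := by
        calc a * b = a * 1 * b * 1 := by group
          _ = a * (l * l) * b * (l * l) := by rw [hll]
          _ = (a * l) * (l * (b * l) * l) := by group
      rw [e1]; exact mul_mem ha (h.conj_E hl hb)
  | inv a _ ha =>
    rcases ha with ha | ha
    · exact Or.inl (inv_mem ha)
    · right
      have e1 : a⁻¹ * l = l * (a * l)⁻¹ * l := by
        rw [mul_inv_rev, h.linv hl]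
        calc a⁻¹ * l = 1 * a⁻¹ * l := by group
          _ = l * (l * a⁻¹) * l := by rw [← hll]; group
      rw [e1]; exact h.conj_E hl (inv_mem ha)

end Pre

namespace Hyp

variable (h : Hyp L z R E)
include h

/-- a small subgroup has no element of order 7 -/
theorem small7 [Finite F] {N : Subgroup F} (hN : Small L z N) : ¬ 7 ∣ Nat.card N := by
  classical
  intro h7
  have : Fact (Nat.Prime 7) := ⟨by norm_num⟩
  obtain ⟨m, hm⟩ := exists_prime_orderOf_dvd_card' 7 h7
  have hm7 : (m : F) ^ 7 = 1 := by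
    have h1 := pow_orderOf_eq_one m
    rw [hm] at h1
    exact congrArg Subtype.val h1
  have hm1 : (m : F) ≠ 1 := by
    intro h1
    have h2 : m = 1 := Subtype.ext h1
    rw [h2, orderOf_one] at hm
    omega
  have hcom : ∀ e ∈ Cz L z, (m : F) * e = e * m := by
    intro e he
    obtain ⟨b, c, d, hT⟩ := h.tet e he
    have hmaps : ∀ k ∈ Finset.range 5, (m : F) ^ k * e * ((m : F) ^ k)⁻¹ ∈ ({e, b, c, d} : Finset F) := by
      intro k _
      simp only [Finset.mem_insert, Finset.mem_singleton]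
      rcases hN _ (pow_mem m.2 k) e he with h1 | h1
      · exact Or.inl h1
      · exact Or.inr (hT.mate_cases h.tr h1)
    have hlt : ({e, b, c, d} : Finset F).card < (Finset.range 5).card := by
      rw [Finset.card_range]
      exact lt_of_le_of_lt Finset.card_le_four (by norm_num)
    obtain ⟨i, hi, j, hj, hij, he1⟩ := Finset.exists_ne_map_eq_of_card_lt_of_maps_to hlt hmaps
    have key : ∀ i j : ℕ, i < j → j < 5 →
        (m : F) ^ i * e * ((m : F) ^ i)⁻¹ = (m : F) ^ j * e * ((m : F) ^ j)⁻¹ → (m : F) * e = e * m := by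
      intro i j hij hj he1
      obtain ⟨k, rfl⟩ := Nat.exists_eq_add_of_lt hij
      have h1 : (m : F) ^ (k + 1) * e = e * (m : F) ^ (k + 1) := by
        rw [show i + k + 1 = i + (k + 1) by omega, pow_add] at he1
        have h2 : e = (m : F) ^ (k + 1) * e * ((m : F) ^ (k + 1))⁻¹ := by
          calc e = ((m : F) ^ i)⁻¹ * ((m : F) ^ i * e * ((m : F) ^ i)⁻¹) * (m : F) ^ i := by group
            _ = ((m : F) ^ i)⁻¹ * ((m : F) ^ i * (m : F) ^ (k + 1) * e *
                ((m : F) ^ i * (m : F) ^ (k + 1))⁻¹) * (m : F) ^ i := by rw [he1]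
            _ = (m : F) ^ (k + 1) * e * ((m : F) ^ (k + 1))⁻¹ := by
              rw [mul_inv_rev]; group
        exact (mul_inv_eq_iff_eq_mul.1 h2.symm)
      have hk : k < 4 := by omega
      have h3 : Commute ((m : F) ^ (k + 1)) e := h1
      have h4 : ∃ t s : ℕ, (k + 1) * t = 1 + 7 * s := by
        interval_cases k
        · exact ⟨1, 0, rfl⟩
        · exact ⟨4, 1, rfl⟩
        · exact ⟨5, 2, rfl⟩
        · exact ⟨2, 1, rfl⟩
      obtain ⟨t, s, hts⟩ := h4
      have h5 := h3.pow_left t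
      rw [← pow_mul, hts, pow_add, pow_mul, hm7, one_pow, pow_one, mul_one] at h5
      exact h5.eq
    rw [Finset.mem_range] at hi hj
    rcases Nat.lt_or_gt_of_ne hij with h1 | h1
    · exact key i j h1 hj he1
    · exact key j i h1 hi he1.symm
  have hE : E ≤ centralizer ({(m : F)} : Set F) := by
    rw [h.EE, closure_le]
    rintro _ ⟨e, he, f, hf, rfl⟩
    exact mul_mem (mem_centralizer_singleton_iff.2 (hcom e he).symm)
      (mem_centralizer_singleton_iff.2 (hcom f hf).symm)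
  rcases h.cent m (fun r hr => (mem_centralizer_singleton_iff.1 (hE (h.RE hr))).symm) with h1 | h1
  · exact hm1 h1
  · have h2 : (m : F) ^ 7 = z := by
      rw [h1]
      calc z ^ 7 = (z * z) ^ 3 * z := by rw [← pow_two, ← pow_mul, ← pow_succ]
        _ = z := by rw [h.zz, one_pow, one_mul]
    exact h.z1 (by rw [← h2, hm7])

/-- **the dichotomy for the subgroups normalised by `E`** -/
theorem dich_E [Finite F] {N : Subgroup F} (hNE : N ≤ E) (hRN : R ≤ N)
    (hn : ∀ e ∈ E, ∀ n ∈ N, e * n * e⁻¹ ∈ N) : Small L z N ∨ N = E := by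
  obtain ⟨l, hl⟩ := h.ne
  have hll := h.sq hl
  have hli := h.linv hl
  let M : Subgroup F := N.map (MulAut.conj l).toMonoidHom
  have hmem : ∀ x, x ∈ M ↔ l * x * l ∈ N := by
    intro x
    constructor
    · rintro ⟨y, hy, rfl⟩
      show l * (l * y * l⁻¹) * l ∈ N
      have e1 : l * (l * y * l⁻¹) * l = (l * l) * y * (l⁻¹ * l) := by group
      rw [e1, hll, inv_mul_cancel, one_mul, mul_one]; exact hy
    · intro hx
      refine ⟨l * x * l, hx, ?_⟩
      show l * (l * x * l) * l⁻¹ = x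
      rw [hli]
      calc l * (l * x * l) * l = (l * l) * x * (l * l) := by group
        _ = x := by rw [hll, one_mul, mul_one]
  have hcardM : Nat.card M = Nat.card N :=
    (Nat.card_congr (N.equivMapOfInjective _ (MulAut.conj l).injective).toEquiv).symm
  have hMl : ∀ x ∈ M, l * x * l⁻¹ ∈ N := fun x hx => by rw [hli]; exact (hmem x).1 hx
  have hNl : ∀ x ∈ N, l * x * l⁻¹ ∈ M := fun x hx => ⟨x, hx, rfl⟩
  have hME : M ≤ E := by
    intro x hx
    have h1 := h.conj_E hl (hNE ((hmem x).1 hx))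
    have e1 : l * (l * x * l) * l = x := by
      calc l * (l * x * l) * l = (l * l) * x * (l * l) := by group
        _ = x := by rw [hll, one_mul, mul_one]
    rwa [e1] at h1
  have hRM : R ≤ M := by
    intro x hx
    rw [hmem]
    have h1 := h.nR l hl.2 x hx
    rw [hli] at h1
    exact hRN h1
  have hMn : ∀ e ∈ E, ∀ n ∈ M, e * n * e⁻¹ ∈ M := by
    intro e he n hn'
    rw [hmem] at hn' ⊢
    have h1 := hn _ (h.conj_E hl he) _ hn'
    have e1 : l * e * l * (l * n * l) * (l * e * l)⁻¹ = l * (e * n * e⁻¹) * l := by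
      rw [mul_inv_rev, mul_inv_rev, hli]
      calc l * e * l * (l * n * l) * (l * (e⁻¹ * l)) = l * e * (l * l) * n * (l * l) * e⁻¹ * l := by group
        _ = l * (e * n * e⁻¹) * l := by rw [hll]; group
    rwa [e1] at h1
  -- from `E` and `l` to `⟨Cz⟩`
  have hw : ∀ T : Subgroup F, (∀ e ∈ E, ∀ n ∈ T, e * n * e⁻¹ ∈ T) → (∀ n ∈ T, l * n * l⁻¹ ∈ T) →
      ∀ w ∈ closure (Cz L z), ∀ m ∈ T, w * m * w⁻¹ ∈ T := by
    intro T h1 h2 w hw m hm
    rcases h.closure_cases hl hw with h3 | h3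
    · exact h1 w h3 m hm
    · have h4 := h1 _ h3 _ (h2 m hm)
      have e1 : w * l * (l * m * l⁻¹) * (w * l)⁻¹ = w * m * w⁻¹ := by
        rw [mul_inv_rev, hli]
        calc w * l * (l * m * l) * (l * w⁻¹) = w * (l * l) * m * (l * l) * w⁻¹ := by group
          _ = w * m * w⁻¹ := by rw [hll, mul_one, mul_one]
      rwa [e1] at h4
  have h1 := h.dichW (N ⊓ M) (inf_le_left.trans hNE) (le_inf hRN hRM)
    (hw _ (fun e he n hn' => ⟨hn e he n hn'.1, hMn e he n hn'.2⟩)
      (fun n hn' => ⟨hMl n hn'.2, hNl n hn'.1⟩))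
  have hsup : ∀ w : F, (∀ n ∈ N, w * n * w⁻¹ ∈ N ⊔ M) → (∀ n ∈ M, w * n * w⁻¹ ∈ N ⊔ M) →
      ∀ n ∈ N ⊔ M, w * n * w⁻¹ ∈ N ⊔ M := by
    intro w ha hb
    have h2 : N ⊔ M ≤ (N ⊔ M).comap (MulAut.conj w).toMonoidHom := sup_le ha hb
    exact h2
  have h2 := h.dichW (N ⊔ M) (sup_le hNE hME) (hRN.trans le_sup_left)
    (hw _ (fun e he => hsup e (fun n hn' => mem_sup_left (hn e he n hn'))
        (fun n hn' => mem_sup_right (hMn e he n hn')))
      (hsup l (fun n hn' => mem_sup_right (hNl n hn')) (fun n hn' => mem_sup_left (hMl n hn'))))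
  rcases h1 with h1 | h1
  · rcases h2 with h2 | h2
    · left
      exact fun m hm => h2 m (mem_sup_left hm)
    · exfalso
      have h3 := card_mul hNE hME hn h2
      rw [hcardM] at h3
      have h7 : Nat.Prime 7 := by norm_num
      have h4 : 7 ∣ Nat.card N := by
        have h5 : 7 ∣ Nat.card N * Nat.card N := by rw [← h3]; exact h.s7.mul_right _
        exact (h7.dvd_mul.1 h5).elim id id
      have h5 : 49 ∣ Nat.card E * Nat.card (N ⊓ M : Subgroup F) := by
        rw [h3]; exact Nat.mul_dvd_mul h4 h4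
      have h6 : Nat.Coprime 49 (Nat.card (N ⊓ M : Subgroup F)) := by
        have h8 : Nat.Coprime 7 (Nat.card (N ⊓ M : Subgroup F)) := (h7.coprime_iff_not_dvd).2 (h.small7 h1)
        have h9 := Nat.Coprime.pow_left 2 h8
        exact h9
      exact h.n49 (h6.dvd_of_dvd_mul_right h5)
  · right
    exact le_antisymm hNE (h1 ▸ inf_le_left)

/-- **an element of order 7 which is not central modulo `R`** -/
theorem exists7 [Finite F] : ∃ x ∈ E, orderOf x = 7 ∧ ∃ y ∈ E, ⁅x, y⁆ ∉ R := by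
  by_contra hcon
  push Not at hcon
  have : Fact (Nat.Prime 7) := ⟨by norm_num⟩
  have hRE := h.RE
  have hnR : ∀ g ∈ E, ∀ r ∈ R, g * r * g⁻¹ ∈ R := fun g hg => h.nR g (h.E_z hg)
  let N : Subgroup F :=
    { carrier := {g | g ∈ E ∧ ∀ y ∈ E, ⁅g, y⁆ ∈ R}
      one_mem' := ⟨E.one_mem, fun y _ => by rw [commutatorElement_one_left]; exact R.one_mem⟩
      mul_mem' := by
        rintro a b ⟨ha, ha'⟩ ⟨hb, hb'⟩
        refine ⟨mul_mem ha hb, fun y hy => ?_⟩
        have e1 : ⁅a * b, y⁆ = (a * ⁅b, y⁆ * a⁻¹) * ⁅a, y⁆ := by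
          simp only [commutatorElement_def]; group
        rw [e1]
        exact mul_mem (hnR a ha _ (hb' y hy)) (ha' y hy)
      inv_mem' := by
        rintro a ⟨ha, ha'⟩
        refine ⟨inv_mem ha, fun y hy => ?_⟩
        have e1 : ⁅a⁻¹, y⁆ = a⁻¹ * (⁅a, y⁆)⁻¹ * a⁻¹⁻¹ := by
          simp only [commutatorElement_def]; group
        rw [e1]
        exact hnR _ (inv_mem ha) _ (inv_mem (ha' y hy)) }
  have hN : ∀ g, g ∈ N ↔ g ∈ E ∧ ∀ y ∈ E, ⁅g, y⁆ ∈ R := fun _ => Iff.rfl
  rcases h.dich_E (N := N) (fun g hg => hg.1) (fun r hr => ⟨hRE hr, fun y hy => by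
      rw [commutatorElement_def]
      have e1 : r * y * r⁻¹ * y⁻¹ = r * (y * r⁻¹ * y⁻¹) := by group
      rw [e1]; exact mul_mem hr (hnR y hy _ (inv_mem hr))⟩) (by
      rintro e he n ⟨hn, hn'⟩
      refine ⟨mul_mem (mul_mem he hn) (inv_mem he), fun y hy => ?_⟩
      have e1 : ⁅e * n * e⁻¹, y⁆ = e * ⁅n, e⁻¹ * y * e⁆ * e⁻¹ := by
        simp only [commutatorElement_def]; group
      rw [e1]
      exact hnR e he _ (hn' _ (mul_mem (mul_mem (inv_mem he) hy) he))) with h1 | h1
  · obtain ⟨x, hx⟩ := exists_prime_orderOf_dvd_card' 7 h.s7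
    have hx7 : orderOf (x : F) = 7 := by rw [← hx]; exact orderOf_coe x
    have hxN : (x : F) ∈ N := ⟨x.2, hcon x x.2 hx7⟩
    refine h.small7 h1 ?_
    have h2 : orderOf (⟨x, hxN⟩ : N) = 7 := by rw [← hx7]; exact (orderOf_coe (⟨x, hxN⟩ : N)).symm
    rw [← h2]
    exact orderOf_dvd_natCard _
  · have h2 : E ≤ R := by
      conv_lhs => rw [← h.perf]
      rw [commutator_le]
      intro a ha b hb
      rw [← h1] at ha
      exact ha.2 b hb
    have h3 : Nat.card E = Nat.card R := by rw [le_antisymm h2 h.RE]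
    exact h.R7 (h3 ▸ h.s7)

end Hyp

end Cfsg.Agent.KFacts.FiTF.QuasiB
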