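import Cfsg.Agent.KFacts.FiTF.Tet
import Cfsg.Agent.KFacts.FiTF.OrbSys

/-!
# `Fi24'`: `R = Q L z`, the 756 pairs

`Tran`: `W = ⟨y_0 … y_5, D 0 1⟩` is transitive on the transpositions commuting with `z` (file `FixZ`).
-/

set_option autoImplicit false

namespace Cfsg.Agent.KFacts.FiTF.RQ

open Cfsg Cfsg.Spor Cfsg.Spor.Fi24 Subgroup
open Cfsg.Agent.Fischer.Fi24Rep
open Cfsg.Agent.Fischer.Fi24Spider (word_cons word_nil)
open Cfsg.Agent.R08.FiTwentyFour (L)
open Cfsg.Agent.R08.TetTwo (IsTet Mate)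
open Cfsg.Agent.R08.TetThree (Pairs Q)
open Cfsg.Agent.KFacts.FiTF.Defs Cfsg.Agent.KFacts.FiTF.Pts Cfsg.Agent.KFacts.FiTF.Tet
open Cfsg.Agent.KFacts.FiTF.Om (B Y S OM)
open Cfsg.Agent.LargeExtra.Model Cfsg.Agent.LargeExtra.Pres
open Cfsg.Agent.KFacts.Codes

/-- the seven generators -/
def W : Subgroup Spor.Fi24 := Subgroup.closure {D 0 0, D 0 1, D 1 0, D 2 0, D 3 0, D 4 0, D 5 0}

/-- transitivity -/
def Tran : Prop := ∀ d ∈ Dz, ∃ w ∈ W, w * gen .l * w⁻¹ = d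

theorem D00 : D 0 0 = gen .l := by
  show word [Gen.l] = gen .l
  simp only [word_cons, word_nil, mul_one]

/-- a property of the generators -/
theorem W_ind {p : Spor.Fi24 → Prop} (hy : ∀ t < 6, p (y t)) (ha : p (D 0 1)) (h1 : p 1)
    (hm : ∀ a b, p a → p b → p (a * b)) (hi : ∀ a, p a → p a⁻¹) {w : Spor.Fi24} (hw : w ∈ W) : p w := by
  induction hw using Subgroup.closure_induction with
  | mem g hg =>
    simp only [Set.mem_insert_iff, Set.mem_singleton_iff] at hg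
    rcases hg with rfl | rfl | rfl | rfl | rfl | rfl | rfl
    · exact hy 0 (by norm_num)
    · exact ha
    · exact hy 1 (by norm_num)
    · exact hy 2 (by norm_num)
    · exact hy 3 (by norm_num)
    · exact hy 4 (by norm_num)
    · exact hy 5 (by norm_num)
  | one => exact h1
  | mul a b _ _ h h' => exact hm a b h h'
  | inv a _ h => exact hi a h

theorem W_z {w : Spor.Fi24} (hw : w ∈ W) : w * z = z * w := by
  refine W_ind (p := fun w => w * z = z * w) (fun t ht => y_z ht) (z_D (by norm_num) (by norm_num)).symm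
    (by rw [one_mul, mul_one]) ?_ ?_ hw
  · intro a b ha hb
    rw [mul_assoc, hb, ← mul_assoc, ha, mul_assoc]
  · intro a ha
    rw [inv_mul_eq_iff_eq_mul, ← mul_assoc, ha, mul_assoc, mul_inv_cancel, mul_one]

theorem x0_mem : D 0 1 = y 0 * x 0 := by
  show D 0 1 = D 0 0 * (D 0 0 * D 0 1)
  rw [← mul_assoc, D_sq (by norm_num) (by norm_num), one_mul]

theorem cod_mem_R (c : ℕ) : cod 12 z x c ∈ R := cod_mem c

theorem mem_R {g : Spor.Fi24} : g ∈ R ↔ ∃ c < 2 ^ 13, cod 12 z x c = g := mem_RG rels Om.tri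

theorem x_mem {j : ℕ} (hj : j < 12) : x j ∈ R := by
  rw [← cod_pow (n := 12) (z := z) (x := x) hj]
  exact cod_mem_R _

theorem z_mem : z ∈ R := by
  have := cod_mem_R (2 ^ 12)
  rwa [cod_z] at this

theorem R_z {r : Spor.Fi24} (hr : r ∈ R) : r * z = z * r := by
  obtain ⟨c, -, rfl⟩ := mem_R.1 hr
  exact OrbSys.cod_comm_z rels c

/-- `W` normalises `R` -/
theorem W_conj_R {w : Spor.Fi24} (hw : w ∈ W) : ∀ r ∈ R, w * r * w⁻¹ ∈ R := by
  have key : ∀ r ∈ R, w * r * w⁻¹ ∈ R ∧ w⁻¹ * r * w ∈ R := by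
    have hyt : ∀ t < 6, ∀ r ∈ R, y t * r * (y t)⁻¹ ∈ R := by
      intro t ht r hr
      obtain ⟨c, -, rfl⟩ := mem_R.1 hr
      rw [conj_y_cod ht]
      exact cod_mem_R _
    have hyi : ∀ t < 6, (y t)⁻¹ = y t := fun t ht => D_inv ht (by norm_num)
    refine W_ind (p := fun w => ∀ r ∈ R, w * r * w⁻¹ ∈ R ∧ w⁻¹ * r * w ∈ R) ?_ ?_ ?_ ?_ ?_ hw
    · intro t ht r hr
      have h1 := hyt t ht r hr
      refine ⟨h1, ?_⟩
      rw [hyi t ht] at h1 ⊢
      exact h1
    · intro r hr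
      have hx := x_mem (j := 0) (by norm_num)
      have hy0 := hyi 0 (by norm_num)
      constructor
      · have h1 := hyt 0 (by norm_num) _ (R.mul_mem (R.mul_mem hx hr) (R.inv_mem hx))
        rw [x0_mem]
        have e : y 0 * x 0 * r * (y 0 * x 0)⁻¹ = y 0 * (x 0 * r * (x 0)⁻¹) * (y 0)⁻¹ := by group
        rw [e]; exact h1
      · have h1 := R.mul_mem (R.mul_mem (R.inv_mem hx) (hyt 0 (by norm_num) r hr)) hx
        rw [x0_mem]
        have e : (y 0 * x 0)⁻¹ * r * (y 0 * x 0) = (x 0)⁻¹ * ((y 0)⁻¹ * r * y 0) * x 0 := by group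
        rw [e, hy0]
        rw [hy0] at h1
        exact h1
    · intro r hr
      rw [inv_one, one_mul, mul_one]
      exact ⟨hr, hr⟩
    · intro a b ha hb r hr
      have h1 := (ha _ (hb r hr).1).1
      have h2 := (hb _ (ha r hr).2).2
      refine ⟨?_, ?_⟩
      · rw [show a * b * r * (a * b)⁻¹ = a * (b * r * b⁻¹) * a⁻¹ by group]; exact h1
      · rw [show (a * b)⁻¹ * r * (a * b) = b⁻¹ * (a⁻¹ * r * a) * b by group]; exact h2
    · intro a ha r hr
      rw [inv_inv]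
      exact ⟨(ha r hr).2, (ha r hr).1⟩
  exact fun r hr => (key r hr).1

theorem mate_x {j : ℕ} (hj : j < 12) : Mate L z (D (j / 2) 0) (D (j / 2) (j % 2 + 1)) := by
  have h := isTet (t := j / 2) (by omega)
  have hj2 : j % 2 = 0 ∨ j % 2 = 1 := by omega
  rcases hj2 with h2 | h2
  · rw [h2]; exact ⟨_, _, h⟩
  · rw [h2]; exact ⟨_, _, h.sw23⟩

theorem R_le_Q : R ≤ Q L z := by
  unfold R RG
  rw [Subgroup.closure_le]
  rintro g (rfl | ⟨i, hi, rfl⟩)
  · exact Cfsg.Agent.R08.TetThree.s_mem Tet.tr (mate_x (j := 0) (by norm_num))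
  · exact Cfsg.Agent.R08.TetThree.pair_mem (mate_x hi)

/-- the pairs through `l` -/
theorem l_pair {f : Spor.Fi24} (h : Mate L z (D 0 0) f) : ∃ k < 4, 0 < k ∧ f = D 0 k := by
  rcases (isTet (t := 0) (by norm_num)).mate_cases Tet.tr h with h1 | h1 | h1
  · exact ⟨1, by norm_num, by norm_num, h1⟩
  · exact ⟨2, by norm_num, by norm_num, h1⟩
  · exact ⟨3, by norm_num, by norm_num, h1⟩

/-- every pair is `W`-conjugate to a pair through `l` -/
theorem pair_conj (htr : Tran) {g : Spor.Fi24} (hg : g ∈ Pairs L z) :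
    ∃ w ∈ W, ∃ k < 4, 0 < k ∧ w * (D 0 0 * D 0 k) * w⁻¹ = g := by
  obtain ⟨e, f, ⟨c, d, h⟩, rfl⟩ := hg
  obtain ⟨w, hw, he⟩ := htr e ⟨h.ha, h.comm_a.eq⟩
  have hwi : Commute w⁻¹ z := by
    have := W_z hw
    exact (show Commute w z from this).inv_left
  have h1 := h.conj Tet.tr hwi
  have e1 : w⁻¹ * e * w⁻¹⁻¹ = D 0 0 := by
    rw [← he, D00]; group
  rw [e1] at h1
  obtain ⟨k, hk, hk0, hf⟩ := l_pair ⟨_, _, h1⟩
  refine ⟨w, hw, k, hk, hk0, ?_⟩
  rw [← hf, ← e1]; group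

theorem pair_mem_R (htr : Tran) {g : Spor.Fi24} (hg : g ∈ Pairs L z) : g ∈ R := by
  obtain ⟨w, hw, k, hk, -, rfl⟩ := pair_conj htr hg
  apply W_conj_R hw
  rw [← cod_pc (t := 0) (by norm_num) k hk]
  exact cod_mem_R _

theorem R_eq_Q (htr : Tran) : R = Q L z := by
  apply le_antisymm R_le_Q
  unfold Q
  rw [Subgroup.closure_le]
  exact fun g hg => pair_mem_R htr hg

/-- `C_F(z)` normalises `R` -/
theorem norm (htr : Tran) (g : Spor.Fi24) (hg : g * z = z * g) (r : Spor.Fi24) (hr : r ∈ R) :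
    g * r * g⁻¹ ∈ R := by
  rw [R_eq_Q htr] at hr ⊢
  exact Cfsg.Agent.R08.TetThree.conj_Q Tet.tr hg hr

/-! ### The group `E` -/

theorem D_mem_Dz {t i : ℕ} (ht : t < 6) (hi : i < 4) : D t i ∈ Dz := ⟨D_mem ht hi, (z_D ht hi).symm⟩

theorem mul_mem_E {e f : Spor.Fi24} (he : e ∈ Dz) (hf : f ∈ Dz) : e * f ∈ E :=
  Subgroup.subset_closure ⟨e, he, f, hf, rfl⟩

theorem x_mem_E {j : ℕ} (hj : j < 12) : x j ∈ E :=
  mul_mem_E (D_mem_Dz (by omega) (by norm_num)) (D_mem_Dz (by omega) (by omega))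

theorem z_mem_E : z ∈ E := by
  rw [← prod_D 0 (by norm_num)]
  have e : D 0 0 * D 0 1 * D 0 2 * D 0 3 = (D 0 0 * D 0 1) * (D 0 2 * D 0 3) := by group
  rw [e]
  exact E.mul_mem (mul_mem_E (D_mem_Dz (by norm_num) (by norm_num)) (D_mem_Dz (by norm_num) (by norm_num)))
    (mul_mem_E (D_mem_Dz (by norm_num) (by norm_num)) (D_mem_Dz (by norm_num) (by norm_num)))

theorem R_le_E : R ≤ E := by
  unfold R RG
  rw [Subgroup.closure_le]
  rintro g (rfl | ⟨i, hi, rfl⟩)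
  · exact z_mem_E
  · exact x_mem_E hi

theorem E_le : E ≤ commutator Spor.Fi24 := by
  unfold E
  rw [Subgroup.closure_le]
  rintro g ⟨e, he, f, hf, rfl⟩
  exact Cfsg.Agent.R08.FiTwentyFour.even he.1 hf.1

theorem E_z {g : Spor.Fi24} (hg : g ∈ E) : g * z = z * g := by
  unfold E at hg
  induction hg using Subgroup.closure_induction with
  | mem g hg =>
    obtain ⟨e, he, f, hf, rfl⟩ := hg
    rw [mul_assoc, hf.2, ← mul_assoc, he.2, mul_assoc]
  | one => rw [one_mul, mul_one]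
  | mul a b _ _ ha hb => rw [mul_assoc, hb, ← mul_assoc, ha, mul_assoc]
  | inv a _ ha => rw [inv_mul_eq_iff_eq_mul, ← mul_assoc, ha, mul_assoc, mul_inv_cancel, mul_one]

theorem yy_mem_E {s t : ℕ} (hs : s < 6) (ht : t < 6) : y s * y t ∈ E :=
  mul_mem_E (D_mem_Dz hs (by norm_num)) (D_mem_Dz ht (by norm_num))

/-! ### The system -/

theorem sys : OrbSys.Sys z x y E where
  rel := rels
  z1 := z_ne
  yz t ht := y_z ht
  yx t ht i hi := conj_y ht hi
  yE s hs t ht := yy_mem_E hs ht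
  RE := R_le_E
  Ez g hg := E_z hg

/-! ### The 756 -/

/-- the 756 elements of `R` above the 378 vectors -/
def Om : Set Spor.Fi24 := Lin.OmSet 12 OM z x

theorem om_closed_aux : ∀ a < 64, ∀ b < 64, (!(OM.testBit (64 * a + b)) || (List.range 6).all fun t =>
    OM.testBit (Orb.lf (Orb.YL t) (64 * a + b))) = true := by decide +kernel

theorem om_closed {c : ℕ} (hc : c < 4096) (h : OM.testBit c = true) {t : ℕ} (ht : t < 6) :
    OM.testBit (Orb.lf (Orb.YL t) c) = true := by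
  have h1 := om_closed_aux (c / 64) (by omega) (c % 64) (by omega)
  rw [show 64 * (c / 64) + c % 64 = c by omega, h, Bool.not_true, Bool.false_or, List.all_eq_true] at h1
  exact h1 t (List.mem_range.2 ht)

theorem om_lt {c : ℕ} (h : OM.testBit c = true) : c < 4096 := by
  by_contra hc
  have h1 := Nat.testBit_lt_two_pow (lt_of_lt_of_le Orb.lt1 (Nat.pow_le_pow_right (by norm_num)
    (show 2 ^ 12 ≤ c by norm_num; omega)))
  rw [h] at h1
  exact absurd h1 (by decide)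

theorem om_of_ez {a : Spor.Fi24} (ha : a ∈ R) {c : ℕ} (hc : OM.testBit c = true)
    (h : OrbSys.Ez z a (cod 12 z x c)) : a ∈ Om := by
  unfold Om
  rw [sys.dt.mem_Om ha, sys.pi_of (om_lt hc) h]
  exact hc

theorem om_y {t : ℕ} (ht : t < 6) {a : Spor.Fi24} (ha : a ∈ Om) : y t * a * (y t)⁻¹ ∈ Om := by
  obtain ⟨c, hc, h1⟩ := sys.om_code ha
  have h2 := (h1.conj (y_z ht)).trans Tet.zz (sys.y1 ht c)
  have haR : a ∈ R := sys.omR ha
  refine om_of_ez ?_ (om_closed (om_lt hc) hc ht) h2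
  obtain ⟨d, -, rfl⟩ := mem_R.1 haR
  rw [conj_y_cod ht]
  exact cod_mem_R _

theorem om_R {r : Spor.Fi24} (hr : r ∈ R) {a : Spor.Fi24} (ha : a ∈ Om) : r * a * r⁻¹ ∈ Om := by
  obtain ⟨c, hc, h1⟩ := sys.om_code ha
  have haR : a ∈ R := sys.omR ha
  refine om_of_ez (R.mul_mem (R.mul_mem hr haR) (R.inv_mem hr)) hc ?_
  rcases RG_comm rels Om.tri hr haR with h2 | h2
  · rw [h2, mul_inv_cancel_right]; exact h1
  · rw [h2, show z * (a * r) * r⁻¹ = z * a by group]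
    rcases h1 with h1 | h1
    · exact Or.inr (by rw [h1])
    · exact Or.inl (by rw [h1, ← mul_assoc, Tet.zz, one_mul])

theorem om_W {w : Spor.Fi24} (hw : w ∈ W) : ∀ a ∈ Om, w * a * w⁻¹ ∈ Om := by
  have key : ∀ a ∈ Om, w * a * w⁻¹ ∈ Om ∧ w⁻¹ * a * w ∈ Om := by
    have hyi : ∀ t < 6, (y t)⁻¹ = y t := fun t ht => D_inv ht (by norm_num)
    refine W_ind (p := fun w => ∀ r ∈ Om, w * r * w⁻¹ ∈ Om ∧ w⁻¹ * r * w ∈ Om) ?_ ?_ ?_ ?_ ?_ hw
    · intro t ht r hr
      have h1 := om_y ht hr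
      refine ⟨h1, ?_⟩
      rw [hyi t ht] at h1 ⊢
      exact h1
    · intro r hr
      have hx := x_mem (j := 0) (by norm_num)
      have hy0 := hyi 0 (by norm_num)
      constructor
      · have h1 := om_y (t := 0) (by norm_num) (om_R hx hr)
        rw [x0_mem]
        have e : y 0 * x 0 * r * (y 0 * x 0)⁻¹ = y 0 * (x 0 * r * (x 0)⁻¹) * (y 0)⁻¹ := by group
        rw [e]; exact h1
      · have h1 := om_R (R.inv_mem hx) (om_y (t := 0) (by norm_num) hr)
        rw [x0_mem]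
        have e : (y 0 * x 0)⁻¹ * r * (y 0 * x 0) = (x 0)⁻¹ * ((y 0)⁻¹ * r * y 0) * (x 0)⁻¹⁻¹ := by group
        rw [e, hy0]
        rw [hy0] at h1
        exact h1
    · intro r hr
      rw [inv_one, one_mul, mul_one]
      exact ⟨hr, hr⟩
    · intro a b ha hb r hr
      have h1 := (ha _ (hb r hr).1).1
      have h2 := (hb _ (ha r hr).2).2
      refine ⟨?_, ?_⟩
      · rw [show a * b * r * (a * b)⁻¹ = a * (b * r * b⁻¹) * a⁻¹ by group]; exact h1
      · rw [show (a * b)⁻¹ * r * (a * b) = b⁻¹ * (a⁻¹ * r * a) * b by group]; exact h2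
    · intro a ha r hr
      rw [inv_inv]
      exact ⟨(ha r hr).2, (ha r hr).1⟩
  exact fun r hr => (key r hr).1

theorem om_pc : ∀ k < 4, 0 < k → OM.testBit (pc 0 k % 4096) = true := by decide +kernel

theorem pair_om (htr : Tran) {g : Spor.Fi24} (hg : g ∈ Pairs L z) : g ∈ Om := by
  obtain ⟨w, hw, k, hk, hk0, rfl⟩ := pair_conj htr hg
  apply om_W hw
  rw [← cod_pc (t := 0) (by norm_num) k hk]
  exact om_of_ez (cod_mem_R _) (om_pc k hk hk0) (OrbSys.ez_mod (n := 12) _)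

theorem x0_pair : x 0 ∈ Pairs L z := ⟨_, _, mate_x (j := 0) (by norm_num), rfl⟩

theorem x0_om : x 0 ∈ Om := by
  refine om_of_ez (c := 1) (x_mem (by norm_num)) (by decide +kernel) (Or.inl ?_)
  exact (cod_pow (n := 12) (i := 0) (by norm_num)).symm

theorem om_pair {g : Spor.Fi24} (hg : g ∈ Om) : g ∈ Pairs L z := by
  obtain ⟨u, hu, h⟩ := sys.omTr _ x0_om _ hg
  have h1 := Cfsg.Agent.R08.TetThree.conj_pairs Tet.tr (E_z hu) x0_pair
  rcases h with h | h
  · rwa [h] at h1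
  · rw [h] at h1
    have h2 := Cfsg.Agent.R08.TetThree.compl_mem Tet.tr h1
    have h3 : g * z = z * g := R_z (sys.omR hg)
    rwa [h3, ← mul_assoc, Tet.zz, one_mul] at h2

theorem omC (htr : Tran) (g : Spor.Fi24) (hg : g * z = z * g) (a : Spor.Fi24) (ha : a ∈ Om) :
    g * a * g⁻¹ ∈ Om :=
  pair_om htr (Cfsg.Agent.R08.TetThree.conj_pairs Tet.tr hg (om_pair ha))

end Cfsg.Agent.KFacts.FiTF.RQ
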