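import Cfsg.Agent.KFacts.FiTF.QuasiB
import Cfsg.Agent.KFacts.FiTF.RQ

/-!
# `Fi24'`: normal subgroups of `E` between `R` and `E` (instance, helper528)
-/

set_option autoImplicit false

namespace Cfsg.Agent.KFacts.FiTF.QuasiBInst

open Cfsg Cfsg.Spor Cfsg.Spor.Fi24 Subgroup
open Cfsg.Agent.Fischer.Fi24Rep
open Cfsg.Agent.R08.FiTwentyFour (L)
open Cfsg.Agent.R08.TetTwo (IsTet Mate)
open Cfsg.Agent.KFacts.FiTF.Defs Cfsg.Agent.KFacts.FiTF.Tet
open Cfsg.Agent.KFacts.FiTF.RQ (W Tran)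
open Cfsg.Agent.KFacts.FiTF.QuasiB (Cz Small Pre Hyp)
open scoped commutatorElement

theorem pre : Pre L z E := ⟨Tet.tr, rfl⟩

theorem W_le : W ≤ closure Dz := by
  unfold W
  rw [closure_le]
  intro g hg
  simp only [Set.mem_insert_iff, Set.mem_singleton_iff] at hg
  rcases hg with rfl | rfl | rfl | rfl | rfl | rfl | rfl <;>
    exact subset_closure (RQ.D_mem_Dz (by norm_num) (by norm_num))

theorem l_mem : gen .l ∈ Cz L z := by
  have h1 := RQ.D_mem_Dz (t := 0) (i := 0) (by norm_num) (by norm_num)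
  rw [RQ.D00] at h1
  exact h1

/-- `E` is transitive on `Dz` -/
theorem tranE (htr : Tran) : ∀ d ∈ Dz, ∃ w ∈ E, w * gen .l * w⁻¹ = d := by
  intro d hd
  obtain ⟨w, hw, hwd⟩ := htr d hd
  rcases pre.closure_cases l_mem (W_le hw) with h1 | h1
  · exact ⟨w, h1, hwd⟩
  · refine ⟨w * gen .l, h1, ?_⟩
    rw [mul_inv_rev, ← hwd]
    group

theorem s7 (htr : Tran) (hn : Dz.ncard = 504) : 7 ∣ Nat.card E := by
  let _ : MulAction E Spor.Fi24 := MulAction.compHom Spor.Fi24 ((MulAut.conj).comp E.subtype)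
  have hsm : ∀ (g : E) (x : Spor.Fi24), g • x = (g : Spor.Fi24) * x * (g : Spor.Fi24)⁻¹ := fun _ _ => rfl
  have h1 : MulAction.orbit E (gen .l : Spor.Fi24) = Dz := by
    ext d
    constructor
    · rintro ⟨g, rfl⟩
      show g • gen .l ∈ Dz
      rw [hsm]
      refine ⟨Tet.tr.conj _ _ l_mem.1, ?_⟩
      have h2 : (g : Spor.Fi24) * z = z * g := pre.E_z g.2
      have h3 : (g : Spor.Fi24)⁻¹ * z = z * (g : Spor.Fi24)⁻¹ := by
        rw [inv_mul_eq_iff_eq_mul, ← mul_assoc, h2, mul_assoc, mul_inv_cancel, mul_one]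
      calc (g : Spor.Fi24) * gen .l * (g : Spor.Fi24)⁻¹ * z = g * (gen .l * ((g : Spor.Fi24)⁻¹ * z)) := by
            simp only [mul_assoc]
        _ = g * ((gen .l * z) * (g : Spor.Fi24)⁻¹) := by rw [h3]; simp only [mul_assoc]
        _ = (g * z) * (gen .l * (g : Spor.Fi24)⁻¹) := by rw [l_mem.2]; simp only [mul_assoc]
        _ = z * (g * gen .l * (g : Spor.Fi24)⁻¹) := by rw [h2]; simp only [mul_assoc]
    · intro hd
      obtain ⟨w, hw, hwd⟩ := tranE htr d hd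
      exact ⟨⟨w, hw⟩, hwd⟩
  have h2 := MulAction.index_stabilizer E (gen .l : Spor.Fi24)
  rw [h1, hn] at h2
  have h3 : (504 : ℕ) ∣ Nat.card E := by rw [← h2]; exact Subgroup.index_dvd_card _
  exact (by norm_num : (7 : ℕ) ∣ 504).trans h3

theorem tet (htr : Tran) : ∀ e ∈ Cz L z, ∃ b c d, IsTet L z e b c d := by
  intro e he
  obtain ⟨w, hw, hwe⟩ := htr e he
  have h1 := (isTet (t := 0) (by norm_num)).conj Tet.tr (RQ.W_z hw)
  rw [RQ.D00, hwe] at h1
  exact ⟨_, _, _, h1⟩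

theorem hyp (htr : Tran) (hn : Dz.ncard = 504)
    (hcard : Nat.card (centralizer ({z} : Set Spor.Fi24)) = 321052999680)
    (hcent : ∀ g : Spor.Fi24, (∀ r ∈ R, g * r = r * g) → g = 1 ∨ g = z)
    (hperf : ⁅E, E⁆ = E)
    (hd : ∀ M ≤ E, R ≤ M → (∀ w ∈ closure Dz, ∀ m ∈ M, w * m * w⁻¹ ∈ M) →
      (∀ m ∈ M, ∀ e ∈ Dz, m * e * m⁻¹ = e ∨ Mate L z e (m * e * m⁻¹)) ∨ M = E) : Hyp L z R E where
  tr := Tet.tr
  EE := rfl
  z1 := z_ne
  zz := Tet.zz
  tet := tet htr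
  ne := ⟨_, l_mem⟩
  RE := RQ.R_le_E
  nR := RQ.norm htr
  cent := hcent
  s7 := s7 htr hn
  n49 h := by
    have h1 : Nat.card E ∣ Nat.card (centralizer ({z} : Set Spor.Fi24)) :=
      Subgroup.card_dvd_of_le fun g hg => mem_centralizer_singleton_iff.2 (pre.E_z hg)
    rw [hcard] at h1
    exact absurd (h.trans h1) (by norm_num)
  perf := hperf
  R7 h := by
    have h1 : Nat.card R = 8192 := by
      unfold R
      rw [KFacts.Codes.card_RG rels Om.tri Om.nondeg z_ne]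
      norm_num
    rw [h1] at h
    exact absurd h (by norm_num)
  dichW := hd

end Cfsg.Agent.KFacts.FiTF.QuasiBInst
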