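import Cfsg.Agent.KFacts.FiTF.SheetM
import Cfsg.Agent.KFacts.FiTF.QuasiA
import Cfsg.Agent.KFacts.FiTF.CardE

/-!
# `Fi24'`: the sheet of case (M), the instance (helper411)

`fixes_R`: an element fixing all the tetrads of `z` centralises `E` modulo `R`.
`sheetM_of`: `SheetM` from the frame, `SheetE` for `P = E.subgroupOf K`, `|C_F(z)|` and the dichotomy of helper528.
-/

set_option autoImplicit false

namespace Cfsg.Agent.KFacts.FiTF.SheetMFi

open Cfsg Cfsg.Spor Subgroup Cfsg.Agent.OddHalf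
open Cfsg.Agent.R08.FiTwentyFour (L)
open Cfsg.Agent.R08.TetTwo (IsTet Mate)
open Cfsg.Agent.KFacts.FiTF.Defs Cfsg.Agent.KFacts.FiTF.Tet Cfsg.Agent.KFacts.FiTF.RQ
open Cfsg.Agent.KFacts.FiTF.QuasiA (Fixes)

/-- an element fixing all the tetrads of `z` centralises `E` modulo `R` -/
theorem fixes_R (htr : Tran) {n : Spor.Fi24} (h : Fixes n) : ∀ g ∈ E, n * g * n⁻¹ * g⁻¹ ∈ R := by
  have hone : ∀ e ∈ Dz, n * e * n⁻¹ * e⁻¹ ∈ R := by
    intro e he
    rw [QuasiA.inv he]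
    rcases h e he with h1 | h1
    · rw [h1, QuasiA.sq he]; exact R.one_mem
    · have h2 : e * (n * e * n⁻¹) ∈ R :=
        pair_mem_R htr (Cfsg.Agent.R08.TetThree.Pairs.eq_1 L z ▸ ⟨e, n * e * n⁻¹, h1, rfl⟩)
      have h3 := norm htr e he.2 _ h2
      have e1 : e * (e * (n * e * n⁻¹)) * e⁻¹ = n * e * n⁻¹ * e := by
        rw [QuasiA.inv he, ← mul_assoc, QuasiA.sq he, one_mul]
      rwa [e1] at h3
  have hmul : ∀ a b : Spor.Fi24, a * z = z * a → n * a * n⁻¹ * a⁻¹ ∈ R → n * b * n⁻¹ * b⁻¹ ∈ R →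
      n * (a * b) * n⁻¹ * (a * b)⁻¹ ∈ R := by
    intro a b ha h1 h2
    have h3 := R.mul_mem h1 (norm htr a ha _ h2)
    have e1 : n * a * n⁻¹ * a⁻¹ * (a * (n * b * n⁻¹ * b⁻¹) * a⁻¹) = n * (a * b) * n⁻¹ * (a * b)⁻¹ := by group
    rwa [e1] at h3
  intro g hg
  unfold E at hg
  induction hg using Subgroup.closure_induction with
  | mem g hg =>
    obtain ⟨e, he, f, hf, rfl⟩ := hg
    exact hmul e f he.2 (hone e he) (hone f hf)
  | one => simp
  | mul a b ha _ iha ihb => exact hmul a b (E_z ha) iha ihb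
  | inv a ha iha =>
    have haz : a⁻¹ * z = z * a⁻¹ := E_z (E.inv_mem ha)
    have h1 := R.inv_mem (norm htr a⁻¹ haz _ iha)
    have e1 : (a⁻¹ * (n * a * n⁻¹ * a⁻¹) * a⁻¹⁻¹)⁻¹ = n * a⁻¹ * n⁻¹ * a⁻¹⁻¹ := by group
    rwa [e1] at h1

theorem card_E : 9797760 * 8192 ≤ Nat.card E := by
  have : Finite Spor.Fi24 := Cfsg.Agent.R08.FiTwentyFour.finite_Fi24
  exact sys.card_E

/-- **`SheetM` for `Fi24'`** -/
theorem sheetM_of (htr : Tran) (h : Frame (commutator Spor.Fi24) z R E RQ.Om)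
    (hE : D8.Sheet.SheetE (Abs.zK h) (E.subgroupOf (commutator Spor.Fi24)) (R.subgroupOf (commutator Spor.Fi24)))
    (hC : Nat.card (centralizer ({z} : Set Spor.Fi24)) = 321052999680)
    (hd : ∀ N : Subgroup Spor.Fi24, N ≤ E → R ≤ N → (∀ e ∈ E, ∀ n ∈ N, e * n * e⁻¹ ∈ N) →
      (∀ n ∈ N, Fixes n) ∨ N = E) :
    CaseM.SheetM (E.subgroupOf (commutator Spor.Fi24)) (R.subgroupOf (commutator Spor.Fi24)) := by
  have : Finite Spor.Fi24 := Cfsg.Agent.R08.FiTwentyFour.finite_Fi24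
  exact h.sheetM hE hC card_E fun N h1 h2 h3 =>
    (hd N h1 h2 h3).imp (fun h4 n hn e he => fixes_R htr (h4 n hn) e he) id

/-- some term of the derived series of `C_K(z)` lies in `E` -/
theorem der_E (h : Frame (commutator Spor.Fi24) z R E RQ.Om)
    (hC : Nat.card (centralizer ({z} : Set Spor.Fi24)) = 321052999680) :
    ∃ m, TR.dser m (centralizer ({Abs.zK h} : Set (commutator Spor.Fi24))) ≤ E.subgroupOf (commutator Spor.Fi24) := by
  have : Finite Spor.Fi24 := Cfsg.Agent.R08.FiTwentyFour.finite_Fi24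
  exact Abs.der_E h hC card_E

end Cfsg.Agent.KFacts.FiTF.SheetMFi
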