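import Cfsg.Agent.KFacts.FiTF.FrameF
import Cfsg.Agent.KFacts.FiTF.SheetMFi

/-!
# `Fi24'`: the sheet of type (E)
-/

set_option autoImplicit false

namespace Cfsg.Agent.KFacts.FiTF

open Cfsg Cfsg.Spor Subgroup Cfsg.Agent.OddHalf
open Cfsg.Agent.KFacts.FiTF.Defs

/-- **the sheet of type (E) of `Fi24'`** -/
theorem sheetE : D8.Sheet.SheetE (Abs.zK frame) (E.subgroupOf (commutator Spor.Fi24))
    (R.subgroupOf (commutator Spor.Fi24)) := by
  have : Finite Spor.Fi24 := Cfsg.Agent.R08.FiTwentyFour.finite_Fi24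
  exact frame.sheetE_of (SheetMFi.der_E frame Order.card)

end Cfsg.Agent.KFacts.FiTF
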