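import Cfsg.Agent.KFacts.FiTF.Abs
import Cfsg.Agent.OddHalf.CaseM.Sheet

/-!
# `Fi24'`: the sheet of case (M) (helper411)

`P := E.subgroupOf K`, `R := R.subgroupOf K`, `SheetM` by `CaseM.SheetM.of_quasisimple` with `p = 7`, `w = 6`.
Inputs besides `Frame`: the dichotomy for the `E`-invariant subgroups between `R` and `E` (helper528),
`|C_F(z)| = 321052999680` (helper73), `|E| ≥ 9797760 * 8192` (helper130).

`Frame.der_E`: some term of the derived series of `C_K(z)` lies in `E`. `Frame.relIndex_E`: `|C_K(z) : E| ≤ 2`.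
`Frame.exists_seven`: an element of order 7 of `E` noncentral modulo `R`.
-/

set_option autoImplicit false

namespace Cfsg.Agent.KFacts.FiTF

open Subgroup Cfsg.Agent.OddHalf
open scoped commutatorElement

variable {F : Type*} [Group F] {K : Subgroup F} {z : F} {R E : Subgroup F} {Om : Set F}

namespace Abs

theorem centralizer_zK (h : Frame K z R E Om) :
    centralizer ({zK h} : Set K) = (centralizer ({z} : Set F)).subgroupOf K := by
  ext x
  rw [mem_centralizer_singleton_iff, mem_subgroupOf, mem_centralizer_singleton_iff]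
  exact ⟨fun hx => congrArg Subtype.val hx, fun hx => Subtype.ext hx⟩

/-- `|C_F(z) : C_K(z)| = 2` -/
theorem card_CK [Finite F] (h : Frame K z R E Om) :
    Nat.card (centralizer ({zK h} : Set K)) * 2 = Nat.card (centralizer ({z} : Set F)) := by
  have hn := h.nK
  have h3 : K.relIndex (centralizer ({z} : Set F)) ∣ 2 := by
    rw [← h.two]; exact relIndex_dvd_index_of_normal _ _
  have h4 : K.relIndex (centralizer ({z} : Set F)) ≠ 1 := by
    obtain ⟨_, _, t, htK, htz, _⟩ := h.yt
    intro h5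
    rw [relIndex_eq_one] at h5
    exact htK (h5 (mem_centralizer_singleton_iff.2 htz))
  have h5 : K.relIndex (centralizer ({z} : Set F)) = 2 := ((Nat.dvd_prime Nat.prime_two).1 h3).resolve_left h4
  have h6 := (K.subgroupOf (centralizer ({z} : Set F))).card_mul_index
  rw [← relIndex, h5] at h6
  rw [← h6, centralizer_zK h]
  congr 1
  -- both are `K ⊓ C`
  have e1 : Nat.card ((centralizer ({z} : Set F)).subgroupOf K) = Nat.card (centralizer ({z} : Set F) ⊓ K : Subgroup F) := by
    rw [← subgroupOf_map_subtype]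
    exact Nat.card_congr (((centralizer ({z} : Set F)).subgroupOf K).equivMapOfInjective K.subtype
      K.subtype_injective).toEquiv
  have e2 : Nat.card (K.subgroupOf (centralizer ({z} : Set F))) = Nat.card (K ⊓ centralizer ({z} : Set F) : Subgroup F) := by
    rw [← subgroupOf_map_subtype]
    exact Nat.card_congr ((K.subgroupOf (centralizer ({z} : Set F))).equivMapOfInjective
      (centralizer ({z} : Set F)).subtype (centralizer ({z} : Set F)).subtype_injective).toEquiv
  rw [e1, e2, inf_comm]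

theorem E_le_CK (h : Frame K z R E Om) : E.subgroupOf K ≤ centralizer ({zK h} : Set K) := by
  intro x hx
  rw [mem_centralizer_singleton_iff]
  exact Subtype.ext (h.Ez x hx)

theorem card_EK (h : Frame K z R E Om) : Nat.card (E.subgroupOf K) = Nat.card E :=
  Nat.card_congr (subgroupOfEquivOfLe h.EK).toEquiv

theorem card_RK (h : Frame K z R E Om) : Nat.card (R.subgroupOf K) = 8192 := by
  rw [← h.cardR]
  exact Nat.card_congr (subgroupOfEquivOfLe (h.RE.trans h.EK)).toEquiv

theorem rel_mul [Finite F] (h : Frame K z R E Om) :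
    Nat.card E * (E.subgroupOf K).relIndex (centralizer ({zK h} : Set K)) =
      Nat.card (centralizer ({zK h} : Set K)) := by
  have h1 := ((E.subgroupOf K).subgroupOf (centralizer ({zK h} : Set K))).card_mul_index
  rw [Nat.card_congr (subgroupOfEquivOfLe (E_le_CK h)).toEquiv, card_EK h] at h1
  exact h1

/-- `|C_K(z) : E| ≤ 2` -/
theorem relIndex_E [Finite F] (h : Frame K z R E Om) (hC : Nat.card (centralizer ({z} : Set F)) = 321052999680)
    (hE : 9797760 * 8192 ≤ Nat.card E) : (E.subgroupOf K).relIndex (centralizer ({zK h} : Set K)) = 1 ∨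
      (E.subgroupOf K).relIndex (centralizer ({zK h} : Set K)) = 2 := by
  have h1 := card_CK h
  have h2 := rel_mul h
  rw [hC] at h1
  have h3 : Nat.card (centralizer ({zK h} : Set K)) = 160526499840 := by omega
  rw [h3] at h2
  set r := (E.subgroupOf K).relIndex (centralizer ({zK h} : Set K)) with hr
  have h4 : r ≤ 2 := by
    by_contra hcon
    have h5 : Nat.card E * 3 ≤ Nat.card E * r := Nat.mul_le_mul_left _ (by omega)
    omega
  have h5 : r ≠ 0 := by
    intro h5
    rw [h5, mul_zero] at h2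
    omega
  omega

theorem seven_dvd [Finite F] (h : Frame K z R E Om) (hC : Nat.card (centralizer ({z} : Set F)) = 321052999680)
    (hE : 9797760 * 8192 ≤ Nat.card E) : 7 ∣ Nat.card E := by
  have h1 := card_CK h
  have h2 := rel_mul h
  rw [hC] at h1
  rcases relIndex_E h hC hE with h3 | h3
  · rw [h3] at h2
    exact ⟨22932357120, by omega⟩
  · rw [h3] at h2
    exact ⟨11466178560, by omega⟩

/-- some term of the derived series of `C_K(z)` lies in `E` -/
theorem der_E [Finite F] (h : Frame K z R E Om) (hC : Nat.card (centralizer ({z} : Set F)) = 321052999680)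
    (hE : 9797760 * 8192 ≤ Nat.card E) : ∃ m, TR.dser m (centralizer ({zK h} : Set K)) ≤ E.subgroupOf K := by
  rcases relIndex_E h hC hE with h3 | h3
  · refine ⟨0, ?_⟩
    rw [TR.dser_zero]
    exact relIndex_eq_one.1 h3
  · refine ⟨1, ?_⟩
    rw [show (1 : ℕ) = 0 + 1 by rfl, TR.dser_succ', TR.dser_zero, commutator_le]
    intro a ha b hb
    have h4 : ((E.subgroupOf K).subgroupOf (centralizer ({zK h} : Set K))).index = 2 := h3
    have h5 : ⁅(⟨a, ha⟩ : centralizer ({zK h} : Set K)), ⟨b, hb⟩⁆ ∈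
        (E.subgroupOf K).subgroupOf (centralizer ({zK h} : Set K)) := by
      rw [commutatorElement_def, mul_mem_iff_of_index_two h4, mul_mem_iff_of_index_two h4,
        mul_mem_iff_of_index_two h4, inv_mem_iff, inv_mem_iff]
      tauto
    exact h5

/-- an element of order 7 of `E` is not central modulo `R` -/
theorem seven_not_central [Finite F] (h : Frame K z R E Om) {x : F} (hx : x ∈ E) (h7 : x ^ 7 = 1) (hx1 : x ≠ 1) :
    ∃ y ∈ E, x * y * x⁻¹ * y⁻¹ ∉ R := by
  by_contra hcon
  push Not at hcon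
  have hxz := h.Ez x hx
  have hz1 : z⁻¹ = z := inv_eq_of_mul_eq_one_left h.zz
  have hRz : ∀ r ∈ R, r * z = z * r := fun r hr => h.Ez r (h.RE hr)
  have hxzx : x * z * x⁻¹ = z := by rw [hxz, mul_inv_cancel_right]
  -- `R` acts trivially on `R/⟨z⟩`
  have htriv : ∀ r ∈ R, ∀ u ∈ R, r * u * r⁻¹ = u ∨ r * u * r⁻¹ = u * z := by
    intro r hr u hu
    rcases h.com r hr u hu with h1 | h1
    · left; rw [h1, mul_inv_cancel_right]
    · right
      rw [h1]
      have := hRz u hu
      calc z * (u * r) * r⁻¹ = z * u := by group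
        _ = u * z := this.symm
  -- conjugation by `g ∈ E` commutes with conjugation by `x` on `R/⟨z⟩`
  have hcomm : ∀ g ∈ E, ∀ u ∈ R, ∀ v ∈ R, (g * u * g⁻¹ = v ∨ g * u * g⁻¹ = v * z) →
      g * (x * u * x⁻¹) * g⁻¹ = x * v * x⁻¹ ∨ g * (x * u * x⁻¹) * g⁻¹ = x * v * x⁻¹ * z := by
    intro g hg u hu v hv huv
    have hr := R.inv_mem (hcon g hg)
    set r := (x * g * x⁻¹ * g⁻¹)⁻¹ with hrdef
    have e : g * (x * u * x⁻¹) * g⁻¹ = r * (x * (g * u * g⁻¹) * x⁻¹) * r⁻¹ := by
      rw [hrdef]; group
    have hxv : x * v * x⁻¹ ∈ R := h.norm x hxz v hv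
    rw [e]
    rcases huv with h1 | h1 <;> rw [h1]
    · exact htriv r hr _ hxv
    · have e2 : x * (v * z) * x⁻¹ = x * v * x⁻¹ * z := by
        calc x * (v * z) * x⁻¹ = x * v * x⁻¹ * (x * z * x⁻¹) := by group
          _ = _ := by rw [hxzx]
      have hrz := hRz r hr
      have e3 : r * (x * v * x⁻¹ * z) * r⁻¹ = r * (x * v * x⁻¹) * r⁻¹ * z := by
        calc r * (x * v * x⁻¹ * z) * r⁻¹ = r * (x * v * x⁻¹) * (z * r⁻¹) := by group
          _ = r * (x * v * x⁻¹) * (r⁻¹ * z) := by
            rw [show z * r⁻¹ = r⁻¹ * z by rw [eq_inv_mul_iff_mul_eq, ← mul_assoc, hrz]; group]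
          _ = _ := by group
      rw [e2, e3]
      rcases htriv r hr _ hxv with h2 | h2 <;> rw [h2]
      · exact Or.inr rfl
      · left; rw [mul_assoc, h.zz, mul_one]
  -- `x` normalises `T`
  obtain ⟨D, T, hDE, hzT, hTR, hT8, hDT, hTmax⟩ := h.line
  have hxT : ∀ t ∈ T, x * t * x⁻¹ ∈ T := by
    intro t ht
    exact hTmax _ (h.norm x hxz t (hTR ht)) fun d hd => hcomm d (hDE hd) t (hTR ht) t (hTR ht) (hDT d hd t ht)
  -- `x` centralises `T`
  have hxTc : ∀ t ∈ T, x * t * x⁻¹ = t := by
    classical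
    have hfin : Fintype T := Fintype.ofFinite T
    have hpow : ∀ n : ℕ, ∀ t ∈ T, x ^ n * t * (x ^ n)⁻¹ ∈ T := by
      intro n
      induction n with
      | zero => intro t ht; simpa using ht
      | succ n ih =>
        intro t ht
        have := hxT _ (ih t ht)
        have e : x ^ (n + 1) * t * (x ^ (n + 1))⁻¹ = x * (x ^ n * t * (x ^ n)⁻¹) * x⁻¹ := by
          rw [pow_succ']; group
        rwa [e]
    have hx6 : x ^ 6 = x⁻¹ := by
      rw [eq_inv_iff_mul_eq_one, ← pow_succ]; exact h7
    have hxTi : ∀ t ∈ T, x⁻¹ * t * x ∈ T := by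
      intro t ht
      have := hpow 6 t ht
      rwa [hx6, inv_inv] at this
    let σ : Equiv.Perm T :=
      { toFun := fun t => ⟨x * t * x⁻¹, hxT t t.2⟩
        invFun := fun t => ⟨x⁻¹ * t * x, hxTi t t.2⟩
        left_inv := fun t => Subtype.ext (by show x⁻¹ * (x * t * x⁻¹) * x = t; group)
        right_inv := fun t => Subtype.ext (by show x * (x⁻¹ * t * x) * x⁻¹ = t; group) }
    have hσn : ∀ n : ℕ, ∀ t : T, (((σ ^ n) t : T) : F) = x ^ n * t * (x ^ n)⁻¹ := by
      intro n
      induction n with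
      | zero => intro t; simp
      | succ n ih =>
        intro t
        rw [pow_succ', Equiv.Perm.mul_apply]
        show x * ((σ ^ n) t : T) * x⁻¹ = _
        rw [ih, pow_succ']; group
    have hσ7 : σ ^ 7 ^ 1 = 1 := by
      apply Equiv.ext
      intro t
      apply Subtype.ext
      rw [pow_one, hσn, h7, Equiv.Perm.one_apply]
      group
    have : Fact (Nat.Prime 7) := ⟨by norm_num⟩
    have h1 := Equiv.Perm.card_compl_support_modEq hσ7
    have hc8 : Fintype.card T = 8 := by rw [← Nat.card_eq_fintype_card]; exact hT8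
    rw [hc8] at h1
    have h2 : ({1, ⟨z, hzT⟩} : Finset T) ⊆ σ.supportᶜ := by
      intro t ht
      rw [Finset.mem_compl, Equiv.Perm.notMem_support]
      rw [Finset.mem_insert, Finset.mem_singleton] at ht
      rcases ht with rfl | rfl
      · apply Subtype.ext
        show x * 1 * x⁻¹ = 1
        group
      · apply Subtype.ext
        exact hxzx
    have h3 : ({1, ⟨z, hzT⟩} : Finset T).card = 2 := by
      rw [Finset.card_insert_of_notMem, Finset.card_singleton]
      rw [Finset.mem_singleton]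
      intro h4
      exact h.z1 (congrArg Subtype.val h4).symm
    have h4 := Finset.card_le_card h2
    rw [h3] at h4
    have h5 : σ.supportᶜ.card ≤ 8 := by rw [← hc8]; exact Finset.card_le_univ _
    have h6 : σ.supportᶜ.card = 8 := by
      have h8 : σ.supportᶜ.card % 7 = 1 := h1
      omega
    have h7' : σ.supportᶜ = Finset.univ := Finset.eq_univ_of_card _ (by rw [h6, hc8])
    intro t ht
    have h8 : (⟨t, ht⟩ : T) ∈ σ.supportᶜ := by rw [h7']; exact Finset.mem_univ _
    rw [Finset.mem_compl, Equiv.Perm.notMem_support] at h8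
    exact congrArg Subtype.val h8
  -- some element of `T` outside `⟨z⟩`
  obtain ⟨t, ht, ht1, htz⟩ : ∃ t ∈ T, t ≠ 1 ∧ t ≠ z := by
    by_contra hcon2
    push Not at hcon2
    have h1 : (T : Set F) ⊆ {1, z} := by
      intro t ht
      by_cases h2 : t = 1
      · exact Or.inl h2
      · exact Or.inr (hcon2 t ht h2)
    have h2 := Set.ncard_le_ncard h1 (Set.toFinite _)
    have h3 : (T : Set F).ncard = 8 := hT8
    have h4 : ({1, z} : Set F).ncard ≤ 2 := Set.ncard_insert_le 1 {z} |>.trans (by rw [Set.ncard_singleton])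
    omega
  -- the subgroup of `R` fixed modulo `z`
  let B : Subgroup F :=
    { carrier := {u | u ∈ R ∧ (x * u * x⁻¹ = u ∨ x * u * x⁻¹ = u * z)}
      one_mem' := ⟨R.one_mem, Or.inl (by group)⟩
      mul_mem' := by
        rintro a b ⟨ha, ha'⟩ ⟨hb, hb'⟩
        refine ⟨R.mul_mem ha hb, ?_⟩
        have e : x * (a * b) * x⁻¹ = (x * a * x⁻¹) * (x * b * x⁻¹) := by group
        have hbz := hRz b hb
        rw [e]
        rcases ha' with h1 | h1 <;> rcases hb' with h2 | h2 <;> rw [h1, h2]
        · exact Or.inl rfl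
        · right; group
        · right; rw [mul_assoc, ← hbz]; group
        · left
          calc a * z * (b * z) = a * (z * b) * z := by group
            _ = a * b * (z * z) := by rw [← hbz]; group
            _ = a * b := by rw [h.zz, mul_one]
      inv_mem' := by
        rintro a ⟨ha, ha'⟩
        refine ⟨R.inv_mem ha, ?_⟩
        have e : x * a⁻¹ * x⁻¹ = (x * a * x⁻¹)⁻¹ := by group
        rw [e]
        rcases ha' with h1 | h1 <;> rw [h1]
        · exact Or.inl rfl
        · right
          have := hRz _ (R.inv_mem ha)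
          rw [mul_inv_rev, hz1]; exact this.symm }
  have hB := h.irr B (fun u hu => hu.1) (by
    rintro g hg u ⟨hu, hu'⟩
    have hgu : g * u * g⁻¹ ∈ R := h.norm g (h.Ez g hg) u hu
    refine ⟨hgu, ?_⟩
    -- conjugate by `g⁻¹`
    have h1 := hcomm g hg u hu _ hgu (Or.inl rfl)
    have hgz := h.Ez g hg
    have hgz' : z * g⁻¹ = g⁻¹ * z := by rw [eq_inv_mul_iff_mul_eq, ← mul_assoc, hgz]; group
    -- `g (x u x⁻¹) g⁻¹` is `g u g⁻¹` up to `z`
    have h2 : g * (x * u * x⁻¹) * g⁻¹ = g * u * g⁻¹ ∨ g * (x * u * x⁻¹) * g⁻¹ = g * u * g⁻¹ * z := by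
      rcases hu' with h3 | h3 <;> rw [h3]
      · exact Or.inl rfl
      · right
        calc g * (u * z) * g⁻¹ = g * u * (z * g⁻¹) := by group
          _ = _ := by rw [hgz']; group
    rcases h1 with h1 | h1 <;> rcases h2 with h2 | h2 <;> rw [h1] at h2
    · exact Or.inl h2
    · exact Or.inr h2
    · right
      calc x * (g * u * g⁻¹) * x⁻¹ = x * (g * u * g⁻¹) * x⁻¹ * z * z := by
            rw [mul_assoc (x * (g * u * g⁻¹) * x⁻¹), h.zz, mul_one]
        _ = g * u * g⁻¹ * z := by rw [h2]
    · left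
      exact mul_right_cancel h2)
  have hBR : B = R := by
    rcases hB with h1 | h1
    · exfalso
      rcases h1 t ⟨hTR ht, Or.inl (hxTc t ht)⟩ with h2 | h2
      · exact ht1 h2
      · exact htz h2
    · exact h1
  have hxR : ∀ u ∈ R, x * u = u * x := by
    intro u hu
    have h1 : u ∈ B := by rw [hBR]; exact hu
    rcases h1.2 with h2 | h2
    · exact mul_inv_eq_iff_eq_mul.1 h2
    · exfalso
      have h3 : ∀ n : ℕ, x ^ n * u * (x ^ n)⁻¹ = u * z ^ n := by
        intro n
        induction n with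
        | zero => simp
        | succ n ih =>
          have e : x ^ (n + 1) * u * (x ^ (n + 1))⁻¹ = x * (x ^ n * u * (x ^ n)⁻¹) * x⁻¹ := by
            rw [pow_succ']; group
          have e2 : x * z ^ n * x⁻¹ = z ^ n := by
            have hc : Commute x z := hxz
            rw [(hc.pow_right n).eq, mul_inv_cancel_right]
          rw [e, ih]
          calc x * (u * z ^ n) * x⁻¹ = (x * u * x⁻¹) * (x * z ^ n * x⁻¹) := by group
            _ = u * z * z ^ n := by rw [h2, e2]
            _ = u * z ^ (n + 1) := by rw [pow_succ']; group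
      have h4 := h3 7
      rw [h7, one_mul, inv_one, mul_one] at h4
      have h5 : z ^ 7 = 1 := (mul_eq_left.1 h4.symm)
      have h6 : z ^ 7 = z := by
        have : z ^ 2 = 1 := by rw [pow_two, h.zz]
        calc z ^ 7 = (z ^ 2) ^ 3 * z := by group
          _ = z := by rw [this, one_pow, one_mul]
      exact h.z1 (h6.symm.trans h5)
  rcases h.cent x hxR with h1 | h1
  · exact hx1 h1
  · have h6 : z ^ 7 = z := by
      have : z ^ 2 = 1 := by rw [pow_two, h.zz]
      calc z ^ 7 = (z ^ 2) ^ 3 * z := by group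
        _ = z := by rw [this, one_pow, one_mul]
    rw [h1] at h7
    exact h.z1 (h6.symm.trans h7)

/-- `|Aut K : Inn K|` is a power of 2 -/
theorem out_pow [Finite F] (h : Frame K z R E Om) : ∃ n, (MulAut.conj : K →* MulAut K).range.index = 2 ^ n := by
  obtain ⟨P, hP⟩ := exists_PS h
  have hnK : K.Normal := h.nK
  have hrange : (MulAut.conj : K →* MulAut K).range = K.map (MulAut.conjNormal : F →* MulAut K) := by
    ext α
    constructor
    · rintro ⟨k, rfl⟩
      exact ⟨k, k.2, MulAut.conjNormal_val⟩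
    · rintro ⟨k, hk, rfl⟩
      exact ⟨⟨k, hk⟩, (MulAut.conjNormal_val (h := ⟨k, hk⟩)).symm⟩
  have hsurj : Function.Surjective (MulAut.conjNormal : F →* MulAut K) := fun α => by
    obtain ⟨g, hg⟩ := aut_all hP α
    exact ⟨g, hg.symm⟩
  have h5 := Subgroup.index_map_dvd K hsurj
  rw [h.two, ← hrange] at h5
  rcases (Nat.dvd_prime Nat.prime_two).1 h5 with h6 | h6
  · exact ⟨0, h6⟩
  · exact ⟨1, h6⟩

end Abs

open Abs

/-- **`SheetM`** -/
theorem Frame.sheetM [Finite F] (h : Frame K z R E Om)
    (hE : D8.Sheet.SheetE (zK h) (E.subgroupOf K) (R.subgroupOf K))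
    (hC : Nat.card (centralizer ({z} : Set F)) = 321052999680) (hcE : 9797760 * 8192 ≤ Nat.card E)
    (hd : ∀ N : Subgroup F, N ≤ E → R ≤ N → (∀ e ∈ E, ∀ n ∈ N, e * n * e⁻¹ ∈ N) →
      (∀ n ∈ N, ∀ e ∈ E, n * e * n⁻¹ * e⁻¹ ∈ R) ∨ N = E) :
    CaseM.SheetM (E.subgroupOf K) (R.subgroupOf K) := by
  have h7 : ∃ x ∈ E, x ^ 7 = 1 ∧ x ≠ 1 := by
    have : Fact (Nat.Prime 7) := ⟨by norm_num⟩
    obtain ⟨x, hx⟩ := exists_prime_orderOf_dvd_card' 7 (seven_dvd h hC hcE)
    refine ⟨x, x.2, ?_, ?_⟩
    · have := pow_orderOf_eq_one x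
      rw [hx] at this
      exact congrArg Subtype.val this
    · intro h1
      have h2 : x = 1 := Subtype.ext h1
      rw [h2, orderOf_one] at hx
      norm_num at hx
  obtain ⟨x, hx, hx7, hx1⟩ := h7
  obtain ⟨y, hy, hxy⟩ := seven_not_central h hx hx7 hx1
  refine CaseM.SheetM.of_quasisimple hE ?_ (p := 7) (w := 6) (by norm_num) (by norm_num) ?_
    (x := ⟨x, h.EK hx⟩) (y := ⟨y, h.EK hy⟩) hx ?_ hy hxy (out_pow h) ?_
  · -- dichotomy
    intro N hNE hRN hN
    have hmapN : N.map K.subtype ≤ E := by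
      rintro _ ⟨n, hn, rfl⟩
      exact hNE hn
    have hRN' : R ≤ N.map K.subtype := by
      intro r hr
      exact ⟨⟨r, h.EK (h.RE hr)⟩, hRN hr, rfl⟩
    rcases hd (N.map K.subtype) hmapN hRN' (by
      rintro e he _ ⟨n, hn, rfl⟩
      exact ⟨_, hN ⟨e, h.EK he⟩ he n hn, rfl⟩) with h1 | h1
    · left
      rw [commutator_le]
      intro n hn e he
      exact h1 n ⟨n, hn, rfl⟩ e he
    · right
      apply le_antisymm hNE
      intro e he
      have h2 : (e : F) ∈ N.map K.subtype := by rw [h1]; exact he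
      obtain ⟨n, hn, h3⟩ := h2
      have h4 : n = e := Subtype.ext h3
      rw [← h4]; exact hn
  · rw [card_RK h]; norm_num
  · apply IsPGroup.of_card (n := 1)
    rw [Nat.card_zpowers, pow_one]
    have : Fact (Nat.Prime 7) := ⟨by norm_num⟩
    exact orderOf_eq_prime (Subtype.ext hx7) (fun h1 => hx1 (congrArg Subtype.val h1))
  · rcases relIndex_E h hC hcE with h1 | h1
    · exact ⟨0, h1⟩
    · exact ⟨1, h1⟩

end Cfsg.Agent.KFacts.FiTF
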