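import Cfsg.Agent.KFacts.FiTF.QuasiA
import Cfsg.Agent.KFacts.FiTF.FixZ
import Cfsg.Agent.KFacts.FiTF.SubOrbChk

/-!
# `Fi24'`: the suborbits 320 and 180 of `l` on the 504 transpositions commuting with `z`
-/

set_option autoImplicit false
set_option maxRecDepth 100000

namespace Cfsg.Agent.KFacts.FiTF.SubOrb

open Cfsg Cfsg.Spor
open Cfsg.Spor.Fi24 (Gen)
open Cfsg.Agent.Lib.PermNet Cfsg.Agent.Lib.PermNetOrbit Cfsg.Agent.Fischer.Fi24RepLib
open Cfsg.Agent.Lib.PermNetPt
open Cfsg.Agent.Fischer.Fi24RepDef Cfsg.Agent.Fischer.Fi24Rep Cfsg.Agent.Fischer.Fi24RepOrb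
open Cfsg.Agent.Fischer.Fi24Spider (gword)
open Cfsg.Agent.R08.FiTwentyFour (L)
open Cfsg.Agent.KFacts.FiTF.Defs Cfsg.Agent.KFacts.FiTF.Pts Cfsg.Agent.KFacts.FiTF.FixZChk
open Cfsg.Agent.KFacts.FiTF.SubOrbChk Cfsg.Agent.KFacts.FiTF.FixZ

/-- the transpositions commuting with `z` and `l` -/
def Dl : Set Fi24 := {d | d ∈ Dz ∧ d * gen .l = gen .l * d}

/-- the group they generate -/
def W1 : Subgroup Fi24 := Subgroup.closure Dl

theorem W1_l {w : Fi24} (hw : w ∈ W1) : w * gen .l = gen .l * w := by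
  have h1 : W1 ≤ Subgroup.centralizer {gen .l} := by
    rw [W1, Subgroup.closure_le]
    intro d hd
    exact Subgroup.mem_centralizer_singleton_iff.2 hd.2
  exact Subgroup.mem_centralizer_singleton_iff.1 (h1 hw)

theorem W1_z {w : Fi24} (hw : w ∈ W1) : w * z = z * w := by
  have h1 : W1 ≤ Subgroup.centralizer {z} := by
    rw [W1, Subgroup.closure_le]
    intro d hd
    exact Subgroup.mem_centralizer_singleton_iff.2 hd.1.2
  exact Subgroup.mem_centralizer_singleton_iff.1 (h1 hw)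

/-- the six words -/
def S6 : Set Fi24 := {g | ∃ l ∈ uw, word l = g}

theorem chk_g : chkPt (nw ([] ++ gword .g) false) 0 gp = true := by decide +kernel

theorem isPt_g : IsPt (gen .g) gp := by
  have h := IsPt.of_word (u := []) (x := .g) chk_g
  rwa [tr_eq, Cfsg.Agent.Fischer.Fi24Spider.word_nil, inv_one, mul_one, one_mul] at h

theorem g_mem : gen .g ∈ Dz := (mem_Dz_iff isPt_g).2 (by rw [← tb_eq]; exact tbg)

theorem S6_sub : S6 ⊆ Dl := by
  rintro g ⟨l, hl, rfl⟩
  have h0 : rho (word l) 0 = 0 := by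
    rw [rho_word]
    exact fixB_spec (nws_ok uw) fixl _ (List.mem_map_of_mem hl)
  refine ⟨?_, (fix_iff _).1 h0⟩
  unfold uw at hl
  simp only [List.mem_cons, List.not_mem_nil, or_false] at hl
  rcases hl with rfl | rfl | rfl | rfl | rfl | rfl
  · exact RQ.D_mem_Dz (t := 2) (i := 0) (by norm_num) (by norm_num)
  · exact RQ.D_mem_Dz (t := 3) (i := 0) (by norm_num) (by norm_num)
  · exact RQ.D_mem_Dz (t := 4) (i := 0) (by norm_num) (by norm_num)
  · exact RQ.D_mem_Dz (t := 5) (i := 0) (by norm_num) (by norm_num)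
  · have h1 : word [Gen.g] = gen .g := by unfold word; simp
    rw [h1]
    exact g_mem
  · exact RQ.D_mem_Dz (t := 2) (i := 1) (by norm_num) (by norm_num)

theorem orb1 : {p : ℕ | ∃ x ∈ Subgroup.closure S6, rho x 305392 = p} = {p | F1.testBit p = true} :=
  orbit_closure_eq' rho S6 (nws_ok uw) (nws_ok uw) (hS uw) (hS' uw S6 (fun l hl => ⟨l, hl, rfl⟩)) sat1 closed1 tb1

theorem orb2 : {p : ℕ | ∃ x ∈ Subgroup.closure S6, rho x 136 = p} = {p | F2.testBit p = true} :=
  orbit_closure_eq' rho S6 (nws_ok uw) (nws_ok uw) (hS uw) (hS' uw S6 (fun l hl => ⟨l, hl, rfl⟩)) sat2 closed2 tb2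

theorem rho_l (p : ℕ) : rho (gen .l) p = wperm (nw [.l] false) p := by
  rw [← rho_word]
  have h1 : word [Gen.l] = gen .l := by unfold word; simp
  rw [h1]

theorem bit15 {p : ℕ} (h : (15 : ℕ).testBit p = true) : p < 4 := by
  by_contra hc
  have h1 : (15 : ℕ) < 2 ^ p := lt_of_lt_of_le (by norm_num : (15 : ℕ) < 2 ^ 4) (Nat.pow_le_pow_right (by norm_num) (by omega))
  rw [Nat.testBit_lt_two_pow h1] at h
  exact absurd h (by simp)

/-- the three types of points of `FZ` -/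
theorem cases {d : Fi24} {p : ℕ} (hp : IsPt d p) (hd : d ∈ Dz) :
    (F1.testBit p = true ∧ d * gen .l ≠ gen .l * d) ∨ (F2.testBit p = true ∧ d * gen .l = gen .l * d) ∨
      (p < 4 ∧ d * gen .l = gen .l * d) := by
  have hF := (mem_Dz_iff hp).1 hd
  have hlt := lt_of_UG (isPt_UG hp)
  have h0 := mv_iff (wok [.l] false) hlt
  have h1 : d * gen .l = gen .l * d ↔ wperm (nw [.l] false) p = p := by
    rw [← rho_l, ← hp.comm_iff]
    exact eq_comm
  rcases cov_spec cov hF with h2 | h2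
  · left
    exact ⟨h2, fun h => h0.1 (sub_spec mv1 h2) (h1.1 h)⟩
  · right
    have h3 : wperm (nw [.l] false) p = p := by
      by_contra hc
      exact dis_spec mv2 (h0.2 hc) h2
    have h4 : (F2 ||| 15).testBit p = true := h2
    rw [Nat.testBit_or, Bool.or_eq_true] at h4
    rcases h4 with h4 | h4
    · exact Or.inl ⟨h4, h1.2 h3⟩
    · exact Or.inr ⟨bit15 h4, h1.2 h3⟩

theorem S6_le : Subgroup.closure S6 ≤ W1 := Subgroup.closure_mono S6_sub

/-- **(T1)** the 320 transpositions not commuting with `l` -/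
theorem T1 : ∀ d ∈ Dz, d * gen .l ≠ gen .l * d → ∃ w ∈ W1, w * D 1 0 * w⁻¹ = d := by
  intro d hd hl
  have hp := pt_spec hd.1
  rcases cases hp hd with h1 | h1 | h1
  · have h2 : pt d ∈ {p : ℕ | ∃ x ∈ Subgroup.closure S6, rho x 305392 = p} := by rw [orb1]; exact h1.1
    obtain ⟨w, hw, hw'⟩ := h2
    have h3 : IsPt (D 1 0) 305392 := Tet.isPt (t := 1) (i := 0) (by norm_num) (by norm_num)
    exact ⟨w, S6_le hw, (h3.conj' hw').inj hp⟩
  · exact absurd h1.2 hl
  · exact absurd h1.2 hl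

/-- **(T2)** the 180 transpositions commuting with `l` outside the tetrad of `l` -/
theorem T2 : ∀ d ∈ Dz, d * gen .l = gen .l * d → d ≠ D 0 0 → d ≠ D 0 1 → d ≠ D 0 2 → d ≠ D 0 3 →
    ∃ w ∈ W1, w * D 3 0 * w⁻¹ = d := by
  intro d hd hl n0 n1 n2 n3
  have hp := pt_spec hd.1
  rcases cases hp hd with h1 | h1 | h1
  · exact absurd hl h1.2
  · have h2 : pt d ∈ {p : ℕ | ∃ x ∈ Subgroup.closure S6, rho x 136 = p} := by rw [orb2]; exact h1.1
    obtain ⟨w, hw, hw'⟩ := h2
    have h3 : IsPt (D 3 0) 136 := Tet.isPt (t := 3) (i := 0) (by norm_num) (by norm_num)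
    exact ⟨w, S6_le hw, (h3.conj' hw').inj hp⟩
  · exfalso
    obtain ⟨h2, -⟩ := h1
    have key : ∀ i < 4, pt d = i → d = D 0 i := by
      intro i hi he
      have h3 := Tet.isPt (t := 0) (i := i) (by norm_num) hi
      have h4 : P 0 i = i := by interval_cases i <;> rfl
      rw [h4] at h3
      exact IsPt.inj (he ▸ hp) h3
    have : pt d = 0 ∨ pt d = 1 ∨ pt d = 2 ∨ pt d = 3 := by omega
    rcases this with h | h | h | h
    · exact n0 (key 0 (by norm_num) h)
    · exact n1 (key 1 (by norm_num) h)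
    · exact n2 (key 2 (by norm_num) h)
    · exact n3 (key 3 (by norm_num) h)

theorem W1_le : W1 ≤ Subgroup.closure Dz := Subgroup.closure_mono fun _ h => h.1

theorem quasi1 : QuasiA.T1 := by
  intro d hd hl
  obtain ⟨w, hw, h⟩ := T1 d hd hl
  exact ⟨w, W1_le hw, W1_l hw, h⟩

theorem quasi2 : QuasiA.T2 := by
  intro d hd hl h4
  obtain ⟨w, hw, h⟩ := T2 d hd hl (h4 0 (by norm_num)) (h4 1 (by norm_num)) (h4 2 (by norm_num)) (h4 3 (by norm_num))
  exact ⟨w, W1_le hw, W1_l hw, h⟩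

theorem tran : RQ.Tran := FixZ.tran

/-- the numbers -/
theorem ncard_F1 : {p : ℕ | F1.testBit p = true}.ncard = 320 := ncard_testBit (k := 19) (U := F1) (m := 320) lt1 pc1

theorem ncard_F2 : {p : ℕ | F2.testBit p = true}.ncard = 180 := ncard_testBit (k := 19) (U := F2) (m := 180) lt2 pc2

end Cfsg.Agent.KFacts.FiTF.SubOrb
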