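import Cfsg.Agent.KFacts.FiTF.Pts
import Cfsg.Agent.R08.TetFi24A
import Cfsg.Agent.R08.TetThree

/-!
# `Fi24'`: six tetrads of `z`, the extraspecial group `R` in codes
-/

set_option autoImplicit false
set_option maxRecDepth 100000
set_option Elab.async false

namespace Cfsg.Agent.KFacts.FiTF.Tet

open Cfsg Cfsg.Spor Cfsg.Spor.Fi24
open Cfsg.Agent.Lib.PermNet Cfsg.Agent.Lib.PermNetPt Cfsg.Agent.Fischer.Fi24RepDef Cfsg.Agent.Fischer.Fi24Rep
open Cfsg.Agent.Fischer.Fi24Final (gen_sq gen_comm)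
open Cfsg.Agent.Fischer.Fi24Spider
open Cfsg.Agent.R08.FiTwentyFour (L)
open Cfsg.Agent.R08.TetBasic (Tr)
open Cfsg.Agent.R08.TetTwo (IsTet Mate)
open Cfsg.Agent.KFacts.FiTF.Defs Cfsg.Agent.KFacts.FiTF.Pts
open Cfsg.Agent.KFacts.FiTF.Om (B Y S)
open Cfsg.Agent.LargeExtra.Model Cfsg.Agent.LargeExtra.Pres
open Cfsg.Agent.KFacts.Codes

/-! ### Words and point evaluations -/

/-- the word of `D t i` -/
def wD (t i : ℕ) : List Gen := U t i ++ X t i :: (U t i).reverse

theorem word_wD (t i : ℕ) : word (wD t i) = D t i := rfl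

/-- the word of `x j` -/
def wx (j : ℕ) : List Gen := wD (j / 2) 0 ++ wD (j / 2) (j % 2 + 1)

theorem word_wx (j : ℕ) : word (wx j) = x j := by
  unfold wx
  rw [word_append, word_wD, word_wD]
  rfl

/-- the word of `z` -/
def wz : List Gen := [.l, .a, .c, .e]

theorem word_wz : word wz = z := by
  unfold wz z
  simp only [word_cons, word_nil, mul_one, mul_assoc]

theorem chk_pt : ∀ t < 6, ∀ i < 4, chkPt (nw (U t i ++ gword (X t i)) false) 0 (P t i) = true := by
  decide +kernel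

theorem isPt {t i : ℕ} (ht : t < 6) (hi : i < 4) : IsPt (D t i) (P t i) := IsPt.of_word (chk_pt t ht i hi)

theorem chk_z : ∀ t < 6, ∀ i < 4, chkPt (nw wz false) (P t i) (P t i) = true := by decide +kernel

theorem rho_z {t i : ℕ} (ht : t < 6) (hi : i < 4) : rho z (P t i) = P t i := by
  rw [← word_wz]
  exact rho_of_chkPt (chk_z t ht i hi)

theorem z_D {t i : ℕ} (ht : t < 6) (hi : i < 4) : z * D t i = D t i * z :=
  ((isPt ht hi).comm_iff z).2 (rho_z ht hi)

theorem chk_c : ∀ t < 6, ∀ i < 4, ∀ k < 4, chkPt (nw (wD t i) false) (P t k) (P t k) = true := by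
  decide +kernel

theorem D_comm {t i k : ℕ} (ht : t < 6) (hi : i < 4) (hk : k < 4) : D t i * D t k = D t k * D t i :=
  ((isPt ht hk).comm_iff (D t i)).2 (by
    rw [← word_wD]; exact rho_of_chkPt (chk_c t ht i hi k hk))

theorem P_ne : ∀ t < 6, ∀ i < 4, ∀ k < 4, i ≠ k → P t i ≠ P t k := by decide

theorem D_ne {t i k : ℕ} (ht : t < 6) (hi : i < 4) (hk : k < 4) (h : i ≠ k) : D t i ≠ D t k := by
  intro e
  exact P_ne t ht i hi k hk h ((isPt ht hi).uniq (e ▸ isPt ht hk))

theorem D_mem {t i : ℕ} (ht : t < 6) (hi : i < 4) : D t i ∈ L := (isPt ht hi).mem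

theorem D_sq {t i : ℕ} (ht : t < 6) (hi : i < 4) : D t i * D t i = 1 :=
  Cfsg.Agent.R08.FiTwentyFour.sq_L (D_mem ht hi)

/-! ### The tetrads -/

/-- the parent of a tetrad -/
def pa (t : ℕ) : ℕ := [0, 0, 1, 2, 2, 1].getD t 0

/-- the word of `e f e`, `e = D (pa t) 0`, `f = D t 0` -/
def wr (t : ℕ) : List Gen := wD (pa t) 0 ++ wD t 0 ++ wD (pa t) 0

theorem chk_r : ∀ t < 6, 0 < t → ∀ i < 4, chkPt (nw (wr t) false) (P (pa t) i) (P t i) = true := by
  decide +kernel

theorem pa_lt : ∀ t < 6, 0 < t → pa t < 6 := by decide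

theorem word_wr (t : ℕ) : word (wr t) = D (pa t) 0 * D t 0 * D (pa t) 0 := by
  unfold wr
  rw [word_append, word_append, word_wD, word_wD]

theorem conj_pa {t i : ℕ} (ht : t < 6) (h0 : 0 < t) (hi : i < 4) :
    (D (pa t) 0 * D t 0 * D (pa t) 0) * D (pa t) i * (D (pa t) 0 * D t 0 * D (pa t) 0)⁻¹ = D t i := by
  rw [← word_wr]
  exact (isPt (pa_lt t ht h0) hi).conj_eq (isPt ht hi) (rho_of_chkPt (chk_r t ht h0 i hi))

theorem prod_step {t : ℕ} (ht : t < 6) (h0 : 0 < t)
    (h : D (pa t) 0 * D (pa t) 1 * D (pa t) 2 * D (pa t) 3 = z) : D t 0 * D t 1 * D t 2 * D t 3 = z := by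
  have hp := pa_lt t ht h0
  rw [← conj_pa ht h0 (i := 0) (by norm_num), ← conj_pa ht h0 (i := 1) (by norm_num),
    ← conj_pa ht h0 (i := 2) (by norm_num), ← conj_pa ht h0 (i := 3) (by norm_num)]
  rw [conj_pa ht h0 (i := 0) (by norm_num)]
  set g := D (pa t) 0 * D t 0 * D (pa t) 0 with hg
  have hc : g * z = z * g := by
    have e1 := z_D hp (i := 0) (by norm_num)
    have e2 := z_D ht (i := 0) (by norm_num)
    rw [hg]
    calc D (pa t) 0 * D t 0 * D (pa t) 0 * z = D (pa t) 0 * D t 0 * (D (pa t) 0 * z) := by group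
      _ = D (pa t) 0 * (D t 0 * z) * D (pa t) 0 := by rw [← e1]; group
      _ = (D (pa t) 0 * z) * D t 0 * D (pa t) 0 := by rw [← e2]; group
      _ = z * (D (pa t) 0 * D t 0 * D (pa t) 0) := by rw [← e1]; group
  have e0 : D t 0 = g * D (pa t) 0 * g⁻¹ := (conj_pa ht h0 (i := 0) (by norm_num)).symm
  rw [e0]
  calc g * D (pa t) 0 * g⁻¹ * (g * D (pa t) 1 * g⁻¹) * (g * D (pa t) 2 * g⁻¹) * (g * D (pa t) 3 * g⁻¹)
      = g * (D (pa t) 0 * D (pa t) 1 * D (pa t) 2 * D (pa t) 3) * g⁻¹ := by group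
    _ = g * z * g⁻¹ := by rw [h]
    _ = z := by rw [hc]; group

theorem prod0 : D 0 0 * D 0 1 * D 0 2 * D 0 3 = z := by
  show word [Gen.l] * word [Gen.a] * word [Gen.c] * word [Gen.e] = gen .l * gen .a * gen .c * gen .e
  simp only [word_cons, word_nil, mul_one]

theorem prod_D : ∀ t < 6, D t 0 * D t 1 * D t 2 * D t 3 = z := by
  have h0 := prod0
  have h1 : D 1 0 * D 1 1 * D 1 2 * D 1 3 = z := prod_step (t := 1) (by norm_num) (by norm_num) h0
  have h2 : D 2 0 * D 2 1 * D 2 2 * D 2 3 = z := prod_step (t := 2) (by norm_num) (by norm_num) h1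
  have h3 : D 3 0 * D 3 1 * D 3 2 * D 3 3 = z := prod_step (t := 3) (by norm_num) (by norm_num) h2
  have h4 : D 4 0 * D 4 1 * D 4 2 * D 4 3 = z := prod_step (t := 4) (by norm_num) (by norm_num) h2
  have h5 : D 5 0 * D 5 1 * D 5 2 * D 5 3 = z := prod_step (t := 5) (by norm_num) (by norm_num) h1
  intro t ht
  interval_cases t
  · exact h0
  · exact h1
  · exact h2
  · exact h3
  · exact h4
  · exact h5

theorem isTet {t : ℕ} (ht : t < 6) : IsTet L z (D t 0) (D t 1) (D t 2) (D t 3) where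
  ha := D_mem ht (by norm_num)
  hb := D_mem ht (by norm_num)
  hc := D_mem ht (by norm_num)
  hd := D_mem ht (by norm_num)
  ab := D_comm ht (by norm_num) (by norm_num)
  ac := D_comm ht (by norm_num) (by norm_num)
  ad := D_comm ht (by norm_num) (by norm_num)
  bc := D_comm ht (by norm_num) (by norm_num)
  bd := D_comm ht (by norm_num) (by norm_num)
  cd := D_comm ht (by norm_num) (by norm_num)
  nab := D_ne ht (by norm_num) (by norm_num) (by norm_num)
  nac := D_ne ht (by norm_num) (by norm_num) (by norm_num)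
  nad := D_ne ht (by norm_num) (by norm_num) (by norm_num)
  nbc := D_ne ht (by norm_num) (by norm_num) (by norm_num)
  nbd := D_ne ht (by norm_num) (by norm_num) (by norm_num)
  ncd := D_ne ht (by norm_num) (by norm_num) (by norm_num)
  prod := prod_D t ht

theorem tr : Tr L := Cfsg.Agent.R08.TetFi24A.tr

theorem zz : z * z = 1 := (isTet (t := 0) (by norm_num)).sq_s tr

/-! ### The action of the `x j` on the tetrads -/

theorem chk_x : ∀ j < 12, ∀ t < 6, ∀ k < 4,
    chkPt (nw (wx j) false) (P t k) (P t (k ^^^ S j t)) = true := by decide +kernel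

theorem S_lt : ∀ j < 12, ∀ t < 6, S j t < 4 := by decide

theorem xor_lt {a b : ℕ} (ha : a < 4) (hb : b < 4) : a ^^^ b < 4 := Nat.xor_lt_two_pow (n := 2) ha hb

/-- `x j` acts on the tetrad `t` as the translation by `S j t` -/
theorem conj_x {j t k : ℕ} (hj : j < 12) (ht : t < 6) (hk : k < 4) :
    x j * D t k * (x j)⁻¹ = D t (k ^^^ S j t) := by
  rw [← word_wx]
  exact (isPt ht hk).conj_eq (isPt ht (xor_lt hk (S_lt j hj t ht))) (rho_of_chkPt (chk_x j hj t ht k hk))

/-! ### The products of two members of a tetrad -/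

variable {t : ℕ}

theorem D_inv {i : ℕ} (ht : t < 6) (hi : i < 4) : (D t i)⁻¹ = D t i := inv_eq_of_mul_eq_one_left (D_sq ht hi)

/-- the complementary pairs -/
theorem compl23 (ht : t < 6) : D t 2 * D t 3 = z * (D t 0 * D t 1) := (isTet ht).cd_eq tr
theorem compl13 (ht : t < 6) : D t 1 * D t 3 = z * (D t 0 * D t 2) := (isTet ht).sw23.cd_eq tr
theorem compl12 (ht : t < 6) : D t 1 * D t 2 = z * (D t 0 * D t 3) := by
  have h := (isTet ht).sw24.cd_eq tr
  rw [← h]; exact D_comm ht (by norm_num) (by norm_num)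

/-- `z` and `x` -/
theorem x_z {j : ℕ} (hj : j < 12) : x j * z = z * x j := by
  have h1 := z_D (t := j / 2) (i := 0) (by omega) (by norm_num)
  have h2 := z_D (t := j / 2) (i := j % 2 + 1) (by omega) (by omega)
  unfold x
  rw [mul_assoc, ← h2, ← mul_assoc, ← h1, mul_assoc]

theorem x_sq {j : ℕ} (hj : j < 12) : x j * x j = 1 := by
  have ht : j / 2 < 6 := by omega
  have hk : j % 2 + 1 < 4 := by omega
  have hc := D_comm ht (i := 0) (k := j % 2 + 1) (by norm_num) hk
  unfold x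
  calc D (j / 2) 0 * D (j / 2) (j % 2 + 1) * (D (j / 2) 0 * D (j / 2) (j % 2 + 1))
      = D (j / 2) 0 * D (j / 2) (j % 2 + 1) * (D (j / 2) (j % 2 + 1) * D (j / 2) 0) := by rw [← hc]
    _ = D (j / 2) 0 * (D (j / 2) (j % 2 + 1) * D (j / 2) (j % 2 + 1)) * D (j / 2) 0 := by group
    _ = 1 := by rw [D_sq ht hk, mul_one, D_sq ht (by norm_num)]

/-- translation of a pair -/
theorem pair_xor (ht : t < 6) : ∀ k < 4, 0 < k → ∀ s < 4,
    D t (0 ^^^ s) * D t (k ^^^ s) = zp z (decide (s ≠ 0 ∧ s ≠ k)) * (D t 0 * D t k) := by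
  have h1 := compl23 ht
  have h2 := compl13 ht
  have h3 := compl12 ht
  have c01 := D_comm ht (i := 1) (k := 0) (by norm_num) (by norm_num)
  have c02 := D_comm ht (i := 2) (k := 0) (by norm_num) (by norm_num)
  have c03 := D_comm ht (i := 3) (k := 0) (by norm_num) (by norm_num)
  have c12 := D_comm ht (i := 2) (k := 1) (by norm_num) (by norm_num)
  have c13 := D_comm ht (i := 3) (k := 1) (by norm_num) (by norm_num)
  have c23 := D_comm ht (i := 3) (k := 2) (by norm_num) (by norm_num)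
  intro k hk hk0 s hs
  interval_cases k <;> interval_cases s <;> simp [zp, h1, h2, h3, c01, c02, c03, c12, c13, c23]

theorem B_S : ∀ i < 12, ∀ j < i, (B i).testBit j =
    decide (S i (j / 2) ≠ 0 ∧ S i (j / 2) ≠ j % 2 + 1) := by decide

theorem B_diag : ∀ i < 12, (B i).testBit i = false := by decide

/-- **The relations of `R`.** -/
theorem rels : Rels B 12 z x where
  zz := zz
  comm i hi := x_z hi
  sq i hi := by rw [B_diag i hi, x_sq hi]; rfl
  cm i hi j hj := by
    have hj' : j < 12 := by omega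
    have ht : j / 2 < 6 := by omega
    rw [B_S i hi j hj]
    have h1 := conj_x (k := 0) hi ht (by norm_num)
    have h2 := conj_x (k := j % 2 + 1) hi ht (by omega)
    have h3 : x i * x j * (x i)⁻¹ = zp z (decide (S i (j / 2) ≠ 0 ∧ S i (j / 2) ≠ j % 2 + 1)) * x j := by
      have e : x i * x j * (x i)⁻¹ = (x i * D (j / 2) 0 * (x i)⁻¹) * (x i * D (j / 2) (j % 2 + 1) * (x i)⁻¹) := by
        rw [show x j = D (j / 2) 0 * D (j / 2) (j % 2 + 1) from rfl]; group
      rw [e, h1, h2, pair_xor ht (j % 2 + 1) (by omega) (by omega) _ (S_lt i hi _ ht)]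
      rfl
    rw [mul_inv_eq_iff_eq_mul, mul_assoc] at h3
    exact h3

theorem z_ne : z ≠ 1 := by
  intro h
  have h1 := prod_D 0 (by norm_num)
  have h2 := compl23 (t := 0) (by norm_num)
  rw [h, one_mul] at h2
  have hT := isTet (t := 0) (by norm_num)
  exact tr.four _ hT.ha _ hT.hb _ hT.hc _ hT.hd hT.nab hT.nac hT.nad hT.nbc hT.nbd hT.ncd hT.ab hT.ac hT.ad
    hT.bc hT.bd hT.cd h2.symm

/-! ### The action of the `y t` -/

/-- code of `D t 0 * D t s` -/
def pc (t s : ℕ) : ℕ :=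
  if s = 0 then 0 else if s = 1 then 2 ^ (2 * t) else if s = 2 then 2 ^ (2 * t + 1)
  else 4096 + 3 * 2 ^ (2 * t)

theorem pc3 : ∀ t < 6, mulc B 12 4096 (mulc B 12 (2 ^ (2 * t)) (2 ^ (2 * t + 1))) = pc t 3 := by decide +kernel

theorem x_even (t : ℕ) : x (2 * t) = D t 0 * D t 1 := by
  unfold x
  rw [show 2 * t / 2 = t by omega, show 2 * t % 2 = 0 by omega]

theorem x_odd (t : ℕ) : x (2 * t + 1) = D t 0 * D t 2 := by
  unfold x
  rw [show (2 * t + 1) / 2 = t by omega, show (2 * t + 1) % 2 = 1 by omega]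

theorem cod_pc (ht : t < 6) : ∀ s < 4, cod 12 z x (pc t s) = D t 0 * D t s := by
  intro s hs
  interval_cases s
  · show cod 12 z x 0 = _
    rw [cod_zero, D_sq ht (by norm_num)]
  · show cod 12 z x (2 ^ (2 * t)) = _
    rw [cod_pow (by omega), x_even]
  · show cod 12 z x (2 ^ (2 * t + 1)) = _
    rw [cod_pow (by omega), x_odd]
  · rw [← pc3 t ht, ← cod_mul rels Om.tri, ← cod_mul rels Om.tri, cod_pow (by omega), cod_pow (by omega),
      show (4096 : ℕ) = 2 ^ 12 by norm_num, cod_z, x_even, x_odd]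
    have h1 := compl12 ht
    have c1 := D_comm ht (i := 1) (k := 0) (by norm_num) (by norm_num)
    calc z * (D t 0 * D t 1 * (D t 0 * D t 2)) = z * (D t 0 * (D t 1 * D t 0) * D t 2) := by group
      _ = z * ((D t 0 * D t 0) * (D t 1 * D t 2)) := by rw [c1]; group
      _ = z * (z * (D t 0 * D t 3)) := by rw [D_sq ht (by norm_num), one_mul, h1]
      _ = D t 0 * D t 3 := by rw [← mul_assoc, zz, one_mul]

theorem chk_Y : ∀ t < 6, ∀ j < 12, mulc B 12 (pc t (S j t)) (2 ^ j) = Y t j := by decide +kernel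

theorem conj_y (ht : t < 6) {j : ℕ} (hj : j < 12) : y t * x j * (y t)⁻¹ = cod 12 z x (Y t j) := by
  rw [← chk_Y t ht j hj, ← cod_mul rels Om.tri, cod_pc ht _ (S_lt j hj t ht), cod_pow hj]
  have h1 := conj_x (k := 0) hj ht (by norm_num)
  rw [Nat.zero_xor] at h1
  rw [← h1]
  have h2 : (y t)⁻¹ = y t := D_inv ht (by norm_num)
  rw [h2]
  show y t * x j * y t = y t * (x j * y t * (x j)⁻¹) * x j
  group

theorem y_z (ht : t < 6) : y t * z = z * y t := (z_D ht (by norm_num)).symm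

/-- conjugation by `y t` on codes -/
theorem conj_y_cod (ht : t < 6) (c : ℕ) : y t * cod 12 z x c * (y t)⁻¹ = cod 12 z x (act B 12 (Y t) c) :=
  conj_cod rels Om.tri (y_z ht) (fun _ hi => conj_y ht hi) c

end Cfsg.Agent.KFacts.FiTF.Tet
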